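/-
Finite facts about involutions of `Perm (Fin 6)` (helper74, for S3146).
-/
import Cfsg.Agent.Lib.InvCentS6.Enc

set_option autoImplicit false

namespace Cfsg.Agent.Lib.InvCentS6

open Equiv Enc

abbrev S6 := Enc.P6

/-- `(1 2)`. -/
def pA : S6 := swap 0 1
/-- `(3 4)`. -/
def pB : S6 := swap 2 3
/-- `(5 6)`. -/
def pC : S6 := swap 4 5
/-- `(3 4)(5 6)`. -/
def pZ : S6 := pB * pC
/-- `(1 2)(3 4)(5 6)`. -/
def pT : S6 := pA * pZ
/-- `(3 5)(4 6)`. -/
def pE : S6 := swap 2 4 * swap 3 5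
/-- `(1 3)(2 4)`. -/
def pE2 : S6 := swap 0 2 * swap 1 3
/-- Cycles `pA`, `pB`, `pC`. -/
def pP : S6 := swap 0 2 * swap 2 4 * (swap 1 3 * swap 3 5)
/-- A 3-cycle on `{3,4,5}` (in the labelling `1..6`). -/
def pY3 : S6 := swap 2 3 * swap 3 4
def s1 : S6 := swap 2 3
def s2 : S6 := swap 3 4
def s3 : S6 := swap 4 5

/-- All products `x * y`, `x` in the first list and `y` in the second. -/
def prodsL (l m : List S6) : List S6 := l.flatMap fun x => m.map (x * ·)

/-- Elements of the centraliser of `pA`, as explicit words. -/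
def cAList : List S6 :=
  prodsL [1, pA] <| prodsL [1, s1] <| prodsL [1, s2, s2 * s1] [1, s3, s3 * s2, s3 * s2 * s1]

/-- Elements of the centraliser of `pT`, as explicit words. -/
def cTList : List S6 :=
  prodsL [1, pA] <| prodsL [1, pB] <| prodsL [1, pC] [1, pE, pE2, pE * pE2, pE2 * pE, pE * pE2 * pE]

/-- Elements of the centraliser of `pA` and `pZ`, as explicit words. -/
def tKList : List S6 := prodsL [1, pA] <| prodsL [1, pB] <| prodsL [1, pC] [1, pE]

theorem mem_prodsL {H : Subgroup S6} {l m : List S6} (hl : ∀ x ∈ l, x ∈ H) (hm : ∀ x ∈ m, x ∈ H) :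
    ∀ x ∈ prodsL l m, x ∈ H := by
  intro x hx
  obtain ⟨a, ha, hx⟩ := List.mem_flatMap.mp hx
  obtain ⟨b, hb, rfl⟩ := List.mem_map.mp hx
  exact H.mul_mem (hl a ha) (hm b hb)

/-! ### Boolean tests -/

def eA : List ℕ := [1, 0, 2, 3, 4, 5]
def eB : List ℕ := [0, 1, 3, 2, 4, 5]
def eC : List ℕ := [0, 1, 2, 3, 5, 4]
def eZ : List ℕ := [0, 1, 3, 2, 5, 4]
def eT : List ℕ := [1, 0, 3, 2, 5, 4]
def eE : List ℕ := [0, 1, 4, 5, 2, 3]
def eE2 : List ℕ := [2, 3, 0, 1, 4, 5]

theorem enc_pA : enc pA = eA := by decide +kernel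
theorem enc_pB : enc pB = eB := by decide +kernel
theorem enc_pC : enc pC = eC := by decide +kernel
theorem enc_pZ : enc pZ = eZ := by decide +kernel
theorem enc_pT : enc pT = eT := by decide +kernel
theorem enc_pE : enc pE = eE := by decide +kernel
theorem enc_pE2 : enc pE2 = eE2 := by decide +kernel

/-! ### Classes of involutions -/

theorem mv_of_inv2 {σ : S6} (h : Inv2 σ) : mv σ = 2 ∨ mv σ = 4 ∨ mv σ = 6 := by
  have key : ∀ f ∈ invL, mvL f = 2 ∨ mvL f = 4 ∨ mvL f = 6 := by decide +kernel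
  rw [mv_eq]
  exact key _ (mem_invL.mpr h)

theorem mv_pA : mv pA = 2 := by decide +kernel
theorem mv_pB : mv pB = 2 := by decide +kernel
theorem mv_pC : mv pC = 2 := by decide +kernel
theorem mv_pZ : mv pZ = 4 := by decide +kernel
theorem mv_pT : mv pT = 6 := by decide +kernel
theorem inv2_pA : Inv2 pA := by rw [inv2_iff]; decide +kernel
theorem inv2_pB : Inv2 pB := by rw [inv2_iff]; decide +kernel
theorem inv2_pC : Inv2 pC := by rw [inv2_iff]; decide +kernel
theorem inv2_pZ : Inv2 pZ := by rw [inv2_iff]; decide +kernel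
theorem inv2_pT : Inv2 pT := by rw [inv2_iff]; decide +kernel
theorem inv2_pE : Inv2 pE := by rw [inv2_iff]; decide +kernel
theorem inv2_pE2 : Inv2 pE2 := by rw [inv2_iff]; decide +kernel

theorem mv_eq_support (σ : S6) : mv σ = σ.support.card := rfl

theorem cycleType_inv2 {σ : S6} (h : Inv2 σ) :
    σ.cycleType = Multiset.replicate (mv σ / 2) 2 := by
  have hord : orderOf σ = 2 := by
    refine orderOf_eq_prime ?_ h.2
    rw [sq, h.1]
  have : Fact (Nat.Prime 2) := ⟨Nat.prime_two⟩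
  obtain ⟨n, hn⟩ := Equiv.Perm.cycleType_prime_order (σ := σ) (by rw [hord]; exact Nat.prime_two)
  rw [hord] at hn
  have hs := σ.sum_cycleType
  rw [hn, Multiset.sum_replicate, smul_eq_mul] at hs
  rw [hn, mv_eq_support, ← hs]
  congr 1
  omega

theorem inv2_conj {σ : S6} (h : Inv2 σ) (c : S6) : Inv2 (c * σ * c⁻¹) := by
  refine ⟨?_, fun h1 => h.2 ?_⟩
  · rw [show c * σ * c⁻¹ * (c * σ * c⁻¹) = c * (σ * σ) * c⁻¹ by group, h.1]; group
  · have : c⁻¹ * (c * σ * c⁻¹) * c = 1 := by rw [h1]; group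
    rw [← this]; group

theorem exists_conj {σ τ : S6} (hσ : Inv2 σ) (hτ : Inv2 τ) (h : mv σ = mv τ) :
    ∃ c : S6, c * σ * c⁻¹ = τ := by
  have := (Equiv.Perm.isConj_iff_cycleType_eq (σ := σ) (τ := τ)).mpr
    (by rw [cycleType_inv2 hσ, cycleType_inv2 hτ, h])
  exact isConj_iff.mp this

theorem mv_conj (σ c : S6) : mv (c * σ * c⁻¹) = mv σ := by
  rw [mv_eq_support, mv_eq_support]
  simp

/-- Not a square unless it moves four points. -/
theorem sq_inv2 {σ : S6} (h : Inv2 (σ * σ)) : mv (σ * σ) = 4 := by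
  have key : (all6.filter fun f => invB (cm f f)).all (fun f => mvL (cm f f) == 4) = true := by
    decide +kernel
  rw [List.all_eq_true] at key
  rw [mv_eq, enc_mul]
  exact beq_iff_eq.mp (key _ (List.mem_filter.mpr
    ⟨enc_mem σ, by rw [← enc_mul]; exact inv2_iff.mp h⟩))

theorem pZ_eq_sq : (pB * pE) * (pB * pE) = pZ := by decide +kernel

theorem exists_sqrt {σ : S6} (h : Inv2 σ) (h4 : mv σ = 4) : ∃ r : S6, r * r = σ := by
  obtain ⟨c, hc⟩ := exists_conj inv2_pZ h (by rw [mv_pZ, h4])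
  refine ⟨c * (pB * pE) * c⁻¹, ?_⟩
  rw [← hc, ← pZ_eq_sq]
  group

/-! ### Counting -/

theorem card_class_two : Nat.card {σ : S6 // Inv2 σ ∧ mv σ = 2} = 15 := by
  rw [card_sub _ invL (fun f => mvL f == 2) invL_nodup invL_sub (fun σ => by
    rw [mem_invL, mv_eq]; simp)]
  decide +kernel

theorem card_class_four : Nat.card {σ : S6 // Inv2 σ ∧ mv σ = 4} = 45 := by
  rw [card_sub _ invL (fun f => mvL f == 4) invL_nodup invL_sub (fun σ => by
    rw [mem_invL, mv_eq]; simp)]
  decide +kernel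

theorem card_class_six : Nat.card {σ : S6 // Inv2 σ ∧ mv σ = 6} = 15 := by
  rw [card_sub _ invL (fun f => mvL f == 6) invL_nodup invL_sub (fun σ => by
    rw [mem_invL, mv_eq]; simp)]
  decide +kernel

theorem card_cent {κ : S6} {e : List ℕ} (he : enc κ = e) :
    Nat.card {σ : S6 // σ * κ = κ * σ} = (all6.filter fun f => comB f e).length := by
  exact card_sub _ all6 (fun f => comB f e) all6_nodup (fun _ h => h)
    (fun σ => by rw [comB_iff, he]; exact (and_iff_right (enc_mem σ)).symm)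

theorem card_cent_pA : Nat.card {σ : S6 // σ * pA = pA * σ} = 48 := by
  rw [card_cent enc_pA]; decide +kernel

theorem card_cent_pT : Nat.card {σ : S6 // σ * pT = pT * σ} = 48 := by
  rw [card_cent enc_pT]; decide +kernel

theorem card_cent_pZ : Nat.card {σ : S6 // σ * pZ = pZ * σ} = 16 := by
  rw [card_cent enc_pZ]; decide +kernel

/-- Number of `l` with `l² = 1` commuting with `κ`. -/
theorem card_sqOne_comm_pA : Nat.card {σ : S6 // σ * σ = 1 ∧ σ * pA = pA * σ} = 20 := by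
  rw [card_sub _ all6 (fun f => cm f f == idL && comB f eA) all6_nodup (fun _ h => h) (fun σ => by
    rw [sq_iff, comB_iff, enc_pA]; simp [enc_mem])]
  decide +kernel

theorem card_sqOne_comm_pT : Nat.card {σ : S6 // σ * σ = 1 ∧ σ * pT = pT * σ} = 20 := by
  rw [card_sub _ all6 (fun f => cm f f == idL && comB f eT) all6_nodup (fun _ h => h) (fun σ => by
    rw [sq_iff, comB_iff, enc_pT]; simp [enc_mem])]
  decide +kernel

theorem card_tK : Nat.card {σ : S6 // σ * pA = pA * σ ∧ σ * pZ = pZ * σ} = 16 := by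
  rw [card_sub _ all6 (fun f => comB f eA && comB f eZ) all6_nodup (fun _ h => h) (fun σ => by
    rw [comB_iff, comB_iff, enc_pA, enc_pZ]; simp [enc_mem])]
  decide +kernel

/-- The centre of `T_K` is the whole centraliser of `T_K`. -/
theorem card_cent_tK :
    Nat.card {σ : S6 // σ * pA = pA * σ ∧ σ * pB = pB * σ ∧ σ * pC = pC * σ ∧ σ * pE = pE * σ} = 4 := by
  rw [card_sub _ all6 (fun f => comB f eA && (comB f eB && (comB f eC && comB f eE))) all6_nodup
    (fun _ h => h) (fun σ => by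
    rw [comB_iff, comB_iff, comB_iff, comB_iff, enc_pA, enc_pB, enc_pC, enc_pE]; simp [enc_mem])]
  decide +kernel

/-! ### Generation -/

theorem mem_cAList {σ : S6} (h : σ * pA = pA * σ) : σ ∈ cAList := by
  have key : ∀ f ∈ all6.filter (fun f => comB f eA), f ∈ cAList.map enc := by decide +kernel
  obtain ⟨τ, hτ, he⟩ := List.mem_map.mp (key (enc σ) (List.mem_filter.mpr
    ⟨enc_mem σ, by rw [← enc_pA, ← comB_iff]; exact h⟩))
  rwa [enc_injective he] at hτ

theorem mem_cTList {σ : S6} (h : σ * pT = pT * σ) : σ ∈ cTList := by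
  have key : ∀ f ∈ all6.filter (fun f => comB f eT), f ∈ cTList.map enc := by decide +kernel
  obtain ⟨τ, hτ, he⟩ := List.mem_map.mp (key (enc σ) (List.mem_filter.mpr
    ⟨enc_mem σ, by rw [← enc_pT, ← comB_iff]; exact h⟩))
  rwa [enc_injective he] at hτ

theorem mem_tKList {σ : S6} (h : σ * pA = pA * σ) (h' : σ * pZ = pZ * σ) : σ ∈ tKList := by
  have key : ∀ f ∈ all6.filter (fun f => comB f eA && comB f eZ), f ∈ tKList.map enc := by
    decide +kernel
  obtain ⟨τ, hτ, he⟩ := List.mem_map.mp (key (enc σ) (List.mem_filter.mpr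
    ⟨enc_mem σ, by
      rw [Bool.and_eq_true, ← enc_pA, ← enc_pZ, ← comB_iff, ← comB_iff]; exact ⟨h, h'⟩⟩))
  rwa [enc_injective he] at hτ

theorem closure_cA {H : Subgroup S6} (ha : pA ∈ H) (h1 : s1 ∈ H) (h2 : s2 ∈ H) (h3 : s3 ∈ H)
    {σ : S6} (h : σ * pA = pA * σ) : σ ∈ H := by
  refine mem_prodsL ?_ (mem_prodsL ?_ (mem_prodsL ?_ ?_)) σ (mem_cAList h)
  all_goals
    intro x hx
    fin_cases hx
  all_goals
    repeat' first | assumption | exact H.one_mem | refine H.mul_mem ?_ ?_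

theorem closure_cT {H : Subgroup S6} (ha : pA ∈ H) (hb : pB ∈ H) (hc : pC ∈ H) (he : pE ∈ H)
    (he2 : pE2 ∈ H) {σ : S6} (h : σ * pT = pT * σ) : σ ∈ H := by
  refine mem_prodsL ?_ (mem_prodsL ?_ (mem_prodsL ?_ ?_)) σ (mem_cTList h)
  all_goals
    intro x hx
    fin_cases hx
  all_goals
    repeat' first | assumption | exact H.one_mem | refine H.mul_mem ?_ ?_

theorem closure_tK {H : Subgroup S6} (ha : pA ∈ H) (hb : pB ∈ H) (hc : pC ∈ H) (he : pE ∈ H)
    {σ : S6} (h : σ * pA = pA * σ) (h' : σ * pZ = pZ * σ) : σ ∈ H := by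
  refine mem_prodsL ?_ (mem_prodsL ?_ (mem_prodsL ?_ ?_)) σ (mem_tKList h h')
  all_goals
    intro x hx
    fin_cases hx
  all_goals
    repeat' first | assumption | exact H.one_mem | refine H.mul_mem ?_ ?_

end Cfsg.Agent.Lib.InvCentS6
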