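/-
Finite facts inside the centraliser of `pA` and `pZ` (helper74, for S3146).
-/
import Cfsg.Agent.Lib.InvCentS6.Tables

set_option autoImplicit false

namespace Cfsg.Agent.Lib.InvCentS6

open Equiv Enc

theorem mem_tK_filter {σ : S6} (ha : σ * pA = pA * σ) (hz : σ * pZ = pZ * σ) :
    enc σ ∈ all6.filter (fun f => comB f eA && comB f eZ) := by
  rw [comB_iff, enc_pA] at ha
  rw [comB_iff, enc_pZ] at hz
  simp [enc_mem, ha, hz]

theorem sq_tK {σ : S6} (ha : σ * pA = pA * σ) (hz : σ * pZ = pZ * σ) :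
    σ * σ = 1 ∨ σ * σ = pZ := by
  have key : (all6.filter fun f => comB f eA && comB f eZ).all
      (fun f => cm f f == idL || cm f f == eZ) = true := by decide +kernel
  rw [List.all_eq_true] at key
  simpa [eq_iff (σ := σ * σ), enc_mul, enc_one, enc_pZ] using key _ (mem_tK_filter ha hz)

def invTK : List (List ℕ) := invL.filter fun f => comB f eA && comB f eZ

theorem mem_invTK {σ : S6} (h : Inv2 σ) (ha : σ * pA = pA * σ) (hz : σ * pZ = pZ * σ) :
    enc σ ∈ invTK := by
  rw [comB_iff, enc_pA] at ha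
  rw [comB_iff, enc_pZ] at hz
  simp [invTK, mem_invL, h, ha, hz]

theorem two_tK {σ : S6} (h : Inv2 σ) (ha : σ * pA = pA * σ) (hz : σ * pZ = pZ * σ)
    (h2 : mv σ = 2) : σ = pA ∨ σ = pB ∨ σ = pC := by
  have key : invTK.all (fun f => mvL f != 2 || (f == eA || (f == eB || f == eC))) = true := by
    decide +kernel
  rw [List.all_eq_true] at key
  have := key _ (mem_invTK h ha hz)
  rw [mv_eq] at h2
  simpa [h2, eq_iff (σ := σ), enc_pA, enc_pB, enc_pC] using this

theorem six_tK {σ : S6} (h : Inv2 σ) (ha : σ * pA = pA * σ) (hz : σ * pZ = pZ * σ)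
    (h6 : mv σ = 6) : σ = pT ∨ σ = pA * pE ∨ σ = pA * pE * pZ := by
  have key : invTK.all (fun f => mvL f != 6 ||
      (f == eT || (f == cm eA eE || f == cm (cm eA eE) eZ))) = true := by decide +kernel
  rw [List.all_eq_true] at key
  have := key _ (mem_invTK h ha hz)
  rw [mv_eq] at h6
  simpa [h6, eq_iff (σ := σ), enc_mul, enc_pA, enc_pE, enc_pZ, enc_pT] using this

theorem cent_aze {σ : S6} (ha : σ * pA = pA * σ) (hz : σ * pZ = pZ * σ) (he : σ * pE = pE * σ) :
    σ ∈ ([1, pA, pZ, pT, pE, pA * pE, pE * pZ, pA * pE * pZ] : List S6) := by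
  have key : (all6.filter fun f => comB f eA && comB f eZ).all (fun f => !(comB f eE) ||
      ([idL, eA, eZ, eT, eE, cm eA eE, cm eE eZ, cm (cm eA eE) eZ] : List (List ℕ)).contains f) =
      true := by decide +kernel
  rw [List.all_eq_true] at key
  have := key _ (mem_tK_filter ha hz)
  rw [comB_iff, enc_pE] at he
  simpa [he, eq_iff (σ := σ), enc_mul, enc_one, enc_pA, enc_pZ, enc_pT, enc_pE] using this

theorem card_cent_aze :
    Nat.card {σ : S6 // σ * pA = pA * σ ∧ σ * pZ = pZ * σ ∧ σ * pE = pE * σ} = 8 := by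
  rw [card_sub _ all6 (fun f => comB f eA && (comB f eZ && comB f eE)) all6_nodup (fun _ h => h)
    (fun σ => by rw [comB_iff, comB_iff, comB_iff, enc_pA, enc_pZ, enc_pE]; simp [enc_mem])]
  decide +kernel

theorem pY3_comm : pY3 * pA = pA * pY3 := by decide +kernel

end Cfsg.Agent.Lib.InvCentS6
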