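/-
Twists, stabilisers and counts in `Perm (Fin 6)` (helper74, for S3146).
-/
import Cfsg.Agent.Lib.InvCentS6.Small

set_option autoImplicit false

namespace Cfsg.Agent.Lib.InvCentS6

open Equiv Enc

/-! ### Characters and twists -/

/-- Parity of an encoded permutation. -/
def parB (f : List ℕ) : Bool :=
  ([0, 1, 2, 3, 4, 5].map fun i => ([0, 1, 2, 3, 4, 5].filter fun j =>
    decide (i < j) && decide (f.getD j 0 < f.getD i 0)).length).sum % 2 == 1

/-- On `C(pA)`: the sign of the `S₄`-part, switched on by `F`. -/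
def chA (F : Bool) (f : List ℕ) : Bool := F && (parB f ^^ (f.getD 0 0 == 1))

/-- On `C(pT)`: the sign of the action on the three cycles, switched on by `F`. -/
def chT (F : Bool) (f : List ℕ) : Bool :=
  F && ((decide (f.getD 2 0 / 2 < f.getD 0 0 / 2) ^^ decide (f.getD 4 0 / 2 < f.getD 0 0 / 2)) ^^
    decide (f.getD 4 0 / 2 < f.getD 2 0 / 2))

/-- Encoded twist. -/
def twL (k : List ℕ) (b : Bool) (f : List ℕ) : List ℕ := if b then cm f k else f

/-- The twist at `pA`. -/
def twA (F : Bool) (σ : S6) : S6 := if chA F (enc σ) then σ * pA else σ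

/-- The twist at `pT`. -/
def twT (F : Bool) (σ : S6) : S6 := if chT F (enc σ) then σ * pT else σ

theorem enc_twA (F : Bool) (σ : S6) : enc (twA F σ) = twL eA (chA F (enc σ)) (enc σ) := by
  unfold twA twL; split <;> simp [enc_mul, enc_pA]

theorem enc_twT (F : Bool) (σ : S6) : enc (twT F σ) = twL eT (chT F (enc σ)) (enc σ) := by
  unfold twT twL; split <;> simp [enc_mul, enc_pT]

theorem twA_mul (F : Bool) {σ τ : S6} (hσ : σ * pA = pA * σ) (hτ : τ * pA = pA * τ) :
    twA F (σ * τ) = twA F σ * twA F τ := by
  have key : (all6.filter fun f => comB f eA).all (fun f => (all6.filter fun f => comB f eA).all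
      fun g => [false, true].all fun F => twL eA (chA F (cm f g)) (cm f g) ==
        cm (twL eA (chA F f) f) (twL eA (chA F g) g)) = true := by decide +kernel
  have mem : ∀ {x : S6}, x * pA = pA * x → enc x ∈ all6.filter fun f => comB f eA := fun h =>
    List.mem_filter.mpr ⟨enc_mem _, by rw [comB_iff, enc_pA] at h; exact h⟩
  have h := all_check₂ key (mem hσ) (mem hτ)
  simp only [List.all_cons, List.all_nil, Bool.and_eq_true, beq_iff_eq, and_true] at h
  rw [eq_iff, enc_mul, enc_twA, enc_twA, enc_twA, enc_mul]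
  cases F
  · exact h.1
  · exact h.2

theorem twT_mul (F : Bool) {σ τ : S6} (hσ : σ * pT = pT * σ) (hτ : τ * pT = pT * τ) :
    twT F (σ * τ) = twT F σ * twT F τ := by
  have key : (all6.filter fun f => comB f eT).all (fun f => (all6.filter fun f => comB f eT).all
      fun g => [false, true].all fun F => twL eT (chT F (cm f g)) (cm f g) ==
        cm (twL eT (chT F f) f) (twL eT (chT F g) g)) = true := by decide +kernel
  have mem : ∀ {x : S6}, x * pT = pT * x → enc x ∈ all6.filter fun f => comB f eT := fun h =>
    List.mem_filter.mpr ⟨enc_mem _, by rw [comB_iff, enc_pT] at h; exact h⟩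
  have h := all_check₂ key (mem hσ) (mem hτ)
  simp only [List.all_cons, List.all_nil, Bool.and_eq_true, beq_iff_eq, and_true] at h
  rw [eq_iff, enc_mul, enc_twT, enc_twT, enc_twT, enc_mul]
  cases F
  · exact h.1
  · exact h.2

theorem twA_comm {F : Bool} {σ : S6} (h : σ * pA = pA * σ) : twA F σ * pA = pA * twA F σ := by
  unfold twA; split
  · rw [h, mul_assoc, h]
  · exact h

theorem twT_comm {F : Bool} {σ : S6} (h : σ * pT = pT * σ) : twT F σ * pT = pT * twT F σ := by
  unfold twT; split
  · rw [h, mul_assoc, h]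
  · exact h

theorem twA_twA {F : Bool} {σ : S6} (h : σ * pA = pA * σ) : twA F (twA F σ) = σ := by
  have key : (all6.filter fun f => comB f eA).all (fun f => [false, true].all fun F =>
      twL eA (chA F (twL eA (chA F f) f)) (twL eA (chA F f) f) == f) = true := by decide +kernel
  rw [List.all_eq_true] at key
  have h' := key (enc σ) (List.mem_filter.mpr ⟨enc_mem _, by
    rw [comB_iff, enc_pA] at h; exact h⟩)
  simp only [List.all_cons, List.all_nil, Bool.and_eq_true, beq_iff_eq, and_true] at h'
  rw [eq_iff, enc_twA, enc_twA]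
  cases F
  · exact h'.1
  · exact h'.2

theorem twT_twT {F : Bool} {σ : S6} (h : σ * pT = pT * σ) : twT F (twT F σ) = σ := by
  have key : (all6.filter fun f => comB f eT).all (fun f => [false, true].all fun F =>
      twL eT (chT F (twL eT (chT F f) f)) (twL eT (chT F f) f) == f) = true := by decide +kernel
  rw [List.all_eq_true] at key
  have h' := key (enc σ) (List.mem_filter.mpr ⟨enc_mem _, by
    rw [comB_iff, enc_pT] at h; exact h⟩)
  simp only [List.all_cons, List.all_nil, Bool.and_eq_true, beq_iff_eq, and_true] at h'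
  rw [eq_iff, enc_twT, enc_twT]
  cases F
  · exact h'.1
  · exact h'.2

/-! ### Lists of elements and their stabilisers -/

/-- The translations used for the subgroups. -/
def VA : List S6 := [1, pA]
def VT : List S6 := [1, pT]
def VZ : List S6 := [1, pZ]
def VN : List S6 := [1, pA, pZ, pT]
def V1 : List S6 := [1, pA, pB, pC, pA * pB, pA * pC, pZ, pT]
def V2 : List S6 := [1, pA, pZ, pT, pE, pE * pZ, pA * pE, pA * pE * pZ]
def V3 : List S6 := [1, pA * pB, pA * pC, pZ]
def V4 : List S6 := [1, pA, pB, pC]

/-- `σ` maps `V` into itself by conjugation. -/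
def StabS (V : List S6) (σ : S6) : Prop := ∀ v ∈ V, σ * v * σ⁻¹ ∈ V

/-- Encoded `StabS`. -/
def stabL (V : List (List ℕ)) (f : List ℕ) : Bool := V.all fun v => V.any fun w => cjB f v w

theorem stabS_iff (V : List S6) (σ : S6) : StabS V σ ↔ stabL (V.map enc) (enc σ) = true := by
  simp only [StabS, stabL, List.all_map, List.any_map, List.all_eq_true, List.any_eq_true,
    Function.comp_apply, ← cjB_iff]
  exact ⟨fun h v hv => ⟨_, h v hv, rfl⟩, fun h v hv => by
    obtain ⟨w, hw, e⟩ := h v hv
    rwa [e]⟩

/-- The number of permutations stabilising `V`. -/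
theorem card_stabS (V : List S6) :
    Nat.card {σ : S6 // StabS V σ} = (all6.filter fun f => stabL (V.map enc) f).length :=
  card_sub _ all6 _ all6_nodup (fun _ h => h) fun σ => by simp [stabS_iff, enc_mem]

/-- The permutations with `σ² = 1` stabilising `V`. -/
def cnt0 (V : List (List ℕ)) : ℕ :=
  (all6.filter fun f => cm f f == idL && stabL V f).length

theorem card_cnt0 (V : List S6) :
    Nat.card {σ : S6 // σ * σ = 1 ∧ StabS V σ} = cnt0 (V.map enc) :=
  card_sub _ all6 _ all6_nodup (fun _ h => h) fun σ => by simp [stabS_iff, sq_iff, enc_mem]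

/-- The permutations commuting with `k`, with `σ² = 1`, given character and stabilising `V`. -/
def cntW (k : List ℕ) (ch : List ℕ → Bool) (b : Bool) (V : List (List ℕ)) : ℕ :=
  (all6.filter fun f => comB f k && (cm f f == idL && (ch f == b && stabL V f))).length

theorem card_cntW (κ : S6) (ch : List ℕ → Bool) (b : Bool) (V : List S6) :
    Nat.card {σ : S6 // σ * κ = κ * σ ∧ σ * σ = 1 ∧ ch (enc σ) = b ∧ StabS V σ} =
      cntW (enc κ) ch b (V.map enc) :=
  card_sub _ all6 _ all6_nodup (fun _ h => h) fun σ => by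
    simp [stabS_iff, sq_iff, comB_iff, enc_mem]

end Cfsg.Agent.Lib.InvCentS6
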