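/-
An involution with centraliser `Z₂ × S₆`: basic setting (helper74, for S3146).
-/
import Cfsg.Agent.Lib.InvCentS6.DFin
import Cfsg.Agent.Lib.InvCentS7.Tools

set_option autoImplicit false

namespace Cfsg.Agent.Lib.InvCentS6

open Equiv Enc

universe u

/-- An involution `t` together with a splitting `C(t) = ⟨t⟩ × ι S₆`. -/
structure Cent (G : Type u) [Group G] where
  t : G
  ι : S6 →* G
  t_sq : t * t = 1
  t_ne : t ≠ 1
  inj : Function.Injective ι
  comm : ∀ l, ι l * t = t * ι l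
  split : ∀ g, g * t = t * g → ∃ l, g = ι l ∨ g = t * ι l
  t_not : ∀ l, ι l ≠ t

theorem sign_eq_one_iff {l : S6} (h : Inv2 l) : Equiv.Perm.sign l = 1 ↔ mv l = 4 := by
  rw [Equiv.Perm.sign_of_cycleType, cycleType_inv2 h]
  rcases mv_of_inv2 h with e | e | e <;> rw [e] <;> simp <;> decide

theorem center_trivial {σ : S6} (h : ∀ l, σ * l = l * σ) : σ = 1 := by
  rcases cent_cA (h pA) (h s1) (h s2) (h s3) with e | e
  · exact e
  · exact absurd (h (swap 1 2)) (by rw [e]; decide +kernel)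

namespace Cent

variable {G : Type u} [Group G] (F : Cent G)

theorem t_inv : F.t⁻¹ = F.t := inv_eq_of_mul_eq_one_right F.t_sq

/-- Being conjugate to `t`. -/
def IsX (g : G) : Prop := IsConj F.t g

theorem isX_t : F.IsX F.t := IsConj.refl _

theorem isX_conj {g : G} (h : F.IsX g) (c : G) : F.IsX (c * g * c⁻¹) :=
  h.trans (isConj_iff.mpr ⟨c, rfl⟩)

theorem isX_conj_iff (g c : G) : F.IsX (c * g * c⁻¹) ↔ F.IsX g := by
  refine ⟨fun h => ?_, fun h => F.isX_conj h c⟩
  have := F.isX_conj h c⁻¹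
  rwa [show c⁻¹ * (c * g * c⁻¹) * c⁻¹⁻¹ = g by group] at this

theorem isX_sq {g : G} (h : F.IsX g) : g * g = 1 := by
  obtain ⟨c, rfl⟩ := isConj_iff.mp h
  rw [show c * F.t * c⁻¹ * (c * F.t * c⁻¹) = c * (F.t * F.t) * c⁻¹ by group, F.t_sq]; group

theorem isX_ne {g : G} (h : F.IsX g) : g ≠ 1 := by
  obtain ⟨c, rfl⟩ := isConj_iff.mp h
  intro e
  exact F.t_ne (conj_eq_one_iff.mp e)

theorem isX_inv {g : G} (h : F.IsX g) : g⁻¹ = g := inv_eq_of_mul_eq_one_right (F.isX_sq h)

theorem tmul_ne (l m : S6) : F.t * F.ι l ≠ F.ι m := by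
  intro h
  refine F.t_not (m * l⁻¹) ?_
  rw [map_mul, map_inv, ← h]; group

theorem tmul_inj {l m : S6} (h : F.t * F.ι l = F.t * F.ι m) : l = m :=
  F.inj (mul_left_cancel h)

theorem mem_C {g : G} :
    g ∈ Subgroup.centralizer ({F.t} : Set G) ↔ ∃ l, g = F.ι l ∨ g = F.t * F.ι l := by
  rw [Subgroup.mem_centralizer_singleton_iff]
  constructor
  · exact F.split g
  · rintro ⟨l, rfl | rfl⟩
    · exact F.comm l
    · rw [mul_assoc, F.comm, ← mul_assoc]

theorem commute_iff_ι {l m : S6} : F.ι l * F.ι m = F.ι m * F.ι l ↔ l * m = m * l := by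
  rw [← map_mul, ← map_mul, F.inj.eq_iff]

theorem tmul_commute_iff {l m : S6} :
    F.t * F.ι l * F.ι m = F.ι m * (F.t * F.ι l) ↔ l * m = m * l := by
  rw [← mul_assoc (F.ι m), F.comm m, mul_assoc, mul_assoc, mul_left_cancel_iff, F.commute_iff_ι]

theorem tmul_tmul (l m : S6) : F.t * F.ι l * (F.t * F.ι m) = F.ι (l * m) := by
  rw [mul_assoc F.t, ← mul_assoc (F.ι l), F.comm l, map_mul, ← mul_assoc, ← mul_assoc, F.t_sq,
    one_mul]

/-- The decomposition `C(t) ≃ Bool × S₆`. -/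
noncomputable def equivC :
    Bool × S6 ≃ Subgroup.centralizer ({F.t} : Set G) :=
  Equiv.ofBijective
    (fun p => ⟨if p.1 then F.t * F.ι p.2 else F.ι p.2, by
      rw [F.mem_C]; exact ⟨p.2, by cases p.1 <;> simp⟩⟩)
    ⟨fun p q h => by
      have h' := congrArg Subtype.val h
      obtain ⟨i, l⟩ := p
      obtain ⟨j, m⟩ := q
      cases i <;> cases j <;> simp only [Bool.false_eq_true, if_false, if_true] at h'
      · exact Prod.ext rfl (F.inj h')
      · exact absurd h'.symm (F.tmul_ne _ _)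
      · exact absurd h' (F.tmul_ne _ _)
      · exact Prod.ext rfl (F.tmul_inj h'),
     fun g => by
      obtain ⟨l, hl | hl⟩ := F.mem_C.mp g.2
      · exact ⟨(false, l), Subtype.ext (by simp [hl])⟩
      · exact ⟨(true, l), Subtype.ext (by simp [hl])⟩⟩

theorem equivC_apply (p : Bool × S6) :
    (F.equivC p : G) = if p.1 then F.t * F.ι p.2 else F.ι p.2 := rfl

theorem card_C : Nat.card (Subgroup.centralizer ({F.t} : Set G)) = 1440 := by
  rw [← Nat.card_congr F.equivC, Nat.card_prod]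
  simp [Nat.card_eq_fintype_card, Fintype.card_perm]
  decide

theorem card_C' {g : G} (h : F.IsX g) :
    Nat.card (Subgroup.centralizer ({g} : Set G)) = 1440 := by
  obtain ⟨c, rfl⟩ := isConj_iff.mp h
  rw [← F.card_C]
  refine Nat.card_congr ((MulAut.conj c).toEquiv.subtypeEquiv fun x => ?_).symm
  simp only [Subgroup.mem_centralizer_singleton_iff, MulEquiv.toEquiv_eq_coe,
    MulEquiv.coe_toEquiv, MulAut.conj_apply]
  constructor <;> intro hx
  · rw [show c * x * c⁻¹ * (c * F.t * c⁻¹) = c * (x * F.t) * c⁻¹ by group, hx]; group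
  · have := congrArg (fun y => c⁻¹ * y * c) hx
    calc x * F.t = c⁻¹ * (c * x * c⁻¹ * (c * F.t * c⁻¹)) * c := by group
      _ = _ := this
      _ = F.t * x := by group

theorem card_G [Finite G] : Nat.card {u : G // F.IsX u} * 1440 = Nat.card G := by
  have h := InvCentS7.Tools.card_conj_into F.t (fun _ => True)
  rw [F.card_C] at h
  rw [← Nat.card_congr (Equiv.subtypeUnivEquiv (α := G) (p := fun _ => True) fun _ => trivial), h]
  congr 1
  exact Nat.card_congr (Equiv.subtypeEquivRight fun u => (and_iff_left trivial).symm)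

/-! ### Classes meeting the centralizer -/

theorem A_inv2 {l : S6} (h : F.IsX (F.ι l)) : Inv2 l := by
  refine ⟨F.inj ?_, fun e => ?_⟩
  · rw [map_mul, map_one]; exact F.isX_sq h
  · exact F.isX_ne h (by rw [e, map_one])

theorem B_sq {l : S6} (h : F.IsX (F.t * F.ι l)) : l * l = 1 := by
  have h' := F.isX_sq h
  rw [F.tmul_tmul, ← map_one F.ι] at h'
  exact F.inj h'

theorem A_conj (l c : S6) : F.IsX (F.ι (c * l * c⁻¹)) ↔ F.IsX (F.ι l) := by
  rw [map_mul, map_mul, map_inv]; exact F.isX_conj_iff _ _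

theorem B_conj (l c : S6) : F.IsX (F.t * F.ι (c * l * c⁻¹)) ↔ F.IsX (F.t * F.ι l) := by
  rw [show F.t * F.ι (c * l * c⁻¹) = F.ι c * (F.t * F.ι l) * (F.ι c)⁻¹ by
    rw [map_mul, map_mul, map_inv, ← mul_assoc (F.ι c), F.comm c]; group]
  exact F.isX_conj_iff _ _

theorem A_class {l m : S6} (hl : Inv2 l) (hm : Inv2 m) (h : mv l = mv m) :
    F.IsX (F.ι l) ↔ F.IsX (F.ι m) := by
  obtain ⟨c, rfl⟩ := exists_conj hl hm h
  exact (F.A_conj l c).symm

theorem B_class {l m : S6} (hl : Inv2 l) (hm : Inv2 m) (h : mv l = mv m) :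
    F.IsX (F.t * F.ι l) ↔ F.IsX (F.t * F.ι m) := by
  obtain ⟨c, rfl⟩ := exists_conj hl hm h
  exact (F.B_conj l c).symm

end Cent

open Classical in
/-- The number of involutions of `S₆` with a class-invariant property. -/
theorem card_classes (Q : S6 → Prop)
    (hQ : ∀ l m, Inv2 l → Inv2 m → mv l = mv m → (Q l ↔ Q m)) :
    Nat.card {l : S6 // Inv2 l ∧ Q l} = (if Q pA then 15 else 0) + (if Q pZ then 45 else 0) +
      (if Q pT then 15 else 0) := by
  have part : ∀ (r : S6) (n : ℕ), Inv2 r → Nat.card {l : S6 // Inv2 l ∧ mv l = mv r} = n →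
      (Finset.univ.filter fun l : S6 => (Inv2 l ∧ Q l) ∧ mv l = mv r).card =
        if Q r then n else 0 := by
    intro r n hr hn
    split_ifs with hq
    · rw [← hn, Nat.card_eq_fintype_card, Fintype.card_subtype]
      congr 1
      ext l
      simp only [Finset.mem_filter, Finset.mem_univ, true_and]
      exact ⟨fun h => ⟨h.1.1, h.2⟩, fun h => ⟨⟨h.1, (hQ l r h.1 hr h.2).mpr hq⟩, h.2⟩⟩
    · rw [Finset.card_eq_zero, Finset.filter_eq_empty_iff]
      rintro l - ⟨⟨h1, h2⟩, h3⟩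
      exact hq ((hQ l r h1 hr h3).mp h2)
  rw [← part pA 15 inv2_pA (by rw [mv_pA]; exact card_class_two),
    ← part pZ 45 inv2_pZ (by rw [mv_pZ]; exact card_class_four),
    ← part pT 15 inv2_pT (by rw [mv_pT]; exact card_class_six),
    Nat.card_eq_fintype_card, Fintype.card_subtype, mv_pA, mv_pZ, mv_pT,
    ← Finset.card_union_of_disjoint, ← Finset.card_union_of_disjoint]
  · congr 1
    ext l
    simp only [Finset.mem_filter, Finset.mem_univ, true_and, Finset.mem_union]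
    constructor
    · intro h
      rcases mv_of_inv2 h.1 with e | e | e
      · exact Or.inl (Or.inl ⟨h, e⟩)
      · exact Or.inl (Or.inr ⟨h, e⟩)
      · exact Or.inr ⟨h, e⟩
    · rintro ((h | h) | h) <;> exact h.1
  · rw [Finset.disjoint_left]
    intro l h h'
    simp only [Finset.mem_filter, Finset.mem_union, Finset.mem_univ, true_and] at h h'
    omega
  · rw [Finset.disjoint_left]
    intro l h h'
    simp only [Finset.mem_filter, Finset.mem_univ, true_and] at h h'
    omega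

namespace Cent

variable {G : Type u} [Group G] (F : Cent G)

/-! ### The twisted splitting -/

/-- The other complement `{t^{sgn l} ι l}`. -/
def twistHom : S6 →* G :=
  MonoidHom.mk' (fun l => if Equiv.Perm.sign l = 1 then F.ι l else F.t * F.ι l) fun l m => by
    rcases Int.units_eq_one_or (Equiv.Perm.sign l) with h1 | h1 <;>
      rcases Int.units_eq_one_or (Equiv.Perm.sign m) with h2 | h2
    · simp [h1, h2]
    · simp [h1, h2, ← mul_assoc, F.comm]
    · simp [h1, h2, mul_assoc]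
    · simp [h1, h2, F.tmul_tmul]

theorem twist_apply (l : S6) :
    F.twistHom l = if Equiv.Perm.sign l = 1 then F.ι l else F.t * F.ι l := rfl

/-- The twisted setting. -/
def twist : Cent G where
  t := F.t
  ι := F.twistHom
  t_sq := F.t_sq
  t_ne := F.t_ne
  inj := by
    intro l m h
    rw [twist_apply, twist_apply] at h
    split_ifs at h with h1 h2 h2
    · exact F.inj h
    · exact absurd h.symm (F.tmul_ne _ _)
    · exact absurd h (F.tmul_ne _ _)
    · exact F.tmul_inj h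
  comm l := by
    rw [twist_apply]
    split_ifs
    · exact F.comm l
    · rw [mul_assoc, F.comm, ← mul_assoc]
  split g hg := by
    obtain ⟨l, hl | hl⟩ := F.split g hg <;> refine ⟨l, ?_⟩ <;>
      rw [twist_apply] <;> split_ifs with h
    · exact Or.inl hl
    · exact Or.inr (by rw [hl, ← mul_assoc, F.t_sq, one_mul])
    · exact Or.inr hl
    · exact Or.inl hl
  t_not l := by
    rw [twist_apply]
    split_ifs with h
    · exact F.t_not l
    · intro e
      have : F.ι l = 1 := mul_left_cancel (e.trans (mul_one _).symm)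
      rw [F.inj (this.trans (map_one F.ι).symm)] at h
      exact h (map_one _)

theorem twist_t : F.twist.t = F.t := rfl

theorem twist_even {l : S6} (h : Inv2 l) (h4 : mv l = 4) : F.twist.ι l = F.ι l := by
  show F.twistHom l = _
  rw [twist_apply, if_pos ((sign_eq_one_iff h).mpr h4)]

theorem twist_odd {l : S6} (h : Inv2 l) (h4 : mv l ≠ 4) : F.twist.ι l = F.t * F.ι l := by
  show F.twistHom l = _
  rw [twist_apply, if_neg (fun e => h4 ((sign_eq_one_iff h).mp e))]

/-! ### Congruences for the number of conjugates of `t` -/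

section Congr

variable [Finite G] (hG : ¬ ∃ H : Subgroup G, H.index = 2)
include hG

theorem congr_range :
    Nat.card {u : G // F.IsX u} ≡ Nat.card {l : S6 // Inv2 l ∧ F.IsX (F.ι l)} [MOD 2] := by
  have hle : F.ι.range ≤ Subgroup.centralizer ({F.t} : Set G) := by
    rintro _ ⟨l, rfl⟩; exact F.mem_C.mpr ⟨l, Or.inl rfl⟩
  have h := InvCentS7.Tools.parity_coset hG F.t_sq hle
  have hcard : Nat.card F.ι.range = 720 := by
    rw [← Nat.card_congr (MonoidHom.ofInjective F.inj).toEquiv, Nat.card_eq_fintype_card,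
      Fintype.card_perm]
    decide
  have hi : F.ι.range.relIndex (Subgroup.centralizer ({F.t} : Set G)) = 2 := by
    have h2 := Subgroup.index_mul_card (F.ι.range.subgroupOf (Subgroup.centralizer ({F.t} : Set G)))
    rw [Nat.card_congr (Subgroup.subgroupOfEquivOfLe hle).toEquiv, hcard, F.card_C] at h2
    rw [Subgroup.relIndex]; omega
  rw [hi] at h
  have he : Nat.card {u : G // IsConj F.t u ∧ u ∈ F.ι.range} =
      Nat.card {l : S6 // Inv2 l ∧ F.IsX (F.ι l)} := by
    refine (Nat.card_congr (Equiv.ofBijective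
      (fun l => ⟨F.ι l.1, l.2.2, ⟨l.1, rfl⟩⟩) ⟨fun l m e => ?_, fun u => ?_⟩)).symm
    · exact Subtype.ext (F.inj (congrArg Subtype.val e))
    · obtain ⟨u, hu, l, rfl⟩ := u
      exact ⟨⟨l, F.A_inv2 hu, hu⟩, rfl⟩
  rw [he] at h
  have : Nat.card {u : G // IsConj F.t u} = Nat.card {u : G // F.IsX u} := rfl
  rw [this] at h
  unfold Nat.ModEq at h ⊢
  omega

theorem congr_full :
    Nat.card {u : G // F.IsX u} ≡ Nat.card {l : S6 // Inv2 l ∧ F.IsX (F.ι l)} +
      (1 + Nat.card {l : S6 // Inv2 l ∧ F.IsX (F.t * F.ι l)}) [MOD 4] := by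
  classical
  have h := InvCentS7.Tools.parity_coset hG F.t_sq (le_refl (Subgroup.centralizer ({F.t} : Set G)))
  rw [Subgroup.relIndex_self, mul_one, mul_one] at h
  have he : Nat.card {u : G // IsConj F.t u ∧ u ∈ Subgroup.centralizer ({F.t} : Set G)} =
      Nat.card {p : Bool × S6 // F.IsX (F.equivC p)} := by
    refine Nat.card_congr ?_
    exact ((Equiv.subtypeEquivRight fun u => and_comm).trans
      (Equiv.subtypeSubtypeEquivSubtypeInter
        (fun u => u ∈ Subgroup.centralizer ({F.t} : Set G)) (fun u => IsConj F.t u)).symm).trans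
      (F.equivC.subtypeEquiv (fun p => Iff.rfl)).symm
  have hsplit : Nat.card {p : Bool × S6 // F.IsX (F.equivC p)} =
      Nat.card {l : S6 // F.IsX (F.ι l)} + Nat.card {l : S6 // F.IsX (F.t * F.ι l)} := by
    rw [← Nat.card_sum]
    refine Nat.card_congr
      { toFun := fun p => if hp : p.1.1 = true then Sum.inr ⟨p.1.2, ?_⟩ else Sum.inl ⟨p.1.2, ?_⟩
        invFun := Sum.elim (fun l => ⟨(false, l.1), by simpa [equivC_apply] using l.2⟩)
          (fun l => ⟨(true, l.1), by simpa [equivC_apply] using l.2⟩)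
        left_inv := ?_
        right_inv := ?_ }
    · have := p.2; simpa [equivC_apply, hp] using this
    · have := p.2; simpa [equivC_apply, hp] using this
    · rintro ⟨⟨i, l⟩, hp⟩; cases i <;> simp
    · rintro (l | l) <;> simp
  have hA : Nat.card {l : S6 // F.IsX (F.ι l)} = Nat.card {l : S6 // Inv2 l ∧ F.IsX (F.ι l)} :=
    Nat.card_congr (Equiv.subtypeEquivRight fun l => ⟨fun h => ⟨F.A_inv2 h, h⟩, And.right⟩)
  have hB : Nat.card {l : S6 // F.IsX (F.t * F.ι l)} =
      1 + Nat.card {l : S6 // Inv2 l ∧ F.IsX (F.t * F.ι l)} := by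
    rw [Nat.card_eq_fintype_card, Nat.card_eq_fintype_card, Fintype.card_subtype,
      Fintype.card_subtype, add_comm, ← Finset.card_insert_of_notMem (a := (1 : S6))]
    · congr 1
      ext l
      simp only [Finset.mem_filter, Finset.mem_univ, true_and, Finset.mem_insert]
      constructor
      · intro hl
        by_cases e : l = 1
        · exact Or.inl e
        · exact Or.inr ⟨⟨F.B_sq hl, e⟩, hl⟩
      · rintro (rfl | ⟨-, hl⟩)
        · rw [map_one, mul_one]; exact F.isX_t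
        · exact hl
    · simp only [Finset.mem_filter]
      rintro ⟨-, ⟨-, h⟩, -⟩
      exact h rfl
  rw [he, hsplit, hA, hB] at h
  exact h

end Congr

/-! ### The Sylow 2-subgroup of the centralizer -/

/-- `T = ⟨t⟩ × T_K`. -/
def T : Subgroup G := Subgroup.centralizer ({F.t, F.ι pA, F.ι pZ} : Set G)

theorem mem_T {g : G} :
    g ∈ F.T ↔ ∃ l, (l * pA = pA * l ∧ l * pZ = pZ * l) ∧ (g = F.ι l ∨ g = F.t * F.ι l) := by
  rw [T, Subgroup.mem_centralizer_iff]
  simp only [Set.mem_insert_iff, Set.mem_singleton_iff, forall_eq_or_imp, forall_eq]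
  constructor
  · rintro ⟨h0, h1, h2⟩
    obtain ⟨l, rfl | rfl⟩ := F.split g h0.symm
    · exact ⟨l, ⟨(F.commute_iff_ι.mp h1).symm, (F.commute_iff_ι.mp h2).symm⟩, Or.inl rfl⟩
    · exact ⟨l, ⟨F.tmul_commute_iff.mp h1.symm, F.tmul_commute_iff.mp h2.symm⟩, Or.inr rfl⟩
  · rintro ⟨l, ⟨ha, hz⟩, rfl | rfl⟩
    · exact ⟨(F.comm l).symm, F.commute_iff_ι.mpr ha.symm, F.commute_iff_ι.mpr hz.symm⟩
    · refine ⟨?_, (F.tmul_commute_iff.mpr ha).symm, (F.tmul_commute_iff.mpr hz).symm⟩
      rw [mul_assoc F.t (F.ι l), F.comm l]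

theorem ι_mem_T {l : S6} (ha : l * pA = pA * l) (hz : l * pZ = pZ * l) : F.ι l ∈ F.T :=
  F.mem_T.mpr ⟨l, ⟨ha, hz⟩, Or.inl rfl⟩

theorem tι_mem_T {l : S6} (ha : l * pA = pA * l) (hz : l * pZ = pZ * l) : F.t * F.ι l ∈ F.T :=
  F.mem_T.mpr ⟨l, ⟨ha, hz⟩, Or.inr rfl⟩

theorem t_mem_T : F.t ∈ F.T := by
  have := F.tι_mem_T (l := 1) (by simp) (by simp)
  rwa [map_one, mul_one] at this

theorem T_le : F.T ≤ Subgroup.centralizer ({F.t} : Set G) :=
  Subgroup.centralizer_le (by simp)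

theorem card_T : Nat.card F.T = 2 ^ 5 := by
  have : Nat.card (Bool × {σ : S6 // σ * pA = pA * σ ∧ σ * pZ = pZ * σ}) = 2 ^ 5 := by
    rw [Nat.card_prod, card_tK]; simp
  rw [← this]
  let f : Bool × {σ : S6 // σ * pA = pA * σ ∧ σ * pZ = pZ * σ} → F.T := fun p =>
    ⟨if p.1 then F.t * F.ι p.2.1 else F.ι p.2.1, by
      cases p.1
      · exact F.ι_mem_T p.2.2.1 p.2.2.2
      · exact F.tι_mem_T p.2.2.1 p.2.2.2⟩
  refine (Nat.card_congr (Equiv.ofBijective f ⟨?_, ?_⟩)).symm
  · rintro ⟨i, l⟩ ⟨j, m⟩ h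
    have h' := congrArg Subtype.val h
    cases i <;> cases j <;> simp only [f, Bool.false_eq_true, if_false, if_true] at h'
    · exact Prod.ext rfl (Subtype.ext (F.inj h'))
    · exact absurd h'.symm (F.tmul_ne _ _)
    · exact absurd h' (F.tmul_ne _ _)
    · exact Prod.ext rfl (Subtype.ext (F.tmul_inj h'))
  · rintro ⟨g, hg⟩
    obtain ⟨l, hl, rfl | rfl⟩ := F.mem_T.mp hg
    · exact ⟨(false, ⟨l, hl⟩), rfl⟩
    · exact ⟨(true, ⟨l, hl⟩), rfl⟩

theorem C_full : ¬ 2 ^ (5 + 1) ∣ Nat.card (Subgroup.centralizer ({F.t} : Set G)) := by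
  rw [F.card_C]; decide

/-- Anything normalising `T` fixes `z`. -/
theorem z_fixed {g : G} (hg : ∀ x ∈ F.T, g * x * g⁻¹ ∈ F.T) :
    g * F.ι pZ * g⁻¹ = F.ι pZ := by
  have hr : F.ι (pB * pE) ∈ F.T := F.ι_mem_T (by decide +kernel) (by decide +kernel)
  obtain ⟨l, ⟨ha, hz⟩, hl⟩ := F.mem_T.mp (hg _ hr)
  have hsq : g * F.ι pZ * g⁻¹ = g * F.ι (pB * pE) * g⁻¹ * (g * F.ι (pB * pE) * g⁻¹) := by
    rw [← pZ_eq_sq, map_mul]; group
  have hne : g * F.ι pZ * g⁻¹ ≠ 1 := fun e =>
    inv2_pZ.2 (F.inj ((conj_eq_one_iff.mp e).trans (map_one F.ι).symm))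
  have hll : g * F.ι pZ * g⁻¹ = F.ι (l * l) := by
    rw [hsq]
    rcases hl with e | e <;> rw [e]
    · rw [map_mul]
    · rw [F.tmul_tmul]
  rw [hll] at hne ⊢
  rcases sq_tK ha hz with e | e
  · exact absurd (by rw [e, map_one]) hne
  · rw [e]

/-- The centre of `T`. -/
theorem central_T {g : G} (hg : g ∈ F.T) (hc : ∀ x ∈ F.T, g * x = x * g) :
    ∃ l, (l = 1 ∨ l = pA ∨ l = pZ ∨ l = pT) ∧ (g = F.ι l ∨ g = F.t * F.ι l) := by
  obtain ⟨l, -, hl⟩ := F.mem_T.mp hg
  have key : ∀ m, m * pA = pA * m → m * pZ = pZ * m → l * m = m * l := by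
    intro m h1 h2
    rcases hl with rfl | rfl
    · exact F.commute_iff_ι.mp (hc _ (F.ι_mem_T h1 h2))
    · exact F.tmul_commute_iff.mp (hc _ (F.ι_mem_T h1 h2))
  exact ⟨l, cent_tK (key pA rfl (by decide +kernel)) (key pB (by decide +kernel) (by decide +kernel))
    (key pC (by decide +kernel) (by decide +kernel))
    (key pE (by decide +kernel) (by decide +kernel)), hl⟩

theorem ι_central_T {l : S6} (hl : l = 1 ∨ l = pA ∨ l = pZ ∨ l = pT) {x : G} (hx : x ∈ F.T) :
    F.ι l * x = x * F.ι l := by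
  obtain ⟨m, ⟨ha, hz⟩, hm⟩ := F.mem_T.mp hx
  have hml : m * l = l * m := by
    rcases hl with rfl | rfl | rfl | rfl
    · simp
    · exact ha
    · exact hz
    · rw [pT, ← mul_assoc, ha, mul_assoc, hz, mul_assoc]
  rcases hm with rfl | rfl
  · exact F.commute_iff_ι.mpr hml.symm
  · exact (F.tmul_commute_iff.mpr hml).symm

/-! ### The case division -/

/-- When `|t^G|` is even, `T` has index 2 in a subgroup of order 64 normalising it. -/
theorem exists_K [Finite G] (hX : 2 ∣ Nat.card {u : G // F.IsX u}) :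
    ∃ (K : Subgroup G) (s : G), F.T ≤ K ∧ Nat.card K = 64 ∧ s ∈ K ∧
      (∀ x ∈ F.T, s * x * s⁻¹ ∈ F.T) ∧ s * F.t * s⁻¹ ≠ F.t ∧ s ∉ F.T := by
  have hdvd : 2 ^ (5 + 1) ∣ Nat.card G := by
    obtain ⟨m, hm⟩ := hX
    rw [← F.card_G, hm]
    exact ⟨m * 45, by ring⟩
  obtain ⟨K, hTK, hK, hN⟩ := InvCentS7.Tools.exists_above F.card_T hdvd
  have hne : ¬ K ≤ Subgroup.centralizer ({F.t} : Set G) := fun h =>
    F.C_full (hK ▸ Subgroup.card_dvd_of_le h)
  obtain ⟨s, hs, hsC⟩ := SetLike.not_le_iff_exists.mp hne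
  refine ⟨K, s, hTK, by rw [hK]; norm_num, hs, fun x hx => ?_, fun e => hsC ?_,
    fun h => hsC (F.T_le h)⟩
  · exact ((Subgroup.mem_normalizer_iff.mp (hN hs)) x).mp hx
  · rw [Subgroup.mem_centralizer_singleton_iff]
    exact mul_inv_eq_iff_eq_mul.mp e

theorem centralizes_K [Finite G] {K : Subgroup G} {s w : G} (hTK : F.T ≤ K)
    (hK : Nat.card K = 64) (hs : s ∈ K) (hsT : s ∉ F.T) (hw : ∀ x ∈ F.T, w * x = x * w)
    (hws : s * w * s⁻¹ = w) : ∀ x ∈ K, w * x = x * w := by
  intro x hx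
  by_cases hxT : x ∈ F.T
  · exact hw x hxT
  have hi : (F.T.subgroupOf K).index = 2 := by
    have h := Subgroup.index_mul_card (F.T.subgroupOf K)
    rw [Nat.card_congr (Subgroup.subgroupOfEquivOfLe hTK).toEquiv, F.card_T, hK] at h
    omega
  have hxs : s⁻¹ * x ∈ F.T := by
    have := (Subgroup.mul_mem_iff_of_index_two hi (a := (⟨s, hs⟩ : K)⁻¹) (b := ⟨x, hx⟩)).mpr (by
      constructor <;> intro h
      · exact absurd (by simpa [Subgroup.mem_subgroupOf] using h) hsT
      · exact absurd (by simpa [Subgroup.mem_subgroupOf] using h) hxT)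
    simpa [Subgroup.mem_subgroupOf] using this
  have h2 := hw _ hxs
  have h3 : s * w = w * s := mul_inv_eq_iff_eq_mul.mp hws
  calc w * x = w * s * (s⁻¹ * x) := by group
    _ = s * w * (s⁻¹ * x) := by rw [h3]
    _ = s * ((s⁻¹ * x) * w) := by rw [mul_assoc, h2]
    _ = x * w := by group

theorem no_central_X [Finite G] {K : Subgroup G} {w : G} (hK : Nat.card K = 64)
    (hw : ∀ x ∈ K, w * x = x * w) : ¬ F.IsX w := by
  intro hX
  have hle : K ≤ Subgroup.centralizer ({w} : Set G) := fun x hx =>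
    Subgroup.mem_centralizer_singleton_iff.mpr (hw x hx).symm
  have := Subgroup.card_dvd_of_le hle
  rw [hK, F.card_C' hX] at this
  exact absurd this (by decide)

/-! ### The possible fusion patterns -/

section Cases

variable [Finite G] (hG : ¬ ∃ H : Subgroup G, H.index = 2)
include hG

theorem odd_case (hodd : ¬ 2 ∣ Nat.card {u : G // F.IsX u}) :
    (F.IsX (F.ι pZ) ↔ F.IsX (F.t * F.ι pZ)) ∧
    (¬ F.IsX (F.ι pZ) → (F.IsX (F.ι pA) ↔ ¬ F.IsX (F.ι pT)) ∧
      (F.IsX (F.t * F.ι pA) ↔ ¬ F.IsX (F.t * F.ι pT))) := by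
  classical
  have h4 := F.congr_full hG
  have h2 := F.congr_range hG
  have h3 := F.twist.congr_range hG
  rw [card_classes _ (fun l m => F.A_class), card_classes _ (fun l m => F.B_class)] at h4
  rw [card_classes _ (fun l m => F.A_class)] at h2
  rw [card_classes _ (fun l m => F.twist.A_class), F.twist_even inv2_pZ mv_pZ,
    F.twist_odd inv2_pA (by rw [mv_pA]; decide), F.twist_odd inv2_pT (by rw [mv_pT]; decide)] at h3
  simp only [show ∀ g, F.twist.IsX g = F.IsX g from fun _ => rfl] at h3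
  unfold Nat.ModEq at h4 h2 h3
  generalize Nat.card {u : G // F.IsX u} = n at *
  by_cases a1 : F.IsX (F.ι pA) <;> by_cases a2 : F.IsX (F.ι pZ) <;>
    by_cases a3 : F.IsX (F.ι pT) <;>
    by_cases b1 : F.IsX (F.t * F.ι pA) <;> by_cases b2 : F.IsX (F.t * F.ι pZ) <;>
    by_cases b3 : F.IsX (F.t * F.ι pT) <;>
    simp [a1, a2, a3, b1, b2, b3] at * <;> omega

theorem not_IsX_z (hev : 2 ∣ Nat.card {u : G // F.IsX u}) : ¬ F.IsX (F.ι pZ) := by
  obtain ⟨K, s, hTK, hK, hs, hn, -, hsT⟩ := F.exists_K hev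
  refine F.no_central_X hK (F.centralizes_K hTK hK hs hsT ?_ (F.z_fixed hn))
  exact fun x hx => F.ι_central_T (Or.inr (Or.inr (Or.inl rfl))) hx

theorem even_case (hev : 2 ∣ Nat.card {u : G // F.IsX u}) :
    F.IsX (F.t * F.ι pZ) ∧ (F.IsX (F.ι pA) ↔ F.IsX (F.ι pT)) ∧
      (F.IsX (F.t * F.ι pA) ↔ F.IsX (F.t * F.ι pT)) ∧
      (4 ∣ Nat.card {u : G // F.IsX u} ↔ ¬ (F.IsX (F.ι pA) ↔ F.IsX (F.t * F.ι pA))) := by
  classical
  have hz := F.not_IsX_z hG hev
  have h4 := F.congr_full hG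
  have h2 := F.congr_range hG
  have h3 := F.twist.congr_range hG
  rw [card_classes _ (fun l m => F.A_class), card_classes _ (fun l m => F.B_class)] at h4
  rw [card_classes _ (fun l m => F.A_class)] at h2
  rw [card_classes _ (fun l m => F.twist.A_class), F.twist_even inv2_pZ mv_pZ,
    F.twist_odd inv2_pA (by rw [mv_pA]; decide), F.twist_odd inv2_pT (by rw [mv_pT]; decide)] at h3
  simp only [show ∀ g, F.twist.IsX g = F.IsX g from fun _ => rfl] at h3
  rw [if_neg hz] at h4 h2 h3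
  unfold Nat.ModEq at h4 h2 h3
  generalize Nat.card {u : G // F.IsX u} = n at *
  by_cases a1 : F.IsX (F.ι pA) <;> by_cases a3 : F.IsX (F.ι pT) <;>
    by_cases b1 : F.IsX (F.t * F.ι pA) <;> by_cases b2 : F.IsX (F.t * F.ι pZ) <;>
    by_cases b3 : F.IsX (F.t * F.ι pT) <;>
    simp [a1, a3, b1, b2, b3] at * <;> omega

end Cases

end Cent

end Cfsg.Agent.Lib.InvCentS6
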