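/-
An involution with centraliser `Z₂ × S₆`: the easy fusion patterns (helper74, for S3146).
-/
import Cfsg.Agent.Lib.InvCentS6.Base

set_option autoImplicit false

namespace Cfsg.Agent.Lib.InvCentS6

open Equiv Enc

universe u

/-- Conjugation. -/
def cj {G : Type u} [Group G] (g x : G) : G := g * x * g⁻¹

section cj

variable {G : Type u} [Group G] (g h x y : G)

theorem cj_mul : cj g (x * y) = cj g x * cj g y := by simp only [cj]; group
theorem cj_one : cj g (1 : G) = 1 := by simp [cj]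
theorem cj_cj : cj g (cj h x) = cj (g * h) x := by simp only [cj]; group
theorem cj_inv_cj : cj g⁻¹ (cj g x) = x := by simp only [cj]; group
theorem cj_cj_inv : cj g (cj g⁻¹ x) = x := by simp only [cj]; group
theorem one_cj : cj 1 x = x := by simp [cj]

variable {g h x y}

theorem cj_inj (e : cj g x = cj g y) : x = y := mul_left_cancel (mul_right_cancel e)
theorem cj_eq_iff : cj g x = x ↔ g * x = x * g := mul_inv_eq_iff_eq_mul
theorem cj_of_comm (e : g * x = x * g) : cj g x = x := cj_eq_iff.mpr e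
theorem cj_comm_iff : cj g x * cj g y = cj g y * cj g x ↔ x * y = y * x := by
  rw [← cj_mul, ← cj_mul]
  exact ⟨cj_inj, fun h => by rw [h]⟩
theorem cj_symm (e : cj g x = y) : cj g⁻¹ y = x := by rw [← e, cj_inv_cj]

end cj

theorem conj_comm_iff {G : Type u} [Group G] (c x y : G) :
    c * x * c⁻¹ * (c * y * c⁻¹) = c * y * c⁻¹ * (c * x * c⁻¹) ↔ x * y = y * x := cj_comm_iff

namespace Cent

variable {G : Type u} [Group G] (F : Cent G)

theorem isX_cj {x : G} (g : G) : F.IsX (cj g x) ↔ F.IsX x := F.isX_conj_iff x g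

theorem exists_cj {u : G} (h : F.IsX u) : ∃ g, cj g F.t = u := isConj_iff.mp h

theorem cj_ι (c l : S6) : cj (F.ι c) (F.ι l) = F.ι (c * l * c⁻¹) := by
  rw [cj, map_mul, map_mul, map_inv]

theorem cj_ι_t (c : S6) : cj (F.ι c) F.t = F.t := cj_of_comm (F.comm c)

theorem cj_ι_tι (c l : S6) : cj (F.ι c) (F.t * F.ι l) = F.t * F.ι (c * l * c⁻¹) := by
  rw [cj_mul, F.cj_ι_t, F.cj_ι]

theorem cj_t_ι (l : S6) : cj F.t (F.ι l) = F.ι l := cj_of_comm (F.comm l).symm

theorem cj_tι_ι (c l : S6) : cj (F.t * F.ι c) (F.ι l) = F.ι (c * l * c⁻¹) := by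
  rw [← cj_cj, F.cj_ι, F.cj_t_ι]

/-- An element fixing `t` acts on `C(t)` through `ι`. -/
theorem cj_fix_t {g : G} (h : cj g F.t = F.t) :
    ∃ c, (g = F.ι c ∨ g = F.t * F.ι c) ∧ ∀ l, cj g (F.ι l) = F.ι (c * l * c⁻¹) ∧
      cj g (F.t * F.ι l) = F.t * F.ι (c * l * c⁻¹) := by
  obtain ⟨c, hc⟩ := F.split g (cj_eq_iff.mp h)
  refine ⟨c, hc, fun l => ?_⟩
  have e : cj g (F.ι l) = F.ι (c * l * c⁻¹) := by
    rcases hc with rfl | rfl
    · exact F.cj_ι c l
    · exact F.cj_tι_ι c l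
  exact ⟨e, by rw [cj_mul, h, e]⟩

end Cent

namespace Cent

variable {G : Type u} [Group G] (F : Cent G)

/-! ### Odd number of conjugates -/

section Odd

variable [Finite G] (hG : ¬ ∃ H : Subgroup G, H.index = 2)
  (hodd : ¬ 2 ∣ Nat.card {u : G // F.IsX u})
include hG hodd

theorem not_IsX_z_odd : ¬ F.IsX (F.ι pZ) ∧ ¬ F.IsX (F.t * F.ι pZ) := by
  have h : ¬ F.IsX (F.ι pZ) := by
    intro hz
    obtain ⟨n, hn, hT⟩ := InvCentS7.Tools.exists_normalizing F.card_T F.C_full F.T_le hz (fun x hx =>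
      Subgroup.mem_centralizer_singleton_iff.mpr
        (F.ι_central_T (Or.inr (Or.inr (Or.inl rfl))) hx).symm)
    have h2 := F.z_fixed (fun x hx => (hT x).mp hx)
    exact F.t_not pZ (mul_left_cancel (mul_right_cancel (h2.trans hn.symm)))
  exact ⟨h, fun h' => h ((F.odd_case hG hodd).1.mpr h')⟩

theorem odd_same (h2 : F.IsX (F.ι pA) ↔ F.IsX (F.t * F.ι pA)) : False := by
  obtain ⟨hz, htz⟩ := F.not_IsX_z_odd hG hodd
  obtain ⟨hA, hB⟩ := (F.odd_case hG hodd).2 hz
  have h6 : F.IsX (F.ι pT) ↔ F.IsX (F.t * F.ι pT) := by tauto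
  have inv : ∀ x, F.IsX x → x * F.t = F.t * x → x ≠ F.t → F.IsX (F.t * x) := by
    intro x hx hc hne
    obtain ⟨l, rfl | rfl⟩ := F.split x hc
    · have hl := F.A_inv2 hx
      rcases mv_of_inv2 hl with e | e | e
      · rw [F.B_class hl inv2_pA (by rw [e, mv_pA]), ← h2,
          ← F.A_class hl inv2_pA (by rw [e, mv_pA])]
        exact hx
      · exact absurd ((F.A_class hl inv2_pZ (by rw [e, mv_pZ])).mp hx) hz
      · rw [F.B_class hl inv2_pT (by rw [e, mv_pT]), ← h6,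
          ← F.A_class hl inv2_pT (by rw [e, mv_pT])]
        exact hx
    · have hl : Inv2 l := ⟨F.B_sq hx, fun e => hne (by rw [e, map_one, mul_one])⟩
      rw [← mul_assoc, F.t_sq, one_mul]
      rcases mv_of_inv2 hl with e | e | e
      · rw [F.A_class hl inv2_pA (by rw [e, mv_pA]), h2,
          ← F.B_class hl inv2_pA (by rw [e, mv_pA])]
        exact hx
      · exact absurd ((F.B_class hl inv2_pZ (by rw [e, mv_pZ])).mp hx) htz
      · rw [F.A_class hl inv2_pT (by rw [e, mv_pT]), h6,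
          ← F.B_class hl inv2_pT (by rw [e, mv_pT])]
        exact hx
  obtain ⟨p, q, hp, hq, hpq, hm, hne⟩ : ∃ p q, F.IsX (F.ι p) ∧ F.IsX (F.ι q) ∧ p * q = q * p ∧
      (Inv2 (p * q) ∧ mv (p * q) = 4) ∧ p ≠ q := by
    by_cases ha : F.IsX (F.ι pA)
    · refine ⟨pA, pB, ha, (F.A_class inv2_pA inv2_pB (by rw [mv_pA, mv_pB])).mp ha,
        by decide +kernel, ⟨?_, by decide +kernel⟩, by decide +kernel⟩
      rw [inv2_iff]; decide +kernel
    · have hT : F.IsX (F.ι pT) := by tauto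
      refine ⟨pT, pA * pE, hT, (F.A_class inv2_pT ?_ (by rw [mv_pT]; decide +kernel)).mp hT,
        by decide +kernel, ⟨?_, by decide +kernel⟩, by decide +kernel⟩ <;>
        (rw [inv2_iff]; decide +kernel)
  obtain ⟨g, hg⟩ := isConj_iff.mp hp
  have hx : F.IsX (g⁻¹ * F.ι q * g) := by simpa using F.isX_conj hq g⁻¹
  have hback : g * (g⁻¹ * F.ι q * g) * g⁻¹ = F.ι q := by group
  have hc : g⁻¹ * F.ι q * g * F.t = F.t * (g⁻¹ * F.ι q * g) := by
    rw [← conj_comm_iff g, hback, hg, F.commute_iff_ι]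
    exact hpq.symm
  have hxne : g⁻¹ * F.ι q * g ≠ F.t := by
    intro e
    rw [e, hg] at hback
    exact hne (F.inj hback)
  have h3 := F.isX_conj (inv _ hx hc hxne) g
  rw [show g * (F.t * (g⁻¹ * F.ι q * g)) * g⁻¹ = g * F.t * g⁻¹ * F.ι q by group, hg, ← map_mul]
    at h3
  exact hz ((F.A_class hm.1 inv2_pZ (by rw [hm.2, mv_pZ])).mp h3)

theorem odd_mixed (h2 : F.IsX (F.ι pA)) (h6 : F.IsX (F.t * F.ι pT)) : False := by
  obtain ⟨hz, htz⟩ := F.not_IsX_z_odd hG hodd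
  obtain ⟨hA, hB⟩ := (F.odd_case hG hodd).2 hz
  have hAT : ¬ F.IsX (F.ι pT) := hA.mp h2
  have hBA : ¬ F.IsX (F.t * F.ι pA) := fun h => hB.mp h h6
  -- conjugates of `t` inside `T`
  have only : ∀ {y : G}, y ∈ F.T → F.IsX y → (y = F.t ∨ y = F.ι pA ∨ y = F.t * F.ι pT) ∨
      (y = F.ι pB ∨ y = F.ι pC) ∨ (y = F.t * F.ι (pA * pE) ∨ y = F.t * F.ι (pA * pE * pZ)) := by
    intro y hy hX
    obtain ⟨l, ⟨ha, hz'⟩, rfl | rfl⟩ := F.mem_T.mp hy
    · have hl := F.A_inv2 hX
      rcases mv_of_inv2 hl with e | e | e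
      · rcases two_tK hl ha hz' e with rfl | rfl | rfl <;> simp
      · exact absurd ((F.A_class hl inv2_pZ (by rw [e, mv_pZ])).mp hX) hz
      · exact absurd ((F.A_class hl inv2_pT (by rw [e, mv_pT])).mp hX) hAT
    · by_cases h1 : l = 1
      · subst h1; simp
      have hl : Inv2 l := ⟨F.B_sq hX, h1⟩
      rcases mv_of_inv2 hl with e | e | e
      · exact absurd ((F.B_class hl inv2_pA (by rw [e, mv_pA])).mp hX) hBA
      · exact absurd ((F.B_class hl inv2_pZ (by rw [e, mv_pZ])).mp hX) htz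
      · rcases six_tK hl ha hz' e with rfl | rfl | rfl <;> simp
  set a := F.ι pA with ha'
  set v := F.t * F.ι pT with hv'
  have ha_mem : a ∈ F.T := F.ι_mem_T rfl (by decide +kernel)
  have hac : ∀ x ∈ F.T, a * x = x * a :=
    fun x hx => F.ι_central_T (Or.inr (Or.inl rfl)) hx
  have hv_mem : v ∈ F.T := F.tι_mem_T (by decide +kernel) (by decide +kernel)
  have htc : ∀ x ∈ F.T, F.t * x = x * F.t :=
    fun x hx => (Subgroup.mem_centralizer_singleton_iff.mp (F.T_le hx)).symm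
  have hvc : ∀ x ∈ F.T, v * x = x * v := fun x hx => by
    rw [hv', mul_assoc, F.ι_central_T (Or.inr (Or.inr (Or.inr rfl))) hx, ← mul_assoc, htc x hx,
      mul_assoc]
  have hta : F.t ≠ a := fun e => F.t_not pA e.symm
  have htv : F.t ≠ v := fun e => by
    have : F.t * F.ι pT = F.t * F.ι 1 := by rw [← hv', ← e, map_one, mul_one]
    exact inv2_pT.2 (F.tmul_inj this)
  have hav : a ≠ v := fun e => F.tmul_ne pT pA e.symm
  -- images of the three central conjugates
  have img : ∀ {n : G}, (∀ x, x ∈ F.T ↔ cj n x ∈ F.T) → ∀ w ∈ F.T, (∀ x ∈ F.T, w * x = x * w) →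
      F.IsX w → cj n w = F.t ∨ cj n w = a ∨ cj n w = v := by
    intro n hn w hw hc hX
    have hXw : F.IsX (cj n w) := (F.isX_cj n).mpr hX
    obtain ⟨l, hl, e⟩ := F.central_T ((hn w).mp hw) (fun x hx => by
      have := (cj_comm_iff (g := n)).mpr (hc (cj n⁻¹ x) ((hn _).mpr (by rwa [cj_cj_inv])))
      rwa [cj_cj_inv] at this)
    rcases e with e | e <;> rw [e] at hXw ⊢ <;> rcases hl with rfl | rfl | rfl | rfl
    · exact absurd (map_one F.ι) (F.isX_ne hXw)
    · exact Or.inr (Or.inl rfl)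
    · exact absurd hXw hz
    · exact absurd hXw hAT
    · exact Or.inl (by rw [map_one, mul_one])
    · exact absurd hXw hBA
    · exact absurd hXw htz
    · exact Or.inr (Or.inr rfl)
  obtain ⟨n1, e1, hn1⟩ := InvCentS7.Tools.exists_normalizing F.card_T F.C_full F.T_le h2
    (fun x hx => Subgroup.mem_centralizer_singleton_iff.mpr (hac x hx).symm)
  obtain ⟨n2, e2, hn2⟩ := InvCentS7.Tools.exists_normalizing F.card_T F.C_full F.T_le h6
    (fun x hx => Subgroup.mem_centralizer_singleton_iff.mpr (hvc x hx).symm)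
  change cj n1 F.t = a at e1
  change cj n2 F.t = v at e2
  change ∀ x, x ∈ F.T ↔ cj n1 x ∈ F.T at hn1
  change ∀ x, x ∈ F.T ↔ cj n2 x ∈ F.T at hn2
  -- a three-cycle
  obtain ⟨ρ, hρ, rt, ra, rv⟩ : ∃ ρ, (∀ x, x ∈ F.T → cj ρ x ∈ F.T) ∧
      cj ρ F.t = a ∧ cj ρ a = v ∧ cj ρ v = F.t := by
    rcases img hn1 _ hv_mem hvc h6 with ev | ev | ev
    · refine ⟨n1, fun x => (hn1 x).mp, e1, ?_, ev⟩
      rcases img hn1 _ ha_mem hac h2 with ea | ea | ea
      · exact absurd (cj_inj (ea.trans ev.symm)) hav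
      · exact absurd (cj_inj (ea.trans e1.symm)) hta.symm
      · exact ea
    · exact absurd (cj_inj (ev.trans e1.symm)) htv.symm
    have ea1 : cj n1 a = F.t := by
      rcases img hn1 _ ha_mem hac h2 with ea | ea | ea
      · exact ea
      · exact absurd (cj_inj (ea.trans e1.symm)) hta.symm
      · exact absurd (cj_inj (ea.trans ev.symm)) hav
    rcases img hn2 _ ha_mem hac h2 with ea | ea | ea
    · have ev2 : cj n2 v = a := by
        rcases img hn2 _ hv_mem hvc h6 with e | e | e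
        · exact absurd (cj_inj (ea.trans e.symm)) hav
        · exact e
        · exact absurd (cj_inj (e.trans e2.symm)) htv.symm
      exact ⟨n2⁻¹, fun x hx => (hn2 _).mpr (by rwa [cj_cj_inv]),
        cj_symm ea, cj_symm ev2, cj_symm e2⟩
    · refine ⟨n2 * n1, fun x hx => by rw [← cj_cj]; exact (hn2 _).mp ((hn1 _).mp hx), ?_, ?_, ?_⟩
      · rw [← cj_cj, e1, ea]
      · rw [← cj_cj, ea1, e2]
      · rw [← cj_cj, ev]
        rcases img hn2 _ hv_mem hvc h6 with e | e | e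
        · exact e
        · exact absurd (cj_inj (ea.trans e.symm)) hav
        · exact absurd (cj_inj (e.trans e2.symm)) htv.symm
    · exact absurd (cj_inj (ea.trans e2.symm)) hta.symm
  have rz : cj ρ (F.ι pZ) = F.ι pZ := F.z_fixed hρ
  let P : G → Prop := fun y => y = F.ι pB ∨ y = F.ι pC
  let Q : G → Prop := fun y => y = F.t * F.ι (pA * pE) ∨ y = F.t * F.ι (pA * pE * pZ)
  have hPQ : ∀ {y : G}, P y → Q y → False := by
    rintro y (rfl | rfl) (e | e) <;> exact F.tmul_ne _ _ e.symm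
  have hPz : ∀ {y : G}, P y → P (y * F.ι pZ) := by
    rintro y (rfl | rfl) <;> rw [← map_mul]
    · exact Or.inr (congrArg F.ι (by decide +kernel))
    · exact Or.inl (congrArg F.ι (by decide +kernel))
  have hQz : ∀ {y : G}, Q y → Q (y * F.ι pZ) := by
    rintro y (rfl | rfl) <;> rw [mul_assoc, ← map_mul]
    · exact Or.inr rfl
    · refine Or.inl ?_
      rw [mul_assoc (pA * pE), inv2_pZ.1, mul_one]
  have move : ∀ {y : G}, y ∈ F.T → F.IsX y → y ≠ F.t → y ≠ a → y ≠ v →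
      P (cj ρ y) ∨ Q (cj ρ y) := by
    intro y hy hX n0 n1 n2
    rcases only (hρ y hy) ((F.isX_cj ρ).mpr hX) with (e | e | e) | e | e
    · exact absurd (cj_inj (e.trans rv.symm)) n2
    · exact absurd (cj_inj (e.trans rt.symm)) n0
    · exact absurd (cj_inj (e.trans ra.symm)) n1
    · exact Or.inl e
    · exact Or.inr e
  have hBT : F.ι pB ∈ F.T := F.ι_mem_T (by decide +kernel) (by decide +kernel)
  have hBX : F.IsX (F.ι pB) := (F.A_class inv2_pA inv2_pB (by rw [mv_pA, mv_pB])).mp h2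
  have nB : F.ι pB ≠ F.t ∧ F.ι pB ≠ a ∧ F.ι pB ≠ v :=
    ⟨F.t_not pB, fun e => absurd (F.inj e) (by decide +kernel), fun e => F.tmul_ne _ _ e.symm⟩
  have hbP : P (cj ρ (F.ι pB)) := by
    rcases move hBT hBX nB.1 nB.2.1 nB.2.2 with h | h
    · exact h
    exfalso
    have hc' : cj ρ (F.ι pC) = cj ρ (F.ι pB) * F.ι pZ := by
      rw [show pC = pB * pZ by decide +kernel, map_mul, cj_mul, rz]
    have hPimg : ∀ {y : G}, P y → Q (cj ρ y) := by
      rintro y (rfl | rfl)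
      · exact h
      · rw [hc']; exact hQz h
    set y := cj ρ (F.ι pB) with hy
    have hyn : y ≠ F.t ∧ y ≠ a ∧ y ≠ v := ⟨fun e => nB.2.2 (cj_inj (e.trans rv.symm)),
      fun e => nB.1 (cj_inj (e.trans rt.symm)), fun e => nB.2.1 (cj_inj (e.trans ra.symm))⟩
    have hyP : P (cj ρ y) := by
      rcases move (hρ _ hBT) ((F.isX_cj ρ).mpr hBX) hyn.1 hyn.2.1 hyn.2.2 with e | e
      · exact e
      exfalso
      have hz2 : y * F.ι pZ * F.ι pZ = y := by
        rw [mul_assoc, ← map_mul, inv2_pZ.1, map_one, mul_one]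
      have : cj ρ y = y ∨ cj ρ y = y * F.ι pZ := by
        rcases h with h | h <;> rcases e with e | e <;> rw [e, h]
        · exact Or.inl rfl
        · exact Or.inr (by rw [mul_assoc F.t, ← map_mul])
        · exact Or.inr (by rw [mul_assoc F.t, ← map_mul, mul_assoc (pA * pE), inv2_pZ.1, mul_one])
        · exact Or.inl rfl
      rcases this with e' | e'
      · exact hPQ (Or.inl (cj_inj (g := ρ) e')) h
      · rw [← hc'] at e'
        exact hPQ (Or.inr (cj_inj (g := ρ) e')) h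
    obtain ⟨c, -, hc⟩ := F.cj_fix_t (g := ρ * ρ * ρ) (by rw [← cj_cj, rt, ← cj_cj, ra, rv])
    have h3 := hPimg hyP
    rw [hy, cj_cj, cj_cj, (hc pB).1] at h3
    rcases h3 with e | e <;> exact F.tmul_ne _ _ e.symm
  obtain ⟨ρ', rt', ra', rv', rb'⟩ : ∃ ρ', cj ρ' F.t = a ∧ cj ρ' a = v ∧ cj ρ' v = F.t ∧
      cj ρ' (F.ι pB) = F.ι pB := by
    rcases hbP with e | e
    · exact ⟨ρ, rt, ra, rv, e⟩
    refine ⟨F.ι pE * ρ, ?_, ?_, ?_, ?_⟩ <;> rw [← cj_cj]
    · rw [rt, ha', F.cj_ι]; exact congrArg F.ι (by decide +kernel)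
    · rw [ra, hv', F.cj_ι_tι]; exact congrArg (F.t * F.ι ·) (by decide +kernel)
    · rw [rv, F.cj_ι_t]
    · rw [e, F.cj_ι]; exact congrArg F.ι (by decide +kernel)
  have hPPv : cj (F.ι pP) v = v := by
    rw [hv', F.cj_ι_tι]; exact congrArg (F.t * F.ι ·) (by decide +kernel)
  have hPPa : cj (F.ι pP) a = F.ι pB := by
    rw [ha', F.cj_ι]; exact congrArg F.ι (by decide +kernel)
  obtain ⟨c, -, hc⟩ := F.cj_fix_t (g := ρ' * F.ι pP * ρ'⁻¹) (by
    rw [← cj_cj, ← cj_cj, cj_symm rv', hPPv, rv'])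
  have h := (hc pT).2
  rw [← hv', ← cj_cj, ← cj_cj, cj_symm ra', hPPa, rb'] at h
  exact F.tmul_ne _ _ h.symm

end Odd

/-- An odd number of conjugates of `t` forces a subgroup of index two. -/
theorem not_odd [Finite G] (hG : ¬ ∃ H : Subgroup G, H.index = 2) :
    2 ∣ Nat.card {u : G // F.IsX u} := by
  by_contra hodd
  obtain ⟨hz, htz⟩ := F.not_IsX_z_odd hG hodd
  obtain ⟨hA, hB⟩ := (F.odd_case hG hodd).2 hz
  by_cases h : F.IsX (F.ι pA) ↔ F.IsX (F.t * F.ι pA)
  · exact F.odd_same hG hodd h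
  by_cases ha : F.IsX (F.ι pA)
  · refine F.odd_mixed hG hodd ha ?_
    tauto
  · refine F.twist.odd_mixed hG hodd ?_ ?_
    · show F.IsX (F.twist.ι pA)
      rw [F.twist_odd inv2_pA (by rw [mv_pA]; decide)]
      tauto
    · show F.IsX (F.t * F.twist.ι pT)
      rw [F.twist_odd inv2_pT (by rw [mv_pT]; decide), ← mul_assoc, F.t_sq, one_mul]
      tauto

/-! ### All six classes -/

theorem sq_mem_T [Finite G] {K : Subgroup G} {s : G} (hTK : F.T ≤ K) (hK : Nat.card K = 64)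
    (hs : s ∈ K) : s * s ∈ F.T := by
  have hi : (F.T.subgroupOf K).index = 2 := by
    have h := Subgroup.index_mul_card (F.T.subgroupOf K)
    rw [Nat.card_congr (Subgroup.subgroupOfEquivOfLe hTK).toEquiv, F.card_T, hK] at h
    omega
  simpa [Subgroup.mem_subgroupOf] using Subgroup.mul_self_mem_of_index_two hi (⟨s, hs⟩ : K)

/-- A central element of `T` moved by `s` and its image multiply to an element centralised by
`⟨T, s⟩`. -/
theorem centralizes_prod [Finite G] {K : Subgroup G} {s w : G} (hTK : F.T ≤ K)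
    (hK : Nat.card K = 64) (hs : s ∈ K) (hsT : s ∉ F.T) (hn : ∀ x ∈ F.T, s * x * s⁻¹ ∈ F.T)
    (hw : w ∈ F.T) (hc : ∀ x ∈ F.T, w * x = x * w) :
    w * (s * w * s⁻¹) ∈ F.T ∧ (∀ x ∈ F.T, w * (s * w * s⁻¹) * x = x * (w * (s * w * s⁻¹))) ∧
      ∀ x ∈ K, w * (s * w * s⁻¹) * x = x * (w * (s * w * s⁻¹)) := by
  have hsq := F.sq_mem_T hTK hK hs
  have hc' : ∀ x ∈ F.T, s * w * s⁻¹ * x = x * (s * w * s⁻¹) := by
    intro x hx
    have hy : s⁻¹ * x * s ∈ F.T := by
      have h1 : (s * s)⁻¹ * (s * x * s⁻¹) * (s * s) ∈ F.T :=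
        F.T.mul_mem (F.T.mul_mem (F.T.inv_mem hsq) (hn x hx)) hsq
      rwa [show (s * s)⁻¹ * (s * x * s⁻¹) * (s * s) = s⁻¹ * x * s by group] at h1
    have := (conj_comm_iff s _ _).mpr (hc _ hy)
    rwa [show s * (s⁻¹ * x * s) * s⁻¹ = x by group] at this
  have h1 : ∀ x ∈ F.T, w * (s * w * s⁻¹) * x = x * (w * (s * w * s⁻¹)) := by
    intro x hx
    rw [mul_assoc, hc' x hx, ← mul_assoc, hc x hx, mul_assoc]
  have hfix : s * (s * w * s⁻¹) * s⁻¹ = w := by
    rw [show s * (s * w * s⁻¹) * s⁻¹ = (s * s) * w * (s * s)⁻¹ by group, ← hc _ hsq]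
    group
  refine ⟨F.T.mul_mem hw (hn w hw), h1, F.centralizes_K hTK hK hs hsT h1 ?_⟩
  rw [show s * (w * (s * w * s⁻¹)) * s⁻¹ = s * w * s⁻¹ * (s * (s * w * s⁻¹) * s⁻¹) by group, hfix]
  exact hc' _ hw

theorem no_six [Finite G] (hG : ¬ ∃ H : Subgroup G, H.index = 2) (h2 : F.IsX (F.ι pA))
    (h2' : F.IsX (F.t * F.ι pA)) : False := by
  have hev := F.not_odd hG
  obtain ⟨htz, hA, hB, -⟩ := F.even_case hG hev
  have key : ∀ w ∈ F.T, (∀ x ∈ F.T, w * x = x * w) → w = 1 ∨ w = F.ι pZ ∨ F.IsX w := by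
    intro w hw hc
    obtain ⟨l, hl, e⟩ := F.central_T hw hc
    rcases e with rfl | rfl <;> rcases hl with rfl | rfl | rfl | rfl
    · exact Or.inl (map_one _)
    · exact Or.inr (Or.inr h2)
    · exact Or.inr (Or.inl rfl)
    · exact Or.inr (Or.inr (hA.mp h2))
    · exact Or.inr (Or.inr (by rw [map_one, mul_one]; exact F.isX_t))
    · exact Or.inr (Or.inr h2')
    · exact Or.inr (Or.inr htz)
    · exact Or.inr (Or.inr (hB.mp h2'))
  obtain ⟨K, s, hTK, hK, hs, hn, hst, hsT⟩ := F.exists_K hev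
  have htc : ∀ x ∈ F.T, F.t * x = x * F.t :=
    fun x hx => (Subgroup.mem_centralizer_singleton_iff.mp (F.T_le hx)).symm
  have hac : ∀ x ∈ F.T, F.ι pA * x = x * F.ι pA :=
    fun x hx => F.ι_central_T (Or.inr (Or.inl rfl)) hx
  obtain ⟨p1, p2, p3⟩ := F.centralizes_prod hTK hK hs hsT hn F.t_mem_T htc
  have ha : F.ι pA ∈ F.T := F.ι_mem_T rfl (by decide +kernel)
  obtain ⟨q1, q2, q3⟩ := F.centralizes_prod hTK hK hs hsT hn ha hac
  have hts : s * F.t * s⁻¹ = F.t * F.ι pZ := by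
    rcases key _ p1 p2 with e | e | e
    · exact absurd ((eq_inv_of_mul_eq_one_right e).trans F.t_inv) hst
    · rw [← e, ← mul_assoc, F.t_sq, one_mul]
    · exact absurd e (F.no_central_X hK p3)
  have haa : F.ι pA * F.ι pA = 1 := by rw [← map_mul, inv2_pA.1, map_one]
  rcases key _ q1 q2 with e | e | e
  · refine F.no_central_X hK (F.centralizes_K hTK hK hs hsT hac ?_) h2
    exact (eq_inv_of_mul_eq_one_right e).trans (inv_eq_of_mul_eq_one_right haa)
  · have has : s * F.ι pA * s⁻¹ = F.ι pA * F.ι pZ := by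
      rw [← e, ← mul_assoc, haa, one_mul]
    refine F.no_central_X hK (F.centralizes_K hTK hK hs hsT ?_ ?_) h2'
    · intro x hx
      rw [mul_assoc, hac x hx, ← mul_assoc, htc x hx, mul_assoc]
    · rw [show s * (F.t * F.ι pA) * s⁻¹ = s * F.t * s⁻¹ * (s * F.ι pA * s⁻¹) by group, hts, has]
      rw [← map_mul, mul_assoc, ← map_mul]
      congr 2
      decide +kernel
  · exact F.no_central_X hK q3 e

end Cent

end Cfsg.Agent.Lib.InvCentS6
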