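/-
Parity on arbitrary cosets and a transfer lemma (helper74, for S3146).
-/
import Cfsg.Agent.Lib.InvCentS7.Tools
import Mathlib.GroupTheory.Transfer
import Mathlib.Tactic

set_option autoImplicit false

namespace Cfsg.Agent.Lib.InvCentS6.Tools

open Equiv Equiv.Perm

variable {G : Type*} [Group G] [Finite G]

/-- **Parity on cosets.** The permutation of `G ⧸ H` by an involution `t` is even. -/
theorem parity_sub (hG : ¬ ∃ H : Subgroup G, H.index = 2) {t : G} (ht : t * t = 1)
    (H : Subgroup G) :
    (4 * Nat.card H : ℤ) ∣ Nat.card (Subgroup.centralizer ({t} : Set G)) *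
      ((Nat.card {u : G // IsConj t u} : ℤ) - Nat.card {u : G // IsConj t u ∧ u ∈ H}) := by
  have hp := InvCentS7.Tools.parity hG (MulAction.toPermHom G (G ⧸ H)) ht
  rw [show Nat.card {y : G ⧸ H // MulAction.toPermHom G (G ⧸ H) t y = y} =
    Nat.card {y : G ⧸ H // t • y = y} from rfl] at hp
  have h1 := InvCentS7.Tools.card_fixed_coset H t
  rw [InvCentS7.Tools.card_conj_into t (fun x => x ∈ H)] at h1
  have h2 := InvCentS7.Tools.card_conj_into t (fun _ => True)
  rw [Nat.card_congr (Equiv.subtypeUnivEquiv (α := G) (p := fun _ => True) fun _ => trivial),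
    Nat.card_congr (Equiv.subtypeEquivRight fun u => and_iff_left (a := IsConj t u) trivial),
    ← Subgroup.index_mul_card H, Subgroup.index_eq_card] at h2
  obtain ⟨k, hk⟩ := Nat.modEq_iff_dvd.mp hp
  refine ⟨-k, ?_⟩
  have h1' : (Nat.card {y : G ⧸ H // t • y = y} : ℤ) * Nat.card H =
      (Nat.card {u : G // IsConj t u ∧ u ∈ H} : ℤ) *
        Nat.card (Subgroup.centralizer ({t} : Set G)) := by exact_mod_cast h1
  have h2' : (Nat.card (G ⧸ H) : ℤ) * Nat.card H =
      (Nat.card {u : G // IsConj t u} : ℤ) * Nat.card (Subgroup.centralizer ({t} : Set G)) := by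
    exact_mod_cast h2
  push_cast at hk
  linear_combination h1' - h2' - (Nat.card H : ℤ) * hk

/-- A finite group with no subgroup of index two has trivial maps to `ℤ/4`. -/
theorem hom_four_eq_one (hG : ¬ ∃ H : Subgroup G, H.index = 2)
    (φ : G →* Multiplicative (ZMod 4)) (g : G) : φ g = 1 := by
  let π : Multiplicative (ZMod 4) →* Multiplicative (ZMod 4) :=
    { toFun := fun x => x * x
      map_one' := by simp
      map_mul' := fun a b => by simp [mul_mul_mul_comm] }
  have key : ∀ ψ : G →* Multiplicative (ZMod 4), (∀ x, ψ x * ψ x = 1) → ∀ g, ψ g = 1 := by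
    intro ψ hψ g
    by_contra h
    let sgnHom : G →* ℤˣ := MonoidHom.mk' (fun x => if ψ x = 1 then 1 else -1) fun a b => by
      have ha := hψ a
      have hb := hψ b
      rw [map_mul]
      revert ha hb
      generalize ψ a = x, ψ b = y
      revert x y
      decide
    have := InvCentS7.Tools.hom_units_eq_one hG sgnHom g
    simp only [sgnHom, MonoidHom.mk'_apply, if_neg h] at this
    exact absurd this (by decide)
  have h2 := key (π.comp φ) (fun x => by
    show φ x * φ x * (φ x * φ x) = 1
    generalize φ x = y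
    revert y; decide)
  exact key φ (fun x => h2 x) g

/-- **Transfer.** If the conjugates of `t` in `H` have `ρ`-values `1` or `c ≠ 1`, an even number
of fixed cosets has value `c`. -/
theorem transfer_even (hG : ¬ ∃ H : Subgroup G, H.index = 2) {t : G} (ht : t * t = 1)
    (H : Subgroup G) (ρ : H →* Multiplicative (ZMod 4)) {c : Multiplicative (ZMod 4)} (hc : c ≠ 1)
    (hval : ∀ x (hx : x ∈ H), IsConj t x → ρ ⟨x, hx⟩ = 1 ∨ ρ ⟨x, hx⟩ = c)
    (k : ℕ) (hk : k * Nat.card H = Nat.card {u : G // IsConj t u ∧ ∃ h : u ∈ H, ρ ⟨u, h⟩ = c} *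
      Nat.card (Subgroup.centralizer ({t} : Set G))) :
    c ^ k = 1 := by
  classical
  haveI : H.FiniteIndex := inferInstance
  haveI := Fintype.ofFinite (G ⧸ H)
  haveI := Fintype.ofFinite (Quotient (MulAction.orbitRel (Subgroup.zpowers t) (G ⧸ H)))
  have h0 := hom_four_eq_one hG (MonoidHom.transfer ρ) t
  rw [MonoidHom.transfer_eq_prod_quotient_orbitRel_zpowers_quot] at h0
  -- value of a fixed coset
  let val : G ⧸ H → Multiplicative (ZMod 4) := fun y =>
    if h : y.out⁻¹ * t * y.out ∈ H then ρ ⟨_, h⟩ else 1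
  have hterm : ∀ q : Quotient (MulAction.orbitRel (Subgroup.zpowers t) (G ⧸ H)),
      ρ ⟨q.out.out⁻¹ * t ^ Function.minimalPeriod (t • ·) q.out * q.out.out,
            QuotientGroup.out_conj_pow_minimalPeriod_mem H t q.out⟩ = val q.out := by
    intro q
    by_cases hf : t • q.out = q.out
    · have hp : Function.minimalPeriod (t • ·) q.out = 1 :=
        Function.minimalPeriod_eq_one_iff_isFixedPt.mpr hf
      have hm : q.out.out⁻¹ * t * q.out.out ∈ H := by
        have := QuotientGroup.out_conj_pow_minimalPeriod_mem H t q.out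
        rwa [hp, pow_one] at this
      simp only [val, dif_pos hm]
      congr 1
      apply Subtype.ext
      show _ * t ^ _ * _ = _
      rw [hp, pow_one]
    · have hp : Function.minimalPeriod (t • ·) q.out = 2 := by
        apply Function.minimalPeriod_eq_prime (hp := ⟨Nat.prime_two⟩)
        · show t • t • q.out = q.out
          rw [smul_smul, ht, one_smul]
        · exact hf
      have hm : ¬ q.out.out⁻¹ * t * q.out.out ∈ H := by
        intro h
        apply hf
        conv_lhs => rw [← QuotientGroup.out_eq' q.out]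
        conv_rhs => rw [← QuotientGroup.out_eq' q.out]
        rw [MulAction.Quotient.smul_coe, smul_eq_mul, eq_comm, QuotientGroup.eq, ← mul_assoc]
        exact h
      simp only [val, dif_neg hm]
      rw [← map_one ρ]
      congr 1
      apply Subtype.ext
      show _ * t ^ _ * _ = (1 : G)
      rw [hp, sq, ht]; group
  rw [Finset.prod_congr rfl (fun q _ => hterm q)] at h0
  -- only the value `c` matters
  have hvalc : ∀ y, val y = 1 ∨ val y = c := by
    intro y
    simp only [val]
    split
    · exact hval _ _ (isConj_iff.mpr ⟨y.out⁻¹, by rw [inv_inv]⟩)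
    · exact Or.inl rfl
  have hfix : ∀ y, val y = c → t • y = y := by
    intro y hy
    simp only [val] at hy
    split at hy
    next h =>
      conv_lhs => rw [← QuotientGroup.out_eq' y]
      conv_rhs => rw [← QuotientGroup.out_eq' y]
      rw [MulAction.Quotient.smul_coe, smul_eq_mul, eq_comm, QuotientGroup.eq, ← mul_assoc]
      exact h
    next => exact absurd hy.symm hc
  -- an orbit of value `c` is a fixed point
  have hbij : (Finset.univ.filter fun q : Quotient (MulAction.orbitRel (Subgroup.zpowers t)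
      (G ⧸ H)) => val q.out = c).card = Nat.card {y : G ⧸ H // val y = c} := by
    rw [← Fintype.card_subtype, ← Nat.card_eq_fintype_card]
    refine Nat.card_congr (Equiv.ofBijective (fun q => ⟨q.1.out, q.2⟩) ⟨?_, ?_⟩)
    · intro a b e
      have h' : a.1.out = b.1.out := congrArg Subtype.val e
      exact Subtype.ext (by rw [← Quotient.out_eq a.1, ← Quotient.out_eq b.1, h'])
    · rintro ⟨y, hy⟩
      have hr : (Quotient.mk (MulAction.orbitRel (Subgroup.zpowers t) (G ⧸ H)) y).out = y := by
        have h := Quotient.exact (Quotient.out_eq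
          (Quotient.mk (MulAction.orbitRel (Subgroup.zpowers t) (G ⧸ H)) y))
        obtain ⟨⟨g, hg⟩, hgy⟩ := h
        obtain ⟨n, rfl⟩ := Subgroup.mem_zpowers_iff.mp hg
        rw [← hgy]
        show (t ^ n) • y = y
        exact MulAction.zpow_smul_eq_iff_minimalPeriod_dvd.mpr
          (by rw [Function.minimalPeriod_eq_one_iff_isFixedPt.mpr (hfix y hy)]; simp)
      exact ⟨⟨Quotient.mk _ y, (congrArg val hr).trans hy⟩, Subtype.ext hr⟩
  have hprod : ∏ q : Quotient (MulAction.orbitRel (Subgroup.zpowers t) (G ⧸ H)), val q.out =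
      c ^ Nat.card {y : G ⧸ H // val y = c} := by
    rw [← hbij, ← Finset.prod_const, Finset.prod_filter]
    refine Finset.prod_congr rfl fun q _ => ?_
    rcases hvalc q.out with h | h <;> simp [h]
  rw [hprod] at h0
  -- count the cosets of value `c`
  have hcnt : Nat.card {y : G ⧸ H // val y = c} * Nat.card H =
      Nat.card {u : G // IsConj t u ∧ ∃ h : u ∈ H, ρ ⟨u, h⟩ = c} *
        Nat.card (Subgroup.centralizer ({t} : Set G)) := by
    rw [← InvCentS7.Tools.card_conj_into t (fun x => ∃ h : x ∈ H, ρ ⟨x, h⟩ = c)]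
    have e := QuotientGroup.preimageMkEquivSubgroupProdSet H {y : G ⧸ H | val y = c}
    have h := Nat.card_congr e
    rw [Nat.card_prod] at h
    rw [mul_comm, ← show Nat.card {y : G ⧸ H | val y = c} = Nat.card {y : G ⧸ H // val y = c}
      from rfl, ← h]
    refine Nat.card_congr (Equiv.subtypeEquivRight fun g => ?_)
    simp only [Set.mem_preimage, Set.mem_ofPred_eq]
    obtain ⟨e, he⟩ := QuotientGroup.mk_out_eq_mul H g
    simp only [val]
    have conv : ((g : G ⧸ H).out)⁻¹ * t * (g : G ⧸ H).out =
        (e : G)⁻¹ * (g⁻¹ * t * g) * e := by rw [he]; group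
    constructor
    · intro hy
      split at hy
      next hm =>
        rw [conv] at hm
        have hx : g⁻¹ * t * g ∈ H := by
          have := H.mul_mem (H.mul_mem e.2 hm) (H.inv_mem e.2)
          rwa [show (e : G) * ((e : G)⁻¹ * (g⁻¹ * t * g) * e) * (e : G)⁻¹ = g⁻¹ * t * g by group]
            at this
        refine ⟨hx, ?_⟩
        rw [← hy]
        have : (⟨((g : G ⧸ H).out)⁻¹ * t * (g : G ⧸ H).out, by rw [conv]; exact hm⟩ : H) =
            e⁻¹ * ⟨_, hx⟩ * e := Subtype.ext conv
        rw [this, map_mul, map_mul, map_inv, mul_comm (ρ e)⁻¹, inv_mul_cancel_right]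
      next => exact absurd hy.symm hc
    · rintro ⟨hx, hρ⟩
      have hm : ((g : G ⧸ H).out)⁻¹ * t * (g : G ⧸ H).out ∈ H := by
        rw [conv]; exact H.mul_mem (H.mul_mem (H.inv_mem e.2) hx) e.2
      rw [dif_pos hm, ← hρ]
      have : (⟨_, hm⟩ : H) = e⁻¹ * ⟨_, hx⟩ * e := Subtype.ext conv
      rw [this, map_mul, map_mul, map_inv, mul_comm (ρ e)⁻¹, inv_mul_cancel_right]
  rw [← hcnt] at hk
  rwa [Nat.eq_of_mul_eq_mul_right Nat.card_pos hk]

omit [Group G] [Finite G] in
/-- A set with a free action of a four-group has cardinality divisible by four. -/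
theorem four_dvd_card {O : Type*} [Finite O] (σ τ : O → O) (hσ : ∀ o, σ (σ o) = o)
    (hτ : ∀ o, τ (τ o) = o) (hc : ∀ o, σ (τ o) = τ (σ o)) (fσ : ∀ o, σ o ≠ o)
    (fτ : ∀ o, τ o ≠ o) (fστ : ∀ o, σ (τ o) ≠ o) : 4 ∣ Nat.card O := by
  classical
  haveI := Fintype.ofFinite O
  rw [Nat.card_eq_fintype_card, ← Finset.card_univ]
  suffices h : ∀ s : Finset O, (∀ o ∈ s, σ o ∈ s ∧ τ o ∈ s) → 4 ∣ s.card from
    h _ fun o _ => ⟨Finset.mem_univ _, Finset.mem_univ _⟩
  intro s
  induction s using Finset.strongInduction with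
  | H s ih =>
    intro hs
    rcases s.eq_empty_or_nonempty with rfl | ⟨o, ho⟩
    · simp
    let A : Finset O := {o, σ o, τ o, σ (τ o)}
    have n1 : σ o ≠ τ o := fun e => fστ o (by rw [← e, hσ])
    have n2 : σ o ≠ σ (τ o) := fun e => fτ o (by
      have := congrArg σ e; rw [hσ, hσ] at this; exact this.symm)
    have n3 : τ o ≠ σ (τ o) := (fσ _).symm
    have hA : A.card = 4 := by
      simp only [A]
      rw [Finset.card_insert_of_notMem, Finset.card_insert_of_notMem, Finset.card_insert_of_notMem,
        Finset.card_singleton]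
      · simpa using n3
      · simp only [Finset.mem_insert, Finset.mem_singleton, not_or]; exact ⟨n1, n2⟩
      · simp only [Finset.mem_insert, Finset.mem_singleton, not_or]
        exact ⟨(fσ o).symm, (fτ o).symm, (fστ o).symm⟩
    have hAs : A ⊆ s := by
      intro x hx
      simp only [A, Finset.mem_insert, Finset.mem_singleton] at hx
      rcases hx with rfl | rfl | rfl | rfl
      · exact ho
      · exact (hs o ho).1
      · exact (hs o ho).2
      · exact (hs _ (hs o ho).2).1
    have hcl : ∀ x, σ x ∈ A → x ∈ A := by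
      intro x hx
      simp only [A, Finset.mem_insert, Finset.mem_singleton] at hx ⊢
      rcases hx with e | e | e | e <;> have := congrArg σ e <;> rw [hσ] at this
      · exact Or.inr (Or.inl this)
      · rw [hσ] at this; exact Or.inl this
      · exact Or.inr (Or.inr (Or.inr this))
      · rw [hσ] at this; exact Or.inr (Or.inr (Or.inl this))
    have hcl' : ∀ x, τ x ∈ A → x ∈ A := by
      intro x hx
      simp only [A, Finset.mem_insert, Finset.mem_singleton] at hx ⊢
      rcases hx with e | e | e | e <;> have := congrArg τ e <;> rw [hτ] at this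
      · exact Or.inr (Or.inr (Or.inl this))
      · rw [← hc] at this; exact Or.inr (Or.inr (Or.inr this))
      · rw [hτ] at this; exact Or.inl this
      · rw [← hc, hτ] at this; exact Or.inr (Or.inl this)
    have h2 := ih (s \ A) (Finset.sdiff_ssubset hAs ⟨o, by simp [A]⟩) fun x hx => by
      rw [Finset.mem_sdiff] at hx
      exact ⟨Finset.mem_sdiff.mpr ⟨(hs x hx.1).1, fun h => hx.2 (hcl x h)⟩,
        Finset.mem_sdiff.mpr ⟨(hs x hx.1).2, fun h => hx.2 (hcl' x h)⟩⟩
    rw [← Finset.card_sdiff_add_card_eq_card hAs, hA]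
    exact dvd_add h2 (dvd_refl 4)

end Cfsg.Agent.Lib.InvCentS6.Tools
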