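/-
An involution with centraliser `Z₂ × S₆`: only the squares fused with `t` (helper74, for S3146).
-/
import Cfsg.Agent.Lib.InvCentS6.Easy
import Cfsg.Agent.Lib.InvCentS6.Tools

set_option autoImplicit false

namespace Cfsg.Agent.Lib.InvCentS6

open Equiv Enc

universe u

theorem mv_one : mv (1 : S6) = 0 := by decide +kernel
theorem pY3_pZ' : pY3 * pZ * pY3⁻¹ = pE * pZ := by decide +kernel
theorem pY3_pE' : pY3 * pE * pY3⁻¹ = pZ := by decide +kernel

theorem mul_mul_inv_comm {G : Type u} [Group G] {c x : G} (h : c * x = x * c) :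
    c * x * c⁻¹ = x := by
  rw [h, mul_assoc, mul_inv_cancel, mul_one]

/-- The noncentral double transpositions of `T_K`. -/
def MZ : List S6 := [pA * pB, pA * pC, pE, pE * pZ]

theorem four_tK {σ : S6} (h : Inv2 σ) (ha : σ * pA = pA * σ) (hz : σ * pZ = pZ * σ)
    (h4 : mv σ = 4) : σ = pZ ∨ σ ∈ MZ := by
  have key : invTK.all (fun f => mvL f != 4 || (f == eZ || (MZ.map enc).contains f)) = true := by
    decide +kernel
  rw [List.all_eq_true] at key
  have := key _ (mem_invTK h ha hz)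
  rw [mv_eq] at h4
  simpa [MZ, h4, eq_iff (σ := σ), enc_mul, enc_pZ] using this

/-- Words in `pA`, `y`, `x`, `pZ`. -/
def wd (x y : S6) (q : Bool × Bool × Bool × Bool) : S6 :=
  (if q.1 then pA else 1) * (if q.2.1 then y else 1) * (if q.2.2.1 then x else 1) *
    (if q.2.2.2 then pZ else 1)

def boolQuads : List (Bool × Bool × Bool × Bool) :=
  [false, true].flatMap fun i => [false, true].flatMap fun j => [false, true].flatMap fun k =>
    [false, true].map fun l => (i, j, k, l)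

theorem exists_wd {σ : S6} (ha : σ * pA = pA * σ) (hz : σ * pZ = pZ * σ) :
    ∃ q, σ = wd pE (pA * pB) q := by
  have key : (all6.filter fun f => comB f eA && comB f eZ).all (fun f =>
      boolQuads.any fun q => f == enc (wd pE (pA * pB) q)) = true := by decide +kernel
  rw [List.all_eq_true] at key
  have h := key _ (mem_tK_filter ha hz)
  rw [List.any_eq_true] at h
  obtain ⟨q, -, hq⟩ := h
  exact ⟨q, enc_injective (beq_iff_eq.mp hq)⟩

/-- Test for `wd_sq_false`. -/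
def wdBad (x y : S6) (q : Bool × Bool × Bool × Bool) : Bool :=
  let p := wd pE (pA * pB) q
  decide (wd x y q = p * pZ) &&
    ((boolQuads.all fun q' => decide (wd pE (pA * pB) q' ≠ x) || decide (wd x y q' = p * pE * p⁻¹)) &&
      boolQuads.all fun q' => decide (wd pE (pA * pB) q' ≠ y) ||
        decide (wd x y q' = p * (pA * pB) * p⁻¹))

theorem wd_sq_false {x y : S6} {q : Bool × Bool × Bool × Bool} (hx : x ∈ [pA * pB, pA * pC])
    (hy : y ∈ [pE, pE * pZ]) (hq : q ∈ boolQuads) :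
    ¬ (wd x y q = wd pE (pA * pB) q * pZ ∧
      (∀ q' ∈ boolQuads, wd pE (pA * pB) q' = x →
        wd x y q' = wd pE (pA * pB) q * pE * (wd pE (pA * pB) q)⁻¹) ∧
      ∀ q' ∈ boolQuads, wd pE (pA * pB) q' = y →
        wd x y q' = wd pE (pA * pB) q * (pA * pB) * (wd pE (pA * pB) q)⁻¹) := by
  have key : [pA * pB, pA * pC].all (fun x => [pE, pE * pZ].all fun y => boolQuads.all fun q =>
      !wdBad x y q) = true := by decide +kernel
  simp only [List.all_eq_true] at key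
  have h := key x hx y hy q hq
  rintro ⟨h1, h2, h3⟩
  have : wdBad x y q = true := by
    simp only [wdBad, Bool.and_eq_true, decide_eq_true_eq, List.all_eq_true, Bool.or_eq_true]
    exact ⟨h1, fun q' hq' => (Classical.em _).symm.imp id (h2 q' hq'),
      fun q' hq' => (Classical.em _).symm.imp id (h3 q' hq')⟩
  simp [this] at h

namespace Cent

variable {G : Type u} [Group G] (F : Cent G)

theorem twist_T : F.twist.T = F.T := by
  ext g
  rw [F.twist.mem_T, F.mem_T]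
  constructor <;> rintro ⟨l, hl, h⟩ <;> refine ⟨l, hl, ?_⟩ <;>
    rw [show F.twist.ι l = F.twistHom l from rfl, show F.twist.t = F.t from rfl, twist_apply] at *
  · by_cases hs : Equiv.Perm.sign l = 1
    · rwa [if_pos hs] at h
    · rw [if_neg hs, ← mul_assoc, F.t_sq, one_mul] at h
      exact h.symm
  · by_cases hs : Equiv.Perm.sign l = 1
    · rwa [if_pos hs]
    · rw [if_neg hs, ← mul_assoc, F.t_sq, one_mul]
      exact h.symm

/-- `W`: the elements centralising `a, z, e` and moving `t` within `t·⟨z, e⟩`. -/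
def W : Subgroup G where
  carrier := {g | (g * F.ι pA = F.ι pA * g ∧ g * F.ι pZ = F.ι pZ * g ∧ g * F.ι pE = F.ι pE * g) ∧
    ∃ v : G, (v = 1 ∨ v = F.ι pZ ∨ v = F.ι pE ∨ v = F.ι (pE * pZ)) ∧
      g * F.t * g⁻¹ = F.t * v}
  one_mem' := ⟨⟨by simp, by simp, by simp⟩, 1, Or.inl rfl, by simp⟩
  mul_mem' := by
    rintro g h ⟨⟨ga, gz, ge⟩, v, hv, gt⟩ ⟨⟨ha, hz, he⟩, w, hw, ht⟩
    refine ⟨⟨by rw [mul_assoc, ha, ← mul_assoc, ga, mul_assoc],
      by rw [mul_assoc, hz, ← mul_assoc, gz, mul_assoc],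
      by rw [mul_assoc, he, ← mul_assoc, ge, mul_assoc]⟩, v * w, ?_, ?_⟩
    · have h11 : F.ι pZ * F.ι pZ = 1 := by rw [← map_mul, inv2_pZ.1, map_one]
      have h22 : F.ι pE * F.ι pE = 1 := by rw [← map_mul, inv2_pE.1, map_one]
      have h33 : F.ι (pE * pZ) * F.ι (pE * pZ) = 1 := by
        rw [← map_mul, show pE * pZ * (pE * pZ) = 1 by decide +kernel, map_one]
      have h12 : F.ι pZ * F.ι pE = F.ι (pE * pZ) := by
        rw [← map_mul, show pZ * pE = pE * pZ by decide +kernel]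
      have h21 : F.ι pE * F.ι pZ = F.ι (pE * pZ) := by rw [← map_mul]
      have h13 : F.ι pZ * F.ι (pE * pZ) = F.ι pE := by
        rw [← map_mul, show pZ * (pE * pZ) = pE by decide +kernel]
      have h31 : F.ι (pE * pZ) * F.ι pZ = F.ι pE := by
        rw [← map_mul, show pE * pZ * pZ = pE by decide +kernel]
      have h23 : F.ι pE * F.ι (pE * pZ) = F.ι pZ := by
        rw [← map_mul, show pE * (pE * pZ) = pZ by decide +kernel]
      have h32 : F.ι (pE * pZ) * F.ι pE = F.ι pZ := by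
        rw [← map_mul, show pE * pZ * pE = pZ by decide +kernel]
      rcases hv with rfl | rfl | rfl | rfl <;> rcases hw with rfl | rfl | rfl | rfl <;>
        simp only [h11, h22, h33, h12, h21, h13, h31, h23, h32, one_mul, mul_one, true_or, or_true]
    · have hgw : g * w * g⁻¹ = w := by
        apply mul_mul_inv_comm
        rcases hw with rfl | rfl | rfl | rfl
        · simp
        · exact gz
        · exact ge
        · rw [map_mul, ← mul_assoc, ge, mul_assoc, gz, mul_assoc]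
      rw [show g * h * F.t * (g * h)⁻¹ = g * (h * F.t * h⁻¹) * g⁻¹ by group, ht,
        show g * (F.t * w) * g⁻¹ = g * F.t * g⁻¹ * (g * w * g⁻¹) by group, gt, hgw, mul_assoc]
  inv_mem' := by
    rintro g ⟨⟨ga, gz, ge⟩, v, hv, gt⟩
    refine ⟨⟨(show Commute g _ from ga).inv_left, (show Commute g _ from gz).inv_left,
      (show Commute g _ from ge).inv_left⟩, v, hv, ?_⟩
    have hgv : g * v * g⁻¹ = v := by
      apply mul_mul_inv_comm
      rcases hv with rfl | rfl | rfl | rfl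
      · simp
      · exact gz
      · exact ge
      · rw [map_mul, ← mul_assoc, ge, mul_assoc, gz, mul_assoc]
    have hvv : v * v = 1 := by
      rcases hv with rfl | rfl | rfl | rfl
      · simp
      all_goals rw [← map_mul, ← map_one F.ι]; congr 1; decide +kernel
    have : g * (F.t * v) * g⁻¹ = F.t := by
      rw [show g * (F.t * v) * g⁻¹ = g * F.t * g⁻¹ * (g * v * g⁻¹) by group, gt, hgv, mul_assoc,
        hvv, mul_one]
    calc g⁻¹ * F.t * g⁻¹⁻¹ = g⁻¹ * (g * (F.t * v) * g⁻¹) * g := by rw [this]; group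
      _ = F.t * v := by group

theorem m0_W [Finite G] (hX : ¬ 4 ∣ Nat.card {u : G // F.IsX u})
    {K : Subgroup G} {s : G} (hTK : F.T ≤ K) (hK : Nat.card K = 64) (hs : s ∈ K)
    (hst : s * F.t * s⁻¹ = F.t * F.ι pZ) (hsa : s * F.ι pA * s⁻¹ = F.ι pA)
    (hsz : s * F.ι pZ * s⁻¹ = F.ι pZ)
    (hse : s * F.ι pE * s⁻¹ = F.ι pE ∨ s * F.ι pE * s⁻¹ = F.ι (pE * pZ)) : False := by
  obtain ⟨c, hca, hcz, hce⟩ : ∃ c : S6, c * pA * c⁻¹ = pA ∧ c * pZ * c⁻¹ = pZ ∧
      F.ι c * (s * F.ι pE * s⁻¹) * (F.ι c)⁻¹ = F.ι pE := by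
    rcases hse with e | e <;> rw [e]
    · exact ⟨1, by simp, by simp, by simp⟩
    · refine ⟨pB, by decide +kernel, by decide +kernel, ?_⟩
      rw [← map_inv, ← map_mul, ← map_mul]
      exact congrArg F.ι (by decide +kernel)
  have conjι : ∀ {d x : S6}, ∀ g : G, ∀ {y : G}, g * y * g⁻¹ = F.ι x →
      F.ι d * g * y * (F.ι d * g)⁻¹ = F.ι (d * x * d⁻¹) := by
    intro d x g y h
    rw [show F.ι d * g * y * (F.ι d * g)⁻¹ = F.ι d * (g * y * g⁻¹) * (F.ι d)⁻¹ by group, h,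
      map_mul, map_mul, map_inv]
  set r := F.ι c * s with hr
  have hra : r * F.ι pA * r⁻¹ = F.ι pA := by rw [hr, conjι s hsa, hca]
  have hrz : r * F.ι pZ * r⁻¹ = F.ι pZ := by rw [hr, conjι s hsz, hcz]
  have hre : r * F.ι pE * r⁻¹ = F.ι pE := by
    rw [hr, show F.ι c * s * F.ι pE * (F.ι c * s)⁻¹ = F.ι c * (s * F.ι pE * s⁻¹) * (F.ι c)⁻¹ by
      group, hce]
  have ht : F.ι c * F.t * (F.ι c)⁻¹ = F.t := mul_mul_inv_comm (F.comm c)
  have hrt : r * F.t * r⁻¹ = F.t * F.ι pZ := by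
    rw [hr, show F.ι c * s * F.t * (F.ι c * s)⁻¹ = F.ι c * (s * F.t * s⁻¹) * (F.ι c)⁻¹ by group,
      hst, show F.ι c * (F.t * F.ι pZ) * (F.ι c)⁻¹ =
      F.ι c * F.t * (F.ι c)⁻¹ * (F.ι c * F.ι pZ * (F.ι c)⁻¹) by group, ht, ← map_inv, ← map_mul,
      ← map_mul, hcz]
  set y := F.ι pY3 with hy
  have hyt : y * F.t * y⁻¹ = F.t := mul_mul_inv_comm (F.comm pY3)
  have hyι : ∀ x, y * F.ι x * y⁻¹ = F.ι (pY3 * x * pY3⁻¹) := fun x => by
    rw [hy, map_mul, map_mul, map_inv]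
  set r' := y * r * y⁻¹ with hr'
  have hr'ι : ∀ {x : S6}, r * F.ι x * r⁻¹ = F.ι x →
      r' * F.ι (pY3 * x * pY3⁻¹) * r'⁻¹ = F.ι (pY3 * x * pY3⁻¹) := by
    intro x hx
    rw [← hyι, hr', show y * r * y⁻¹ * (y * F.ι x * y⁻¹) * (y * r * y⁻¹)⁻¹ =
      y * (r * F.ι x * r⁻¹) * y⁻¹ by group, hx]
  have hpA : pY3 * pA * pY3⁻¹ = pA := mul_mul_inv_comm pY3_comm
  have hr'a : r' * F.ι pA * r'⁻¹ = F.ι pA := by
    have := hr'ι hra; rwa [hpA] at this
  have hr'z : r' * F.ι pZ * r'⁻¹ = F.ι pZ := by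
    have := hr'ι hre; rwa [pY3_pE'] at this
  have hr'e : r' * F.ι pE * r'⁻¹ = F.ι pE := by
    have := hr'ι hrz
    rw [pY3_pZ', map_mul, show r' * (F.ι pE * F.ι pZ) * r'⁻¹ =
      r' * F.ι pE * r'⁻¹ * (r' * F.ι pZ * r'⁻¹) by group, hr'z] at this
    exact mul_right_cancel this
  have hr't : r' * F.t * r'⁻¹ = F.t * F.ι (pE * pZ) := by
    conv_lhs => rw [← hyt]
    rw [hr', show y * r * y⁻¹ * (y * F.t * y⁻¹) * (y * r * y⁻¹)⁻¹ = y * (r * F.t * r⁻¹) * y⁻¹ by
      group, hrt, show y * (F.t * F.ι pZ) * y⁻¹ = y * F.t * y⁻¹ * (y * F.ι pZ * y⁻¹) by group,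
      hyt, hyι, pY3_pZ']
  have hrW : r ∈ F.W := ⟨⟨mul_inv_eq_iff_eq_mul.mp hra, mul_inv_eq_iff_eq_mul.mp hrz,
    mul_inv_eq_iff_eq_mul.mp hre⟩, _, Or.inr (Or.inl rfl), hrt⟩
  have hr'W : r' ∈ F.W := ⟨⟨mul_inv_eq_iff_eq_mul.mp hr'a, mul_inv_eq_iff_eq_mul.mp hr'z,
    mul_inv_eq_iff_eq_mul.mp hr'e⟩, _, Or.inr (Or.inr (Or.inr rfl)), hr't⟩
  obtain ⟨d, hd, hdW⟩ : ∃ d, (d * F.t * d⁻¹ = F.t * F.ι pE) ∧ d ∈ F.W := by
    refine ⟨r' * r, ?_, F.W.mul_mem hr'W hrW⟩
    rw [show r' * r * F.t * (r' * r)⁻¹ = r' * (r * F.t * r⁻¹) * r'⁻¹ by group, hrt,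
      show r' * (F.t * F.ι pZ) * r'⁻¹ = r' * F.t * r'⁻¹ * (r' * F.ι pZ * r'⁻¹) by group, hr't,
      hr'z, mul_assoc, ← map_mul, show pE * pZ * pZ = pE by decide +kernel]
  -- `W` has order 64
  let B := {σ : S6 // σ * pA = pA * σ ∧ σ * pZ = pZ * σ ∧ σ * pE = pE * σ}
  let D := {g : G // g ∈ F.W ∧ g * F.t = F.t * g}
  have hD : Nat.card D = 16 := by
    have e16 : Nat.card (Bool × B) = 16 := by
      rw [Nat.card_prod, show Nat.card B = 8 from card_cent_aze]; simp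
    rw [← e16]
    have mem : ∀ p : Bool × B, ((F.equivC (p.1, p.2.1) : G) ∈ F.W ∧
        (F.equivC (p.1, p.2.1) : G) * F.t = F.t * (F.equivC (p.1, p.2.1) : G)) := by
      intro p
      have h := Subgroup.mem_centralizer_singleton_iff.mp (F.equivC (p.1, p.2.1)).2
      refine ⟨⟨?_, 1, Or.inl rfl, ?_⟩, h⟩
      · rw [equivC_apply]
        cases p.1
        · exact ⟨F.commute_iff_ι.mpr p.2.2.1, F.commute_iff_ι.mpr p.2.2.2.1,
            F.commute_iff_ι.mpr p.2.2.2.2⟩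
        · exact ⟨F.tmul_commute_iff.mpr p.2.2.1, F.tmul_commute_iff.mpr p.2.2.2.1,
            F.tmul_commute_iff.mpr p.2.2.2.2⟩
      · rw [mul_one]; exact mul_mul_inv_comm h
    refine (Nat.card_congr (Equiv.ofBijective (fun p => (⟨_, mem p⟩ : D)) ⟨?_, ?_⟩)).symm
    · rintro ⟨i, m⟩ ⟨j, n⟩ h
      have h' : F.equivC (i, m.1) = F.equivC (j, n.1) := Subtype.ext (congrArg Subtype.val h :)
      have h'' := F.equivC.injective h'
      simp only [Prod.mk.injEq] at h''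
      exact Prod.ext h''.1 (Subtype.ext h''.2)
    · rintro ⟨g, ⟨⟨ga, gz, ge⟩, -⟩, hgt⟩
      obtain ⟨m, rfl | rfl⟩ := F.split g hgt
      · exact ⟨(false, ⟨m, F.commute_iff_ι.mp ga, F.commute_iff_ι.mp gz, F.commute_iff_ι.mp ge⟩),
          Subtype.ext (by simp [equivC_apply])⟩
      · exact ⟨(true, ⟨m, F.tmul_commute_iff.mp ga, F.tmul_commute_iff.mp gz,
          F.tmul_commute_iff.mp ge⟩), Subtype.ext (by simp [equivC_apply])⟩
  have hne4 : (1 : S6) ≠ pZ ∧ (1 : S6) ≠ pE ∧ (1 : S6) ≠ pE * pZ ∧ pZ ≠ pE ∧ pZ ≠ pE * pZ ∧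
      pE ≠ pE * pZ := by decide +kernel
  let rep : Bool × Bool → G := fun i => match i with
    | (false, false) => 1
    | (true, false) => r
    | (false, true) => d
    | (true, true) => r'
  let vv : Bool × Bool → S6 := fun i => match i with
    | (false, false) => 1
    | (true, false) => pZ
    | (false, true) => pE
    | (true, true) => pE * pZ
  have hrep : ∀ i, rep i ∈ F.W ∧ rep i * F.t * (rep i)⁻¹ = F.t * F.ι (vv i) := by
    rintro ⟨_ | _, _ | _⟩
    · exact ⟨F.W.one_mem, by simp [rep, vv]⟩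
    · exact ⟨hdW, hd⟩
    · exact ⟨hrW, hrt⟩
    · exact ⟨hr'W, hr't⟩
  have hvv : Function.Injective vv := by
    rintro ⟨_ | _, _ | _⟩ ⟨_ | _, _ | _⟩ h <;> first | rfl | (simp only [vv] at h; tauto) |
      (simp only [vv] at h; have := h.symm; tauto)
  have hW : Nat.card F.W = 2 ^ 6 := by
    have e64 : Nat.card ((Bool × Bool) × D) = 2 ^ 6 := by
      rw [Nat.card_prod, hD]; simp
    rw [← e64]
    refine (Nat.card_congr (Equiv.ofBijective
      (fun p : (Bool × Bool) × D => (⟨rep p.1 * p.2.1, F.W.mul_mem (hrep p.1).1 p.2.2.1⟩ : F.W))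
      ⟨?_, ?_⟩)).symm
    · rintro ⟨i, g, hg⟩ ⟨j, g', hg'⟩ h
      have h' : rep i * g = rep j * g' := congrArg Subtype.val h
      have hi : i = j := by
        apply hvv; apply F.tmul_inj
        rw [← (hrep i).2, ← (hrep j).2]
        calc rep i * F.t * (rep i)⁻¹ = rep i * (g * F.t * g⁻¹) * (rep i)⁻¹ := by
              rw [mul_mul_inv_comm hg.2]
          _ = (rep i * g) * F.t * (rep i * g)⁻¹ := by group
          _ = (rep j * g') * F.t * (rep j * g')⁻¹ := by rw [h']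
          _ = rep j * (g' * F.t * g'⁻¹) * (rep j)⁻¹ := by group
          _ = rep j * F.t * (rep j)⁻¹ := by rw [mul_mul_inv_comm hg'.2]
      subst hi
      exact Prod.ext rfl (Subtype.ext (mul_left_cancel h'))
    · rintro ⟨g, hg⟩
      obtain ⟨v, hv, hgt⟩ := hg.2
      obtain ⟨i, rfl⟩ : ∃ i, F.ι (vv i) = v := by
        rcases hv with rfl | rfl | rfl | rfl
        · exact ⟨(false, false), map_one _⟩
        · exact ⟨(true, false), rfl⟩
        · exact ⟨(false, true), rfl⟩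
        · exact ⟨(true, true), rfl⟩
      refine ⟨(i, ⟨(rep i)⁻¹ * g, F.W.mul_mem (F.W.inv_mem (hrep i).1) hg, ?_⟩), Subtype.ext ?_⟩
      · apply mul_inv_eq_iff_eq_mul.mp
        rw [show (rep i)⁻¹ * g * F.t * ((rep i)⁻¹ * g)⁻¹ =
          (rep i)⁻¹ * (g * F.t * g⁻¹) * rep i by group, hgt, ← (hrep i).2]
        group
      · show rep i * ((rep i)⁻¹ * g) = g
        group
  have hfull : ¬ 2 ^ (6 + 1) ∣ Nat.card G := by
    rw [← F.card_G]
    intro h
    apply hX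
    omega
  obtain ⟨g, hg⟩ := InvCentS7.Tools.conj_of_card hW (by rw [hK]; norm_num : Nat.card K = 2 ^ 6) hfull
  -- the eight central elements of `W`
  have hsT : s ∉ F.T := fun h => by
    have h1 := mul_inv_eq_iff_eq_mul.mpr (Subgroup.mem_centralizer_singleton_iff.mp (F.T_le h))
    rw [hst] at h1
    have h2 : F.t * F.ι pZ = F.t * F.ι 1 := by rw [h1, map_one, mul_one]
    exact inv2_pZ.2 (F.tmul_inj h2)
  let Z8 := {σ : S6 // σ * pA = pA * σ ∧ σ * pZ = pZ * σ ∧ σ * pE = pE * σ}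
  have hZW : ∀ σ : Z8, F.ι σ.1 ∈ F.W ∧ ∀ x ∈ F.W, F.ι σ.1 * x = x * F.ι σ.1 := by
    intro σ
    refine ⟨⟨⟨F.commute_iff_ι.mpr σ.2.1, F.commute_iff_ι.mpr σ.2.2.1,
      F.commute_iff_ι.mpr σ.2.2.2⟩, 1, Or.inl rfl, by
        rw [mul_one]; exact mul_mul_inv_comm (F.comm _)⟩, ?_⟩
    rintro x ⟨⟨xa, xz, xe⟩, -⟩
    have ha : Commute (F.ι pA) x := (show Commute x _ from xa).symm
    have hz : Commute (F.ι pZ) x := (show Commute x _ from xz).symm
    have he : Commute (F.ι pE) x := (show Commute x _ from xe).symm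
    have h1 : Commute (F.ι 1) x := by rw [map_one]; exact Commute.one_left x
    have hmem := cent_aze σ.2.1 σ.2.2.1 σ.2.2.2
    simp only [List.mem_cons, List.not_mem_nil, or_false] at hmem
    rcases hmem with e | e | e | e | e | e | e | e <;> rw [e] <;>
      (try simp only [pT, map_mul])
    · exact h1
    · exact ha
    · exact hz
    · exact ha.mul_left hz
    · exact he
    · exact ha.mul_left he
    · exact he.mul_left hz
    · exact (ha.mul_left he).mul_left hz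
  -- central elements of `K`
  have hcenK : ∀ w ∈ K, (∀ x ∈ K, w * x = x * w) →
      ∃ m : ({1, pA, pZ, pT} : Finset S6), w = F.ι m.1 := by
    intro w hw hcw
    have hwt : w * F.t = F.t * w := hcw _ (hTK F.t_mem_T)
    have hwT : w ∈ F.T := by
      rw [Cent.T, Subgroup.mem_centralizer_iff]
      simp only [Set.mem_insert_iff, Set.mem_singleton_iff, forall_eq_or_imp, forall_eq]
      exact ⟨hwt.symm, (hcw _ (hTK (F.ι_mem_T rfl (by decide +kernel)))).symm,
        (hcw _ (hTK (F.ι_mem_T (by decide +kernel) rfl))).symm⟩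
    obtain ⟨m, hm, hwm⟩ := F.central_T hwT (fun x hx => hcw x (hTK hx))
    have hmF : m ∈ ({1, pA, pZ, pT} : Finset S6) := by
      simp only [Finset.mem_insert, Finset.mem_singleton]; exact hm
    rcases hwm with e | e
    · exact ⟨⟨m, hmF⟩, e⟩
    exfalso
    have hfix : s * F.ι m * s⁻¹ = F.ι m := by
      rcases hm with rfl | rfl | rfl | rfl
      · simp
      · exact hsa
      · exact hsz
      · rw [pT, map_mul, show s * (F.ι pA * F.ι pZ) * s⁻¹ =
          s * F.ι pA * s⁻¹ * (s * F.ι pZ * s⁻¹) by group, hsa, hsz]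
    have h1 := mul_inv_eq_iff_eq_mul.mpr (hcw s hs).symm
    rw [e, show s * (F.t * F.ι m) * s⁻¹ = s * F.t * s⁻¹ * (s * F.ι m * s⁻¹) by group, hst, hfix,
      mul_assoc, ← map_mul] at h1
    exact inv2_pZ.2 (mul_eq_right.mp (F.tmul_inj h1))
  have key : ∀ σ : Z8, ∃ m : ({1, pA, pZ, pT} : Finset S6), g * F.ι σ.1 * g⁻¹ = F.ι m.1 := by
    intro σ
    obtain ⟨h1, h2⟩ := hZW σ
    refine hcenK _ (hg _ h1) fun x hx => ?_
    haveI : Finite F.W := inferInstance
    obtain ⟨w, hw⟩ : ∃ w : F.W, g * w.1 * g⁻¹ = x := by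
      let Φ : F.W → K := fun w => ⟨g * w.1 * g⁻¹, hg _ w.2⟩
      have hΦ : Function.Bijective Φ := (Nat.bijective_iff_injective_and_card Φ).mpr
        ⟨fun a b e => Subtype.ext (mul_left_cancel (mul_right_cancel (congrArg Subtype.val e :))),
          by rw [hW, hK]; norm_num⟩
      obtain ⟨w, hw⟩ := hΦ.2 ⟨x, hx⟩
      exact ⟨w, congrArg Subtype.val hw⟩
    rw [← hw, conj_comm_iff]
    exact h2 _ w.2
  choose f hf using key
  have hfi : Function.Injective f := by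
    intro a b e
    have := (hf a).trans ((congrArg (fun m : ({1, pA, pZ, pT} : Finset S6) => F.ι m.1) e).trans
      (hf b).symm)
    exact Subtype.ext (F.inj (mul_left_cancel (mul_right_cancel this)))
  have := Nat.card_le_card_of_injective f hfi
  rw [show Nat.card Z8 = 8 from card_cent_aze, Nat.card_eq_fintype_card, Fintype.card_coe] at this
  have h4' : ({1, pA, pZ, pT} : Finset S6).card ≤ 4 := Finset.card_le_four
  omega

theorem m0_aux [Finite G] (hG : ¬ ∃ H : Subgroup G, H.index = 2)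
    (hX : ¬ 4 ∣ Nat.card {u : G // F.IsX u})
    (h0 : ¬ F.IsX (F.ι pA) ∧ ¬ F.IsX (F.t * F.ι pA) ∧ ¬ F.IsX (F.ι pT) ∧
      ¬ F.IsX (F.t * F.ι pT) ∧ ¬ F.IsX (F.ι pZ) ∧ F.IsX (F.t * F.ι pZ))
    {K : Subgroup G} {s : G} (hTK : F.T ≤ K) (hK : Nat.card K = 64) (hs : s ∈ K)
    (hn : ∀ x ∈ F.T, s * x * s⁻¹ ∈ F.T) (hsq : s * s ∈ F.T)
    (hst : s * F.t * s⁻¹ = F.t * F.ι pZ) (hsa : s * F.ι pA * s⁻¹ = F.ι pA)
    (hsz : s * F.ι pZ * s⁻¹ = F.ι pZ) : False := by
  obtain ⟨n2, n2', n6, n6', n4, h4⟩ := h0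
  change cj s F.t = F.t * F.ι pZ at hst
  change cj s (F.ι pA) = F.ι pA at hsa
  change cj s (F.ι pZ) = F.ι pZ at hsz
  change ∀ x ∈ F.T, cj s x ∈ F.T at hn
  have notA : ∀ m, ¬ F.IsX (F.ι m) := by
    intro m h
    have hm := F.A_inv2 h
    rcases mv_of_inv2 hm with e | e | e
    · exact n2 ((F.A_class hm inv2_pA (by rw [e, mv_pA])).mp h)
    · exact n4 ((F.A_class hm inv2_pZ (by rw [e, mv_pZ])).mp h)
    · exact n6 ((F.A_class hm inv2_pT (by rw [e, mv_pT])).mp h)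
  have only : ∀ {y : G}, y ∈ F.T → F.IsX y →
      y = F.t ∨ y = F.t * F.ι pZ ∨ ∃ m ∈ MZ, y = F.t * F.ι m := by
    intro y hy hX'
    obtain ⟨l, ⟨ha, hz⟩, rfl | rfl⟩ := F.mem_T.mp hy
    · exact absurd hX' (notA l)
    · by_cases h1 : l = 1
      · subst h1; left; rw [map_one, mul_one]
      have hl : Inv2 l := ⟨F.B_sq hX', h1⟩
      rcases mv_of_inv2 hl with e | e | e
      · exact absurd ((F.B_class hl inv2_pA (by rw [e, mv_pA])).mp hX') n2'
      · rcases four_tK hl ha hz e with rfl | h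
        · exact Or.inr (Or.inl rfl)
        · exact Or.inr (Or.inr ⟨l, h, rfl⟩)
      · exact absurd ((F.B_class hl inv2_pT (by rw [e, mv_pT])).mp hX') n6'
  have hMZ : ∀ m ∈ MZ, (Inv2 m ∧ mv m = 4) ∧ (m * pA = pA * m ∧ m * pZ = pZ * m) ∧ m ≠ pZ ∧
      pZ * m ∈ MZ := by
    intro m hm
    simp only [MZ, List.mem_cons, List.not_mem_nil, or_false] at hm ⊢
    rcases hm with rfl | rfl | rfl | rfl <;>
      refine ⟨⟨by rw [inv2_iff]; decide +kernel, by decide +kernel⟩,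
        ⟨by decide +kernel, by decide +kernel⟩, by decide +kernel, by decide +kernel⟩
  have img : ∀ m ∈ MZ, ∃ m' ∈ MZ, cj s (F.ι m) = F.ι m' := by
    intro m hm
    obtain ⟨⟨hi, h4m⟩, ⟨ha, hz⟩, hne, -⟩ := hMZ m hm
    have e : cj s (F.t * F.ι m) = F.t * F.ι pZ * cj s (F.ι m) := by rw [cj_mul, hst]
    rcases only (hn _ (F.tι_mem_T ha hz))
      ((F.isX_cj s).mpr ((F.B_class hi inv2_pZ (by rw [h4m, mv_pZ])).mpr h4)) with h | h | ⟨m', hm', h⟩
    · rw [e] at h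
      have h1 : F.ι pZ * cj s (F.ι m) = 1 := by
        rw [mul_assoc] at h
        exact mul_left_cancel (h.trans (mul_one _).symm)
      have h2 : cj s (F.ι m) = cj s (F.ι pZ) := by
        rw [hsz, ← inv_eq_of_mul_eq_one_right h1, ← map_inv,
          inv_eq_of_mul_eq_one_right inv2_pZ.1]
      exact absurd (F.inj (cj_inj h2)) hne
    · rw [e] at h
      have h1 : cj s (F.ι m) = 1 := mul_left_cancel (h.trans (mul_one _).symm)
      exact absurd (F.inj ((cj_inj (h1.trans (cj_one s).symm)).trans (map_one F.ι).symm)) hi.2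
    · rw [e, mul_assoc] at h
      refine ⟨pZ * m', (hMZ m' hm').2.2.2, ?_⟩
      rw [map_mul, ← mul_left_cancel h, ← mul_assoc, ← map_mul, inv2_pZ.1, map_one, one_mul]
  have hMl : pA * pB ∈ MZ ∧ pE ∈ MZ := by simp [MZ]
  obtain ⟨x, hx, hse⟩ := img pE hMl.2
  obtain ⟨y, hy, hsab⟩ := img (pA * pB) hMl.1
  by_cases hx' : x = pE ∨ x = pE * pZ
  · refine F.m0_W hX hTK hK hs hst hsa hsz ?_
    rcases hx' with rfl | rfl
    · exact Or.inl hse
    · exact Or.inr hse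
  have hx2 : x ∈ [pA * pB, pA * pC] := by
    simp only [MZ, List.mem_cons, List.not_mem_nil, or_false] at hx ⊢; tauto
  have hy2 : y ∈ [pE, pE * pZ] := by
    simp only [MZ, List.mem_cons, List.not_mem_nil, or_false] at hy hx2 ⊢
    have hne1 : y ≠ x := fun e => absurd (F.inj (cj_inj (hsab.trans ((congrArg F.ι e).trans hse.symm))))
      (by decide +kernel)
    have hne2 : y ≠ x * pZ := fun e => by
      have h : cj s (F.ι (pA * pB)) = cj s (F.ι (pE * pZ)) := by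
        rw [hsab, map_mul F.ι pE, cj_mul, hse, hsz, e, map_mul]
      exact absurd (F.inj (cj_inj h)) (by decide +kernel)
    rcases hx2 with rfl | rfl
    · rw [show pA * pB * pZ = pA * pC by decide +kernel] at hne2; tauto
    · rw [show pA * pC * pZ = pA * pB by decide +kernel] at hne2; tauto
  -- the action on `ι T_K`
  have hwd : ∀ q, cj s (F.ι (wd pE (pA * pB) q)) = F.ι (wd x y q) := by
    intro q
    simp only [wd, map_mul, cj_mul]
    have h1 : ∀ (b : Bool) (u v : S6), cj s (F.ι u) = F.ι v →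
        cj s (F.ι (if b then u else 1)) = F.ι (if b then v else 1) := by
      intro b u v h; cases b
      · simp [cj_one]
      · simpa using h
    rw [h1 _ _ _ hsa, h1 _ _ _ hsab, h1 _ _ _ hse, h1 _ _ _ hsz]
  obtain ⟨σ₀, ⟨ha0, hz0⟩, hσ0⟩ := F.mem_T.mp hsq
  obtain ⟨q₀, hq₀⟩ := exists_wd ha0 hz0
  have hp : s * s = F.ι σ₀ := by
    rcases hσ0 with e | e
    · exact e
    exfalso
    have hfix : cj s (s * s) = s * s := by simp [cj, mul_assoc]
    have hcomm : ∀ l, cj (s * s) (F.ι l) = F.ι (σ₀ * l * σ₀⁻¹) := fun l => by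
      rw [e, F.cj_tι_ι]
    refine wd_sq_false hx2 hy2 (q := q₀) ?_ ⟨?_, ?_, ?_⟩
    · obtain ⟨i, j, k, l⟩ := q₀
      cases i <;> cases j <;> cases k <;> cases l <;> simp [boolQuads]
    · apply F.inj
      rw [e, cj_mul, hst, hq₀, hwd, mul_assoc] at hfix
      have h := mul_left_cancel hfix
      rw [← map_mul] at h
      rw [map_mul _ (wd pE (pA * pB) q₀)]
      calc F.ι (wd x y q₀) = F.ι pZ * F.ι (pZ * wd x y q₀) := by
            rw [map_mul F.ι pZ, ← mul_assoc, ← map_mul, inv2_pZ.1, map_one, one_mul]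
        _ = F.ι pZ * F.ι (wd pE (pA * pB) q₀) := by rw [h]
        _ = _ := by rw [← map_mul, ← map_mul, ← hq₀, hz0]
    · intro q' _ hq'
      apply F.inj
      rw [← hwd, hq', ← hse, cj_cj, hcomm, hq₀]
    · intro q' _ hq'
      apply F.inj
      rw [← hwd, hq', ← hsab, cj_cj, hcomm, hq₀]
  -- the subgroup `ι T_K ⟨s⟩`
  let TK : Subgroup S6 := Subgroup.centralizer {pA, pZ}
  have memTK : ∀ σ, σ ∈ TK ↔ σ * pA = pA * σ ∧ σ * pZ = pZ * σ := by
    intro σ
    show σ ∈ Subgroup.centralizer {pA, pZ} ↔ _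
    rw [Subgroup.mem_centralizer_iff]
    simp only [Set.mem_insert_iff, Set.mem_singleton_iff, forall_eq_or_imp, forall_eq]
    exact ⟨fun h => ⟨h.1.symm, h.2.symm⟩, fun h => ⟨h.1.symm, h.2.symm⟩⟩
  have hx4 : x ∈ TK := (memTK _).mpr (hMZ x hx).2.1
  have hy4 : y ∈ TK := (memTK _).mpr (hMZ y hy).2.1
  have hwdTK : ∀ q, wd x y q ∈ TK := by
    intro q
    have ha : pA ∈ TK := (memTK _).mpr ⟨rfl, by decide +kernel⟩
    have hz : pZ ∈ TK := (memTK _).mpr ⟨by decide +kernel, rfl⟩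
    have h1 : ∀ (b : Bool) (u : S6), u ∈ TK → (if b then u else 1) ∈ TK := by
      intro b u h; cases b
      · exact TK.one_mem
      · exact h
    exact TK.mul_mem (TK.mul_mem (TK.mul_mem (h1 _ _ ha) (h1 _ _ hy4)) (h1 _ _ hx4)) (h1 _ _ hz)
  have himg : ∀ σ ∈ TK, ∃ τ ∈ TK, cj s (F.ι σ) = F.ι τ := by
    intro σ hσ
    obtain ⟨q, rfl⟩ := exists_wd ((memTK σ).mp hσ).1 ((memTK σ).mp hσ).2
    exact ⟨_, hwdTK q, hwd q⟩
  have hσ₀ : σ₀ ∈ TK := (memTK _).mpr ⟨ha0, hz0⟩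
  have himg' : ∀ σ ∈ TK, ∃ τ ∈ TK, F.ι σ * s = s * F.ι τ := by
    intro σ hσ
    obtain ⟨τ, hτ, e⟩ := himg (σ₀⁻¹ * σ * σ₀) (TK.mul_mem (TK.mul_mem (TK.inv_mem hσ₀) hσ) hσ₀)
    refine ⟨τ, hτ, ?_⟩
    rw [← e, map_mul, map_mul, map_inv, ← hp, cj]; group
  let H0 : Subgroup G :=
    { carrier := {g | ∃ σ ∈ TK, g = F.ι σ ∨ g = s * F.ι σ}
      one_mem' := ⟨1, TK.one_mem, Or.inl (map_one _).symm⟩
      mul_mem' := by
        rintro g g' ⟨σ, hσ, rfl | rfl⟩ ⟨σ', hσ', rfl | rfl⟩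
        · exact ⟨σ * σ', TK.mul_mem hσ hσ', Or.inl (map_mul _ _ _).symm⟩
        · obtain ⟨τ, hτ, e⟩ := himg' σ hσ
          exact ⟨τ * σ', TK.mul_mem hτ hσ', Or.inr (by rw [← mul_assoc, e, mul_assoc, map_mul])⟩
        · exact ⟨σ * σ', TK.mul_mem hσ hσ', Or.inr (by rw [mul_assoc, map_mul])⟩
        · obtain ⟨τ, hτ, e⟩ := himg' σ hσ
          refine ⟨σ₀ * τ * σ', TK.mul_mem (TK.mul_mem hσ₀ hτ) hσ', Or.inl ?_⟩
          rw [map_mul, map_mul, ← hp, ← mul_assoc, mul_assoc s (F.ι σ), e, ← mul_assoc]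
      inv_mem' := by
        rintro g ⟨σ, hσ, rfl | rfl⟩
        · exact ⟨σ⁻¹, TK.inv_mem hσ, Or.inl (map_inv _ _).symm⟩
        · obtain ⟨τ, hτ, e⟩ := himg' σ⁻¹ (TK.inv_mem hσ)
          refine ⟨τ * σ₀⁻¹, TK.mul_mem hτ (TK.inv_mem hσ₀), Or.inr ?_⟩
          rw [map_mul, map_inv, ← mul_assoc s, ← e, map_inv, ← hp]; group }
  have hsF : ∀ σ, s ≠ F.ι σ := fun σ e => by
    rw [e, F.cj_ι_t] at hst
    have h := mul_left_cancel ((mul_one _).trans hst)
    exact inv2_pZ.2 (F.inj (h.symm.trans (map_one _).symm))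
  have hcard : Nat.card H0 = 32 := by
    have e32 : Nat.card (Bool × TK) = 32 := by
      have : Nat.card TK = 16 := by
        rw [← card_tK]; exact Nat.card_congr (Equiv.subtypeEquivRight memTK)
      rw [Nat.card_prod, this]; simp
    rw [← e32]
    refine (Nat.card_congr (Equiv.ofBijective (fun p : Bool × TK =>
      (⟨if p.1 then s * F.ι p.2.1 else F.ι p.2.1, p.2.1, p.2.2, by cases p.1 <;> simp⟩ : H0))
      ⟨?_, ?_⟩)).symm
    · rintro ⟨i, a, ha⟩ ⟨j, b, hb⟩ h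
      have h' := congrArg Subtype.val h
      cases i <;> cases j <;> simp only [Bool.false_eq_true, if_false, if_true] at h'
      · exact Prod.ext rfl (Subtype.ext (F.inj h'))
      · exact absurd (by rw [map_mul, map_inv, h', mul_inv_cancel_right]) (hsF (a * b⁻¹))
      · exact absurd (by rw [map_mul, map_inv, ← h', mul_inv_cancel_right]) (hsF (b * a⁻¹))
      · exact Prod.ext rfl (Subtype.ext (F.inj (mul_left_cancel h')))
    · rintro ⟨g, σ, hσ, rfl | rfl⟩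
      · exact ⟨(false, ⟨σ, hσ⟩), rfl⟩
      · exact ⟨(true, ⟨σ, hσ⟩), rfl⟩
  have hdvd := Tools.parity_sub hG F.t_sq H0
  rw [hcard, F.card_C] at hdvd
  -- a free action of `⟨t, ι (a b)⟩` on the conjugates of `t` in `H0`
  let O := {u : G // IsConj F.t u ∧ u ∈ H0}
  have hab : pA * pB ∈ TK := (memTK _).mpr (hMZ _ hMl.1).2.1
  have hsne : ∀ u : O, ∃ σ ∈ TK, u.1 = s * F.ι σ := by
    rintro ⟨u, hu, σ, hσ, rfl | rfl⟩
    · exact absurd hu (notA σ)
    · exact ⟨σ, hσ, rfl⟩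
  have ht0 : ∀ u ∈ H0, cj F.t u ∈ H0 := by
    have hts : cj F.t s = s * F.ι pZ := by
      have h : s * F.t = F.t * F.ι pZ * s := mul_inv_eq_iff_eq_mul.mp hst
      have h2 : F.ι pZ * s = s * F.ι pZ := (mul_inv_eq_iff_eq_mul.mp hsz).symm
      rw [cj, F.t_inv, mul_assoc, h, ← mul_assoc, ← mul_assoc, F.t_sq, one_mul, h2]
    rintro u ⟨σ, hσ, rfl | rfl⟩
    · exact ⟨σ, hσ, Or.inl (F.cj_t_ι σ)⟩
    · refine ⟨pZ * σ, TK.mul_mem ((memTK _).mpr ⟨by decide +kernel, rfl⟩) hσ, Or.inr ?_⟩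
      rw [cj_mul, hts, F.cj_t_ι, map_mul, mul_assoc]
  have ha0' : ∀ u ∈ H0, cj (F.ι (pA * pB)) u ∈ H0 := fun u hu =>
    H0.mul_mem (H0.mul_mem ⟨_, hab, Or.inl rfl⟩ hu) (H0.inv_mem ⟨_, hab, Or.inl rfl⟩)
  let τ1 : O → O := fun u => ⟨cj F.t u.1, (F.isX_cj _).mpr u.2.1, ht0 _ u.2.2⟩
  let τ2 : O → O := fun u =>
    ⟨cj (F.ι (pA * pB)) u.1, (F.isX_cj _).mpr u.2.1, ha0' _ u.2.2⟩
  have habab : F.ι (pA * pB) * F.ι (pA * pB) = 1 := by
    rw [← map_mul, (hMZ _ hMl.1).1.1.1, map_one]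
  have key : ∀ u : O, ∀ w : G, cj u.1 w ≠ w → cj w u.1 ≠ u.1 := fun u w h e =>
    h (cj_of_comm (cj_eq_iff.mp e).symm)
  have himab : ∀ σ ∈ TK, σ * (pA * pB) * σ⁻¹ = pA * pB ∨ σ * (pA * pB) * σ⁻¹ = pA * pC := by
    intro σ hσ
    have chk : (all6.filter fun f => comB f eA && comB f eZ).all (fun f =>
        cjB f (enc (pA * pB)) (enc (pA * pB)) || cjB f (enc (pA * pB)) (enc (pA * pC))) = true := by
      decide +kernel
    rw [List.all_eq_true] at chk
    have := chk _ (mem_tK_filter ((memTK σ).mp hσ).1 ((memTK σ).mp hσ).2)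
    rwa [Bool.or_eq_true, ← cjB_iff, ← cjB_iff] at this
  have hyab : ∀ σ ∈ TK, ∃ m ∈ [pE, pE * pZ], cj (s * F.ι σ) (F.ι (pA * pB)) = F.ι m := by
    intro σ hσ
    rw [← cj_cj, F.cj_ι]
    rcases himab σ hσ with e | e <;> rw [e]
    · exact ⟨y, hy2, hsab⟩
    · refine ⟨y * pZ, ?_, ?_⟩
      · simp only [List.mem_cons, List.not_mem_nil, or_false] at hy2 ⊢
        rcases hy2 with rfl | rfl
        · exact Or.inr rfl
        · left; rw [mul_assoc, inv2_pZ.1, mul_one]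
      · rw [show pA * pC = pA * pB * pZ by decide +kernel, map_mul F.ι (pA * pB), cj_mul, hsab,
          hsz, map_mul]
  have fix1 : ∀ u, τ1 u ≠ u := by
    intro u h
    refine key u F.t ?_ (congrArg Subtype.val h)
    obtain ⟨σ, -, hu⟩ := hsne u
    rw [hu, ← cj_cj, F.cj_ι_t, hst]
    exact fun e => inv2_pZ.2 (F.inj ((mul_left_cancel (e.trans (mul_one _).symm)).trans
      (map_one _).symm))
  have fix2 : ∀ u, τ2 u ≠ u := by
    intro u h
    refine key u _ ?_ (congrArg Subtype.val h)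
    obtain ⟨σ, hσ, hu⟩ := hsne u
    obtain ⟨m, hm, e⟩ := hyab σ hσ
    rw [hu, e]
    simp only [List.mem_cons, List.not_mem_nil, or_false] at hm
    rcases hm with rfl | rfl <;> exact fun e => absurd (F.inj e) (by decide +kernel)
  have fix12 : ∀ u, τ1 (τ2 u) ≠ u := by
    intro u h
    have h' : cj (F.t * F.ι (pA * pB)) u.1 = u.1 := by
      rw [← cj_cj]; exact congrArg Subtype.val h
    refine key u _ ?_ h'
    obtain ⟨σ, hσ, hu⟩ := hsne u
    obtain ⟨m, hm, e⟩ := hyab σ hσ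
    rw [hu, cj_mul, e, ← cj_cj, F.cj_ι_t, hst, mul_assoc, ← map_mul]
    simp only [List.mem_cons, List.not_mem_nil, or_false] at hm
    rcases hm with rfl | rfl <;> exact fun e => absurd (F.tmul_inj e) (by decide +kernel)
  have hcc : ∀ u, τ1 (τ2 u) = τ2 (τ1 u) := fun u => Subtype.ext (by
    show cj F.t (cj _ u.1) = cj _ (cj F.t u.1)
    rw [cj_cj, cj_cj, F.comm])
  have h4 := Tools.four_dvd_card τ1 τ2
    (fun u => Subtype.ext (by show cj F.t (cj F.t u.1) = _; rw [cj_cj, F.t_sq, one_cj]))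
    (fun u => Subtype.ext (by
      show cj _ (cj _ u.1) = _; rw [cj_cj, habab, one_cj]))
    hcc fix1 fix2 fix12
  apply hX
  have e : Nat.card {u : G // F.IsX u} = Nat.card {u : G // IsConj F.t u} := rfl
  rw [e]
  obtain ⟨c, hc⟩ := h4
  rw [show Nat.card {u : G // IsConj F.t u ∧ u ∈ H0} = 4 * c from hc] at hdvd
  omega

/-- Only `t ι l`, `l` a double transposition, are conjugate to `t` in `C(t) \ {t}`: impossible. -/
theorem no_m0 [Finite G] (hG : ¬ ∃ H : Subgroup G, H.index = 2) (h2 : ¬ F.IsX (F.ι pA))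
    (h2' : ¬ F.IsX (F.t * F.ι pA)) : False := by
  have hev := F.not_odd hG
  obtain ⟨htz, hA, hB, h4⟩ := F.even_case hG hev
  have hz := F.not_IsX_z hG hev
  have n6 : ¬ F.IsX (F.ι pT) := fun h => h2 (hA.mpr h)
  have n6' : ¬ F.IsX (F.t * F.ι pT) := fun h => h2' (hB.mpr h)
  have hX : ¬ 4 ∣ Nat.card {u : G // F.IsX u} := fun h => (h4.mp h) (iff_of_false h2 h2')
  obtain ⟨K, s, hTK, hK, hs, hn, hst, hsT⟩ := F.exists_K hev
  have hsz := F.z_fixed hn
  have hsq := F.sq_mem_T hTK hK hs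
  have central_img : ∀ w ∈ F.T, (∀ x ∈ F.T, w * x = x * w) →
      ∃ l, (l = 1 ∨ l = pA ∨ l = pZ ∨ l = pT) ∧
        (s * w * s⁻¹ = F.ι l ∨ s * w * s⁻¹ = F.t * F.ι l) := by
    intro w hw hc
    refine F.central_T (hn w hw) fun x hx => ?_
    have hy : s⁻¹ * x * s ∈ F.T := by
      have h1 : (s * s)⁻¹ * (s * x * s⁻¹) * (s * s) ∈ F.T :=
        F.T.mul_mem (F.T.mul_mem (F.T.inv_mem hsq) (hn x hx)) hsq
      rwa [show (s * s)⁻¹ * (s * x * s⁻¹) * (s * s) = s⁻¹ * x * s by group] at h1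
    have := (conj_comm_iff s _ _).mpr (hc _ hy)
    rwa [show s * (s⁻¹ * x * s) * s⁻¹ = x by group] at this
  have htc : ∀ x ∈ F.T, F.t * x = x * F.t :=
    fun x hx => (Subgroup.mem_centralizer_singleton_iff.mp (F.T_le hx)).symm
  have hts : s * F.t * s⁻¹ = F.t * F.ι pZ := by
    obtain ⟨l, hl, e⟩ := central_img _ F.t_mem_T htc
    have hXs := F.isX_conj F.isX_t s
    rcases e with e | e <;> rw [e] at hXs hst ⊢ <;> rcases hl with rfl | rfl | rfl | rfl
    · exact absurd (map_one F.ι) (F.isX_ne hXs)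
    · exact absurd hXs h2
    · exact absurd hXs hz
    · exact absurd hXs n6
    · exact absurd (by rw [map_one, mul_one]) hst
    · exact absurd hXs h2'
    · rfl
    · exact absurd hXs n6'
  have ha : F.ι pA ∈ F.T := F.ι_mem_T rfl (by decide +kernel)
  have hac : ∀ x ∈ F.T, F.ι pA * x = x * F.ι pA :=
    fun x hx => F.ι_central_T (Or.inr (Or.inl rfl)) hx
  have h2s : s * (s * F.ι pA * s⁻¹) * s⁻¹ = F.ι pA := by
    rw [show s * (s * F.ι pA * s⁻¹) * s⁻¹ = s * s * F.ι pA * (s * s)⁻¹ by group,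
      mul_mul_inv_comm (hac _ hsq).symm]
  obtain ⟨l, hl, e⟩ := central_img _ ha hac
  rcases e with e | e <;> rcases hl with rfl | rfl | rfl | rfl
  · rw [map_one, conj_eq_one_iff, ← map_one F.ι] at e
    exact inv2_pA.2 (F.inj e)
  · exact F.m0_aux hG hX ⟨h2, h2', n6, n6', hz, htz⟩ hTK hK hs hn hsq hts e hsz
  · exact absurd (F.inj (mul_left_cancel (mul_right_cancel (e.trans hsz.symm)))) (by decide +kernel)
  · -- pass to the twisted splitting
    have tA : F.twist.ι pA = F.t * F.ι pA := F.twist_odd inv2_pA (by rw [mv_pA]; decide)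
    have tT : F.twist.ι pT = F.t * F.ι pT := F.twist_odd inv2_pT (by rw [mv_pT]; decide)
    have tZ : F.twist.ι pZ = F.ι pZ := F.twist_even inv2_pZ mv_pZ
    refine F.twist.m0_aux hG hX ?_ (K := K) (s := s) (by rw [F.twist_T]; exact hTK) hK hs
      (by rw [F.twist_T]; exact hn) (by rw [F.twist_T]; exact hsq) ?_ ?_ ?_
    · show ¬ F.IsX (F.twist.ι pA) ∧ ¬ F.IsX (F.t * F.twist.ι pA) ∧ ¬ F.IsX (F.twist.ι pT) ∧
        ¬ F.IsX (F.t * F.twist.ι pT) ∧ ¬ F.IsX (F.twist.ι pZ) ∧ F.IsX (F.t * F.twist.ι pZ)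
      rw [tA, tT, tZ, ← mul_assoc, ← mul_assoc, F.t_sq, one_mul, one_mul]
      exact ⟨h2', h2, n6', n6, hz, htz⟩
    · show s * F.t * s⁻¹ = F.t * F.twist.ι pZ
      rw [tZ]; exact hts
    · rw [tA, show s * (F.t * F.ι pA) * s⁻¹ = s * F.t * s⁻¹ * (s * F.ι pA * s⁻¹) by group, hts, e,
        mul_assoc, ← map_mul]
      congr 2
      decide +kernel
    · rw [tZ]; exact hsz
  · rw [map_one, mul_one] at e
    rw [e, hts] at h2s
    exact F.tmul_ne _ _ h2s
  · rw [e, show s * (F.t * F.ι pA) * s⁻¹ = s * F.t * s⁻¹ * (s * F.ι pA * s⁻¹) by group, hts, e,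
      mul_assoc, ← mul_assoc (F.ι pZ), F.comm, mul_assoc, ← mul_assoc, F.t_sq, one_mul,
      ← map_mul] at h2s
    exact absurd (F.inj h2s) (by decide +kernel)
  · rw [e, show s * (F.t * F.ι pZ) * s⁻¹ = s * F.t * s⁻¹ * (s * F.ι pZ * s⁻¹) by group, hts, hsz,
      mul_assoc, ← map_mul, inv2_pZ.1, map_one, mul_one] at h2s
    exact F.t_not pA h2s.symm
  · rw [e, pT, map_mul, show s * (F.t * (F.ι pA * F.ι pZ)) * s⁻¹ =
      s * F.t * s⁻¹ * (s * F.ι pA * s⁻¹) * (s * F.ι pZ * s⁻¹) by group, hts, hsz, e, pT,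
      mul_assoc F.t (F.ι pZ), ← mul_assoc (F.ι pZ) F.t, F.comm, mul_assoc F.t (F.ι pZ),
      ← mul_assoc F.t F.t, F.t_sq, one_mul, ← map_mul, ← map_mul] at h2s
    exact absurd (F.inj h2s) (by decide +kernel)

end Cent

end Cfsg.Agent.Lib.InvCentS6
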