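/-
An involution with centraliser `Z₂ × S₆`: all `t ι l` are conjugate to `t`, no `ι l` is
(helper74, for S3146).  Stabilisers of sets of conjugates and counting.
-/
import Cfsg.Agent.Lib.InvCentS6.MTwo

set_option autoImplicit false

namespace Cfsg.Agent.Lib.InvCentS6

open Equiv Enc

universe u

/-- A twist of the centraliser of `κ`. -/
def twG (κ : S6) (ch : List ℕ → Bool) (σ : S6) : S6 := if ch (enc σ) then σ * κ else σ

theorem twA_eq (F : Bool) : twA F = twG pA (chA F) := rfl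
theorem twT_eq (F : Bool) : twT F = twG pT (chT F) := rfl

namespace Cent

variable {G : Type u} [Group G] (F : Cent G)

/-- All `t ι l` (`l² = 1`) and no `ι l` are conjugate to `t`. -/
structure IsD : Prop where
  hA : ∀ l, ¬ F.IsX (F.ι l)
  hB : ∀ l, l * l = 1 → F.IsX (F.t * F.ι l)

variable (hD : F.IsD)

section pull
include hD

theorem exists_ι {x : G} (hc : x * F.t = F.t * x) (h2 : x * x = 1) (h1 : x ≠ 1)
    (hX : ¬ F.IsX x) : ∃ l, Inv2 l ∧ x = F.ι l := by
  obtain ⟨l, rfl | rfl⟩ := F.split x hc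
  · exact ⟨l, ⟨F.inj (by rw [map_mul, h2, map_one]), fun e => h1 (by rw [e, map_one])⟩, rfl⟩
  · rw [F.tmul_tmul, ← map_one F.ι] at h2
    exact absurd (hD.hB l (F.inj h2)) hX

/-- For commuting involutions the class of `t` behaves like an affine hyperplane. -/
theorem mulX {x u : G} (hx : F.IsX x) (hu : u * u = 1) (hc : x * u = u * x) :
    F.IsX (x * u) ↔ ¬ F.IsX u := by
  obtain ⟨g, rfl⟩ := F.exists_cj hx
  obtain ⟨w, rfl⟩ : ∃ w, cj g w = u := ⟨_, cj_cj_inv (g := g) (x := u)⟩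
  rw [cj_comm_iff] at hc
  rw [← cj_mul, F.isX_cj, F.isX_cj]
  rw [← cj_mul, ← cj_one g] at hu
  have hw := cj_inj hu
  obtain ⟨l, rfl | rfl⟩ := F.split w hc.symm
  · rw [← map_mul, ← map_one F.ι] at hw
    exact iff_of_true (hD.hB l (F.inj hw)) (hD.hA l)
  · rw [F.tmul_tmul, ← map_one F.ι] at hw
    rw [← mul_assoc, F.t_sq, one_mul]
    exact iff_of_false (hD.hA l) (not_not.mpr (hD.hB l (F.inj hw)))

end pull

/-! ### Exact elements -/

/-- `g` moves `t` to `t ι κ` and acts on `ι C(κ)` by `tw`. -/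
def Exact (κ : S6) (tw : S6 → S6) (g : G) : Prop :=
  cj g F.t = F.t * F.ι κ ∧ ∀ σ, σ * κ = κ * σ → cj g (F.ι σ) = F.ι (tw σ)

theorem exists_invol {κ : S6} {tw : S6 → S6} {g : G} (hκ : Inv2 κ)
    (htw1 : tw 1 = 1) (htwκ : tw κ = κ) (hcomm : ∀ σ, σ * κ = κ * σ → tw σ * κ = κ * tw σ)
    (htt : ∀ σ, σ * κ = κ * σ → tw (tw σ) = σ)
    (hcen : ∀ c, c * κ = κ * c → (∀ σ, σ * κ = κ * σ → c * σ = σ * c) → c = 1 ∨ c = κ)
    (hg : F.Exact κ tw g) : ∃ g', F.Exact κ tw g' ∧ g' * g' = 1 := by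
  obtain ⟨hgt, hgι⟩ := hg
  have hκκ : F.ι κ * F.ι κ = 1 := by rw [← map_mul, hκ.1, map_one]
  have h2t : cj (g * g) F.t = F.t := by
    rw [← cj_cj, hgt, cj_mul, hgt, hgι κ rfl, htwκ, mul_assoc, hκκ, mul_one]
  obtain ⟨c, hc, hca⟩ := F.cj_fix_t h2t
  have hcσ : ∀ σ, σ * κ = κ * σ → c * σ = σ * c := by
    intro σ hσ
    have h := (hca σ).1
    rw [← cj_cj, hgι σ hσ, hgι _ (hcomm σ hσ), htt σ hσ] at h
    exact mul_inv_eq_iff_eq_mul.mp (F.inj h).symm
  rcases hcen c (hcσ κ rfl) hcσ with rfl | rfl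
  · rcases hc with e | e
    · exact ⟨g, ⟨hgt, hgι⟩, by rw [e, map_one]⟩
    · exfalso
      rw [map_one, mul_one] at e
      have h : cj g (g * g) = g * g := by simp [cj, mul_assoc]
      rw [e, hgt] at h
      exact hκ.2 (F.inj ((mul_left_cancel (h.trans (mul_one _).symm)).trans (map_one _).symm))
  · rcases hc with e | e
    · refine ⟨g * F.t, ⟨?_, fun σ hσ => by rw [← cj_cj, F.cj_t_ι, hgι σ hσ]⟩, ?_⟩
      · rw [← cj_cj, cj_of_comm rfl, hgt]
      · calc g * F.t * (g * F.t) = cj g F.t * (g * g) * F.t := by simp only [cj]; group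
          _ = 1 := by rw [hgt, e, mul_assoc F.t, hκκ, mul_one, F.t_sq]
    · exfalso
      have h : cj g (g * g) = g * g := by simp [cj, mul_assoc]
      rw [e, cj_mul, hgt, hgι c rfl, htwκ, mul_assoc, hκκ, mul_one] at h
      exact hκ.2 (F.tmul_inj (h.symm.trans (by rw [map_one, mul_one])))

/-! ### Stabilisers -/

variable [Finite G]

/-- The stabiliser of the set `t · ι V`. -/
def stabV (V : List S6) : Subgroup G where
  carrier := {g | ∀ v ∈ V, ∃ w ∈ V, cj g (F.t * F.ι v) = F.t * F.ι w}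
  one_mem' := fun v hv => ⟨v, hv, one_cj _⟩
  mul_mem' := fun {g h} hg hh v hv => by
    obtain ⟨w, hw, e⟩ := hh v hv
    obtain ⟨w', hw', e'⟩ := hg w hw
    exact ⟨w', hw', by rw [← cj_cj, e, e']⟩
  inv_mem' := fun {g} hg => by
    have hpow : ∀ k : ℕ, ∀ v ∈ V, ∃ w ∈ V, cj (g ^ k) (F.t * F.ι v) = F.t * F.ι w := by
      intro k
      induction k with
      | zero => exact fun v hv => ⟨v, hv, by rw [pow_zero, one_cj]⟩
      | succ k ih =>
        intro v hv
        obtain ⟨w, hw, e⟩ := hg v hv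
        obtain ⟨w', hw', e'⟩ := ih w hw
        exact ⟨w', hw', by rw [pow_succ, ← cj_cj, e, e']⟩
    have hpos : 0 < orderOf g := orderOf_pos g
    have : g⁻¹ = g ^ (orderOf g - 1) := by
      rw [inv_eq_iff_mul_eq_one, ← pow_succ', Nat.sub_add_cancel hpos, pow_orderOf_eq_one]
    rw [this]
    exact hpow _

theorem mem_stabV_ι {V : List S6} {σ : S6} : F.ι σ ∈ F.stabV V ↔ StabS V σ := by
  constructor
  · intro h v hv
    obtain ⟨w, hw, e⟩ := h v hv
    rw [F.cj_ι_tι] at e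
    rwa [F.tmul_inj e]
  · exact fun h v hv => ⟨_, h v hv, F.cj_ι_tι σ v⟩

theorem t_mem_stabV (V : List S6) : F.t ∈ F.stabV V := fun v hv =>
  ⟨v, hv, by rw [cj_mul, cj_of_comm rfl, F.cj_t_ι]⟩

theorem mem_stabV_cases {V : List S6} {g : G} {σ : S6} (hg : g = F.ι σ ∨ g = F.t * F.ι σ) :
    g ∈ F.stabV V ↔ StabS V σ := by
  rcases hg with rfl | rfl
  · exact F.mem_stabV_ι
  · rw [Subgroup.mul_mem_cancel_left _ (F.t_mem_stabV V), F.mem_stabV_ι]

/-- An exact element stabilises `t · ι V` if `κ · tw V ⊆ V`. -/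
theorem exact_mem_stabV {κ : S6} {tw : S6 → S6} {g : G} {V : List S6} (hg : F.Exact κ tw g)
    (h : ∀ v ∈ V, v * κ = κ * v ∧ κ * tw v ∈ V) : g ∈ F.stabV V := fun v hv =>
  ⟨κ * tw v, (h v hv).2, by rw [cj_mul, hg.1, hg.2 v (h v hv).1, mul_assoc, ← map_mul]⟩

/-- `V` is covered from representatives by conjugation with permutations stabilising it. -/
def Covers (V R : List S6) : Prop := ∀ v ∈ V, ∃ π, StabS V π ∧ ∃ r ∈ R, π * r * π⁻¹ = v

theorem exists_to {V R : List S6} (hc : Covers V R)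
    (hR : ∀ r ∈ R, ∃ g ∈ F.stabV V, cj g F.t = F.t * F.ι r) {v : S6} (hv : v ∈ V) :
    ∃ g ∈ F.stabV V, cj g F.t = F.t * F.ι v := by
  obtain ⟨π, hπ, r, hr, rfl⟩ := hc v hv
  obtain ⟨g, hg, e⟩ := hR r hr
  exact ⟨F.ι π * g, (F.stabV V).mul_mem (F.mem_stabV_ι.mpr hπ) hg, by
    rw [← cj_cj, e, F.cj_ι_tι]⟩

theorem card_stabV {V : List S6} (hV : V.Nodup) (h1 : 1 ∈ V)
    (htr : ∀ v ∈ V, ∃ g ∈ F.stabV V, cj g F.t = F.t * F.ι v) :
    Nat.card (F.stabV V) = V.length * (2 * Nat.card {σ : S6 // StabS V σ}) := by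
  classical
  let A := {v : S6 // v ∈ V}
  let B := Bool × {σ : S6 // StabS V σ}
  have e : Nat.card (A × B) = V.length * (2 * Nat.card {σ : S6 // StabS V σ}) := by
    rw [Nat.card_prod, Nat.card_prod]
    congr 1
    · rw [Nat.card_congr (Equiv.subtypeEquivRight fun v => (List.mem_toFinset (l := V)).symm),
        Nat.card_eq_fintype_card, Fintype.card_coe, List.toFinset_card_of_nodup hV]
    · simp
  rw [← e]
  choose rep hrep hrept using fun v : A => htr v.1 v.2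
  have hC : ∀ p : B, (F.equivC (p.1, p.2.1) : G) ∈ F.stabV V := by
    intro p
    refine (F.mem_stabV_cases ?_).mpr p.2.2
    rw [equivC_apply]; cases p.1 <;> simp
  refine (Nat.card_congr (Equiv.ofBijective (fun p : A × B =>
    (⟨rep p.1 * F.equivC (p.2.1, p.2.2.1), (F.stabV V).mul_mem (hrep p.1) (hC p.2)⟩ :
      F.stabV V)) ⟨?_, ?_⟩)).symm
  · rintro ⟨v, i, σ⟩ ⟨v', i', σ'⟩ h
    have h' : rep v * (F.equivC (i, σ.1) : G) = rep v' * F.equivC (i', σ'.1) :=
      congrArg Subtype.val h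
    have ht : ∀ q, cj (F.equivC q : G) F.t = F.t := fun q =>
      cj_of_comm (Subgroup.mem_centralizer_singleton_iff.mp (F.equivC q).2)
    have hv : v = v' := by
      apply Subtype.ext
      apply F.tmul_inj
      rw [← hrept, ← hrept]
      conv_lhs => rw [← ht (i, σ.1)]
      conv_rhs => rw [← ht (i', σ'.1)]
      rw [cj_cj, cj_cj, h']
    subst hv
    have h2 := F.equivC.injective (Subtype.ext (mul_left_cancel h') :)
    simp only [Prod.mk.injEq] at h2
    exact Prod.ext rfl (Prod.ext h2.1 (Subtype.ext h2.2))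
  · rintro ⟨g, hg⟩
    obtain ⟨w, hw, e⟩ := hg 1 h1
    rw [map_one, mul_one] at e
    set c := (rep ⟨w, hw⟩)⁻¹ * g with hc
    have hct : cj c F.t = F.t := by rw [hc, ← cj_cj, e, ← hrept ⟨w, hw⟩, cj_inv_cj]
    have hcm : c ∈ F.stabV V := (F.stabV V).mul_mem ((F.stabV V).inv_mem (hrep _)) hg
    obtain ⟨σ, hσ⟩ := F.split c (cj_eq_iff.mp hct)
    have hσV := (F.mem_stabV_cases hσ).mp hcm
    rcases hσ with h | h
    · refine ⟨(⟨w, hw⟩, false, ⟨σ, hσV⟩), Subtype.ext ?_⟩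
      show rep _ * (F.equivC (false, σ) : G) = g
      rw [equivC_apply, if_neg (by simp), ← h, hc, mul_inv_cancel_left]
    · refine ⟨(⟨w, hw⟩, true, ⟨σ, hσV⟩), Subtype.ext ?_⟩
      show rep _ * (F.equivC (true, σ) : G) = g
      rw [equivC_apply, if_pos rfl, ← h, hc, mul_inv_cancel_left]

/-! ### Conjugates of `t` in a stabiliser -/

/-- The number of conjugates of `t` stabilising `t ι V` and moving `t` to `t ι v`. -/
noncomputable def wcard (V : List S6) (v : S6) : ℕ :=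
  Nat.card {x : G // F.IsX x ∧ x ∈ F.stabV V ∧ cj x F.t = F.t * F.ι v}

theorem card_X_stabV {V : List S6} (hV : V.Nodup) (h1 : 1 ∈ V) :
    Nat.card {u : G // IsConj F.t u ∧ u ∈ F.stabV V} = (V.map (F.wcard V)).sum := by
  classical
  rw [← List.sum_toFinset _ hV]
  let B : {v : S6 // v ∈ V.toFinset} → Type u := fun v =>
    {x : G // F.IsX x ∧ x ∈ F.stabV V ∧ cj x F.t = F.t * F.ι v.1}
  let f : (Σ v, B v) → {u : G // IsConj F.t u ∧ u ∈ F.stabV V} :=
    fun p => ⟨p.2.1, p.2.2.1, p.2.2.2.1⟩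
  rw [← Finset.sum_attach]
  rw [← Nat.card_congr (Equiv.ofBijective f ⟨?_, ?_⟩), Nat.card_sigma]
  · rfl
  · rintro ⟨v, x, hx⟩ ⟨v', x', hx'⟩ h
    have h' : x = x' := congrArg Subtype.val h
    subst h'
    obtain rfl : v = v' := Subtype.ext (F.tmul_inj (hx.2.2.symm.trans hx'.2.2))
    rfl
  · rintro ⟨x, hx, hxV⟩
    obtain ⟨w, hw, e⟩ := hxV 1 h1
    rw [map_one, mul_one] at e
    exact ⟨⟨⟨w, List.mem_toFinset.mpr hw⟩, ⟨x, hx, hxV, e⟩⟩, rfl⟩

theorem wcard_conj {V : List S6} {π : S6} (hπ : StabS V π) (v : S6) :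
    F.wcard V (π * v * π⁻¹) = F.wcard V v := by
  refine (Nat.card_congr ((MulAut.conj (F.ι π)).toEquiv.subtypeEquiv fun x => ?_)).symm
  simp only [MulEquiv.toEquiv_eq_coe, MulEquiv.coe_toEquiv, MulAut.conj_apply]
  have hm := F.mem_stabV_ι.mpr hπ
  rw [F.isX_conj_iff, Subgroup.mul_mem_cancel_right _ ((F.stabV V).inv_mem hm),
    Subgroup.mul_mem_cancel_left _ hm]
  refine and_congr_right fun _ => and_congr_right fun _ => ?_
  rw [show F.ι π * x * (F.ι π)⁻¹ = cj (F.ι π) x from rfl]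
  conv_rhs => rw [← F.cj_ι_t π, ← F.cj_ι π v]
  constructor
  · intro h
    rw [← cj_mul, ← h, cj_cj, cj_cj, cj]
    simp only [cj, mul_assoc, inv_mul_cancel_left]
    group
  · intro h
    apply cj_inj (g := F.ι π)
    rw [cj_mul, ← h]
    simp only [cj]
    group

include hD in
theorem wcard_one {V : List S6} :
    F.wcard V 1 = Nat.card {σ : S6 // σ * σ = 1 ∧ StabS V σ} := by
  refine (Nat.card_congr (Equiv.ofBijective (fun σ : {σ : S6 // σ * σ = 1 ∧ StabS V σ} =>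
    (⟨F.t * F.ι σ.1, hD.hB _ σ.2.1, (F.mem_stabV_cases (Or.inr rfl)).mpr σ.2.2, by
      rw [map_one, mul_one, ← cj_cj, F.cj_ι_t, cj_of_comm rfl]⟩ :
      {x : G // F.IsX x ∧ x ∈ F.stabV V ∧ cj x F.t = F.t * F.ι 1})) ⟨?_, ?_⟩)).symm
  · exact fun a b h => Subtype.ext (F.tmul_inj (congrArg Subtype.val h))
  · rintro ⟨x, hX, hxV, hx⟩
    rw [map_one, mul_one, cj_eq_iff] at hx
    obtain ⟨σ, rfl | rfl⟩ := F.split x hx
    · exact absurd hX (hD.hA σ)
    · exact ⟨⟨σ, F.B_sq hX, (F.mem_stabV_cases (Or.inr rfl)).mp hxV⟩, rfl⟩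

/-- A conjugate of `t` moving `t` to `t ι κ` fixes `ι κ`. -/
theorem fix_of_move {x : G} {κ : S6} (hκ : κ * κ = 1) (hX : F.IsX x)
    (hx : cj x F.t = F.t * F.ι κ) : cj x (F.ι κ) = F.ι κ := by
  have h : cj x (F.t * F.ι κ) = F.t := by rw [← hx, cj_cj, F.isX_sq hX, one_cj]
  rw [cj_mul, hx, mul_assoc] at h
  have h2 : F.ι κ * cj x (F.ι κ) = 1 := mul_left_cancel (h.trans (mul_one _).symm)
  rw [← inv_eq_of_mul_eq_one_right h2, ← map_inv, inv_eq_of_mul_eq_one_right hκ]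

include hD in
/-- The conjugates of `t` moving `t` to `t ι κ`. -/
theorem wcard_exact {κ : S6} {ch : List ℕ → Bool} {g : G} {V : List S6}
    (hκ : Inv2 κ) (hns : ∀ σ, σ * σ ≠ κ) (hg : F.Exact κ (twG κ ch) g) (hg2 : g * g = 1)
    (hgV : g ∈ F.stabV V) (b : Bool) (hb : b = true ↔ ¬ F.IsX g) :
    F.wcard V κ = Nat.card {σ : S6 // σ * κ = κ * σ ∧ σ * σ = 1 ∧ ch (enc σ) = b ∧ StabS V σ} := by
  have hgi : g⁻¹ = g := inv_eq_of_mul_eq_one_right hg2
  let elt : S6 → G := fun σ => if ch (enc σ) then F.t * F.ι σ else F.ι σ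
  have helt : ∀ σ, elt σ = F.ι σ ∨ elt σ = F.t * F.ι σ := by
    intro σ; simp only [elt]; split <;> simp
  have hu2 : ∀ σ, σ * σ = 1 → elt σ * elt σ = 1 := by
    intro σ h; simp only [elt]; split
    · rw [F.tmul_tmul, h, map_one]
    · rw [← map_mul, h, map_one]
  have hXu : ∀ σ, σ * σ = 1 → (F.IsX (elt σ) ↔ ch (enc σ) = true) := by
    intro σ h; simp only [elt]; split
    · next hh => exact iff_of_true (hD.hB σ h) hh
    · next hh => exact iff_of_false (hD.hA σ) hh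
  have hgu : ∀ σ, σ * κ = κ * σ → g * elt σ = elt σ * g := by
    intro σ hσ
    apply cj_eq_iff.mp
    simp only [elt]; split
    · next hh =>
      rw [cj_mul, hg.1, hg.2 σ hσ, twG, if_pos hh, mul_assoc, ← map_mul, ← mul_assoc κ, ← hσ,
        mul_assoc σ, hκ.1, mul_one]
    · next hh => rw [hg.2 σ hσ, twG, if_neg hh]
  have hXgu : ∀ σ, σ * κ = κ * σ → σ * σ = 1 → (F.IsX (g * elt σ) ↔ ch (enc σ) = b) := by
    intro σ hσ h2
    have hc := hgu σ hσ
    by_cases hX : F.IsX g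
    · have hbf : b = false := by
        rcases Bool.eq_false_or_eq_true b with h | h
        · exact absurd hX (hb.mp h)
        · exact h
      rw [F.mulX hD hX (hu2 σ h2) hc, hXu σ h2, hbf, Bool.not_eq_true]
    · rw [hb.mpr hX]
      constructor
      · intro h
        by_contra hn
        apply hX
        have := (F.mulX hD h (hu2 σ h2) (by rw [← mul_assoc (elt σ), ← hc])).mpr
          (fun e => hn ((hXu σ h2).mp e))
        rwa [mul_assoc, hu2 σ h2, mul_one] at this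
      · intro h
        rw [hc]
        exact (F.mulX hD ((hXu σ h2).mpr h) hg2 hc.symm).mpr hX
  refine (Nat.card_congr (Equiv.ofBijective
    (fun σ : {σ : S6 // σ * κ = κ * σ ∧ σ * σ = 1 ∧ ch (enc σ) = b ∧ StabS V σ} =>
      (⟨g * elt σ.1, (hXgu _ σ.2.1 σ.2.2.1).mpr σ.2.2.2.1,
        (F.stabV V).mul_mem hgV ((F.mem_stabV_cases (helt _)).mpr σ.2.2.2.2), by
          rw [← cj_cj]
          rcases helt σ.1 with e | e <;> rw [e]
          · rw [F.cj_ι_t, hg.1]
          · rw [← cj_cj, F.cj_ι_t, cj_of_comm rfl, hg.1]⟩ :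
        {x : G // F.IsX x ∧ x ∈ F.stabV V ∧ cj x F.t = F.t * F.ι κ})) ⟨?_, ?_⟩)).symm
  · intro a b h
    have h' := mul_left_cancel (congrArg Subtype.val h :)
    simp only [elt] at h'
    split at h' <;> split at h'
    · exact Subtype.ext (F.tmul_inj h')
    · exact absurd h' (F.tmul_ne _ _)
    · exact absurd h'.symm (F.tmul_ne _ _)
    · exact Subtype.ext (F.inj h')
  · rintro ⟨x, hX, hxV, hx⟩
    have hxκ := F.fix_of_move hκ.1 hX hx
    have hct : cj (g * x) F.t = F.t := by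
      rw [← cj_cj, hx, ← hg.1, cj_cj, hg2, one_cj]
    obtain ⟨σ, hσ, hσa⟩ := F.cj_fix_t hct
    have hσκ : σ * κ = κ * σ := by
      have h := (hσa κ).1
      rw [← cj_cj, hxκ, hg.2 κ rfl, twG] at h
      split at h
      · rw [hκ.1, map_one] at h
        exact absurd (conj_eq_one_iff.mp (F.inj ((map_one F.ι).trans h)).symm) hκ.2
      · exact mul_inv_eq_iff_eq_mul.mp (F.inj h).symm
    have hxc : x = g * (g * x) := by rw [← mul_assoc, hg2, one_mul]
    have hgσ : cj g (F.ι σ) = F.ι (twG κ ch σ) := hg.2 σ hσκ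
    have hXX : cj g (g * x) * (g * x) = 1 := by
      rw [cj, hgi, ← hxc]
      calc x * g * (g * x) = x * (g * g) * x := by group
        _ = 1 := by rw [hg2, mul_one, F.isX_sq hX]
    -- `x = g * elt σ`
    have hσ' : σ * σ = 1 ∧ g * x = elt σ := by
      rcases hσ with e | e <;> rw [e] at hXX ⊢
      · rw [hgσ, ← map_mul, ← map_one F.ι] at hXX
        have h := F.inj hXX
        rw [twG] at h
        simp only [elt]
        split at h
        · next hh =>
          rw [hσκ, mul_assoc] at h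
          exact absurd (by rw [← inv_eq_of_mul_eq_one_right hκ.1, inv_eq_of_mul_eq_one_right h])
            (hns σ)
        · next hh => exact ⟨h, by rw [if_neg hh]⟩
      · rw [cj_mul, hg.1, hgσ, mul_assoc F.t (F.ι κ), ← map_mul, F.tmul_tmul, ← map_one F.ι] at hXX
        have h := F.inj hXX
        rw [twG] at h
        simp only [elt]
        split at h
        · next hh =>
          rw [← mul_assoc κ σ, ← hσκ, mul_assoc σ κ κ, hκ.1, mul_one] at h
          exact ⟨h, by rw [if_pos hh]⟩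
        · next hh =>
          rw [mul_assoc] at h
          exact absurd (by rw [← inv_eq_of_mul_eq_one_right hκ.1, inv_eq_of_mul_eq_one_right h])
            (hns σ)
    obtain ⟨hσ2, hgx⟩ := hσ'
    have hcV : g * x ∈ F.stabV V := (F.stabV V).mul_mem hgV hxV
    refine ⟨⟨σ, hσκ, hσ2, ?_, ?_⟩, Subtype.ext ?_⟩
    · rw [← hXgu σ hσκ hσ2, ← hgx, ← hxc]; exact hX
    · exact (F.mem_stabV_cases (helt σ)).mp (hgx ▸ hcV)
    · show g * elt σ = x
      rw [← hgx, ← hxc]

/-! ### The parity condition -/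

theorem sign_stabV (hG : ¬ ∃ H : Subgroup G, H.index = 2) {V : List S6} (hV : V.Nodup) (h1 : 1 ∈ V)
    (htr : ∀ v ∈ V, ∃ g ∈ F.stabV V, cj g F.t = F.t * F.ι v) :
    (4 * ((V.length * (2 * Nat.card {σ : S6 // StabS V σ}) : ℕ) : ℤ)) ∣
      1440 * ((Nat.card {u : G // F.IsX u} : ℤ) - ((V.map (F.wcard V)).sum : ℕ)) := by
  have h := Tools.parity_sub hG F.t_sq (F.stabV V)
  rw [F.card_C, F.card_stabV hV h1 htr, F.card_X_stabV hV h1] at h
  exact h

end Cent

end Cfsg.Agent.Lib.InvCentS6
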