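/-
Finite facts on automorphisms of the Sylow 2-subgroup of `Perm (Fin 6)` (helper74, for S3146).
-/
import Cfsg.Agent.Lib.InvCentS6.MTwo

set_option autoImplicit false

namespace Cfsg.Agent.Lib.InvCentS6

open Equiv Enc

/-- The centraliser of `pZ`, encoded. -/
def TKL : List (List ℕ) := all6.filter fun f => comB f eZ

theorem mem_TKL {σ : S6} (h : σ * pZ = pZ * σ) : enc σ ∈ TKL :=
  List.mem_filter.mpr ⟨enc_mem _, by rw [comB_iff, enc_pZ] at h; exact h⟩

theorem of_TKL {f : List ℕ} (h : f ∈ TKL) : ∃ σ : S6, σ * pZ = pZ * σ ∧ enc σ = f := by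
  obtain ⟨h1, h2⟩ := List.mem_filter.mp h
  obtain ⟨σ, rfl⟩ := all6_surj h1
  exact ⟨σ, by rw [comB_iff, enc_pZ]; exact h2, rfl⟩

theorem comm_pA_of_pZ {σ : S6} (h : σ * pZ = pZ * σ) : σ * pA = pA * σ := by
  have key : TKL.all (fun f => comB f eA) = true := by decide +kernel
  rw [List.all_eq_true] at key
  rw [comB_iff, enc_pA]
  exact key _ (mem_TKL h)

/-- Inverse of an encoded element of order dividing four. -/
def ci (f : List ℕ) : List ℕ := cm f (cm f f)

/-- Encoded conjugation inside `C(pZ)`. -/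
def cjL (u f : List ℕ) : List ℕ := cm (cm u f) (ci u)

theorem enc_inv_TK {σ : S6} (h : σ * pZ = pZ * σ) : enc σ⁻¹ = ci (enc σ) := by
  have key : TKL.all (fun f => cm f (ci f) == idL) = true := by decide +kernel
  rw [List.all_eq_true] at key
  have h4 : σ * (σ * (σ * σ)) = 1 := by
    rw [eq_iff, enc_mul, enc_mul, enc_mul, enc_one]
    exact beq_iff_eq.mp (key _ (mem_TKL h))
  rw [inv_eq_of_mul_eq_one_right h4, enc_mul, enc_mul, ci]

theorem enc_cjS {u σ : S6} (h : u * pZ = pZ * u) :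
    enc (u * σ * u⁻¹) = cjL (enc u) (enc σ) := by
  rw [enc_mul, enc_mul, enc_inv_TK h, cjL]

/-- Words in four generators. -/
def gw (A B E : S6) (q : Bool × Bool × Bool × Bool) : S6 :=
  (if q.1 then A else 1) * (if q.2.1 then B else 1) * (if q.2.2.1 then E else 1) *
    (if q.2.2.2 then pZ else 1)

/-- Encoded `gw`. -/
def gwL (A B E : List ℕ) (q : Bool × Bool × Bool × Bool) : List ℕ :=
  cm (cm (cm (if q.1 then A else idL) (if q.2.1 then B else idL)) (if q.2.2.1 then E else idL))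
    (if q.2.2.2 then eZ else idL)

theorem enc_gw (A B E : S6) (q : Bool × Bool × Bool × Bool) :
    enc (gw A B E q) = gwL (enc A) (enc B) (enc E) q := by
  simp only [gw, gwL, enc_mul, apply_ite enc, enc_one, enc_pZ]

theorem mem_boolQuads (q : Bool × Bool × Bool × Bool) : q ∈ boolQuads := by
  revert q; decide +kernel

theorem exists_gw {σ : S6} (h : σ * pZ = pZ * σ) : ∃ q, σ = gw pA pB pE q := by
  have key : TKL.all (fun f => boolQuads.any fun q => f == gwL eA eB eE q) = true := by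
    decide +kernel
  rw [List.all_eq_true] at key
  obtain ⟨q, -, hq⟩ := List.any_eq_true.mp (key _ (mem_TKL h))
  refine ⟨q, enc_injective ?_⟩
  rw [enc_gw, enc_pA, enc_pB, enc_pE]
  exact beq_iff_eq.mp hq

/-- The table of an endomorphism with `pA ↦ pT`, `pB ↦ x`, `pE ↦ y`, `pZ ↦ pZ`. -/
def bTab (x y : List ℕ) : List (List ℕ × List ℕ) :=
  boolQuads.map fun q => (gwL eA eB eE q, gwL eT x y q)

/-- Table lookup. -/
def bL (tab : List (List ℕ × List ℕ)) (f : List ℕ) : List ℕ :=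
  ((tab.find? fun p => p.1 == f).map (·.2)).getD []

/-- The admissible pairs of images of `pB`, `pE`. -/
def autPairs : List (List ℕ × List ℕ) :=
  (invTK.flatMap fun x => invTK.map fun y => (x, y)).filter fun p =>
    cm p.2 (cm p.1 p.2) == cm p.1 eZ && decide ((bTab p.1 p.2).map (·.2)).Nodup

theorem bL_bTab (x y : List ℕ) (q : Bool × Bool × Bool × Bool) :
    bL (bTab x y) (gwL eA eB eE q) = gwL eT x y q := by
  have key : boolQuads.all (fun q =>
      (boolQuads.find? fun p => gwL eA eB eE p == gwL eA eB eE q) == some q) = true := by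
    decide +kernel
  rw [List.all_eq_true] at key
  rw [bL, bTab, List.find?_map]
  simp only [Function.comp_def]
  rw [beq_iff_eq.mp (key q (mem_boolQuads q))]
  rfl

/-- An automorphism of `C(pZ)` with `pA ↦ pT`, given by a table. -/
structure BetaData (β : S6 → S6) (x y : S6) : Prop where
  hx : Inv2 x ∧ x * pZ = pZ * x
  hy : Inv2 y ∧ y * pZ = pZ * y
  rel : y * (x * y) = x * pZ
  img : ∀ q, β (gw pA pB pE q) = gw pT x y q
  inj : ∀ {σ τ : S6}, σ * pZ = pZ * σ → τ * pZ = pZ * τ → β σ = β τ → σ = τ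

namespace BetaData

variable {β : S6 → S6} {x y : S6} (hb : BetaData β x y)
include hb

theorem closed {σ : S6} (h : σ * pZ = pZ * σ) : β σ * pZ = pZ * β σ := by
  obtain ⟨q, rfl⟩ := exists_gw h
  rw [hb.img]
  have hm : ∀ a : S6, a * pZ = pZ * a → a ∈ Subgroup.centralizer ({pZ} : Set S6) := fun a ha =>
    Subgroup.mem_centralizer_singleton_iff.mpr ha
  have h1 : ∀ (b : Bool) (a : S6), a * pZ = pZ * a →
      (if b then a else 1) ∈ Subgroup.centralizer ({pZ} : Set S6) := by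
    intro b a ha
    cases b
    · exact Subgroup.one_mem _
    · exact hm a ha
  exact Subgroup.mem_centralizer_singleton_iff.mp (Subgroup.mul_mem _ (Subgroup.mul_mem _
    (Subgroup.mul_mem _ (h1 _ _ (by decide +kernel)) (h1 _ _ hb.hx.2)) (h1 _ _ hb.hy.2))
    (h1 _ _ rfl))

theorem closed₂ {σ : S6} (h : σ * pZ = pZ * σ) : β (β σ) * pZ = pZ * β (β σ) :=
  hb.closed (hb.closed h)

theorem mem_pairs : (enc x, enc y) ∈ autPairs := by
  refine List.mem_filter.mpr ⟨List.mem_flatMap.mpr ⟨_, mem_invTK hb.hx.1 (comm_pA_of_pZ hb.hx.2)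
    hb.hx.2, List.mem_map.mpr ⟨_, mem_invTK hb.hy.1 (comm_pA_of_pZ hb.hy.2) hb.hy.2, rfl⟩⟩, ?_⟩
  rw [Bool.and_eq_true]
  refine ⟨?_, ?_⟩
  · rw [beq_iff_eq, ← enc_mul, ← enc_mul, ← enc_pZ, ← enc_mul, hb.rel]
  · have hsrc : (boolQuads.map (gwL eA eB eE)).Nodup := by decide +kernel
    have hnd : boolQuads.Nodup := by decide +kernel
    rw [decide_eq_true_eq, bTab, List.map_map]
    refine hnd.map_on fun q _ q' _ e => ?_
    have hq : ∀ p, gw pA pB pE p * pZ = pZ * gw pA pB pE p := by decide +kernel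
    have e' : gw pA pB pE q = gw pA pB pE q' := hb.inj (hq q) (hq q') (enc_injective (by
      rw [hb.img, hb.img, enc_gw, enc_gw, enc_pT]; exact e))
    exact List.inj_on_of_nodup_map hsrc (mem_boolQuads q) (mem_boolQuads q') (by
      rw [← enc_pA, ← enc_pB, ← enc_pE, ← enc_gw, ← enc_gw, e'])

theorem enc_beta {σ : S6} (h : σ * pZ = pZ * σ) :
    enc (β σ) = bL (bTab (enc x) (enc y)) (enc σ) := by
  obtain ⟨q, rfl⟩ := exists_gw h
  rw [hb.img, enc_gw, enc_gw, enc_pA, enc_pB, enc_pE, enc_pT, bL_bTab]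

theorem enc_beta₂ {σ : S6} (h : σ * pZ = pZ * σ) :
    enc (β (β σ)) = bL (bTab (enc x) (enc y)) (bL (bTab (enc x) (enc y)) (enc σ)) := by
  rw [hb.enc_beta (hb.closed h), hb.enc_beta h]

end BetaData

/-- Multiply by `pZ` if `i`. -/
def zpS (i : Bool) (σ : S6) : S6 := if i then pZ * σ else σ

/-- Multiply by `pA` if `i`. -/
def apS (i : Bool) (σ : S6) : S6 := if i then pA * σ else σ

/-- Encoded `zpS`. -/
def zp (i : Bool) (f : List ℕ) : List ℕ := if i then cm eZ f else f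

/-- Encoded `apS`. -/
def ap (i : Bool) (f : List ℕ) : List ℕ := if i then cm eA f else f

theorem enc_zpS (i : Bool) (σ : S6) : enc (zpS i σ) = zp i (enc σ) := by
  cases i <;> simp [zpS, zp, enc_mul, enc_pZ]

theorem enc_apS (i : Bool) (σ : S6) : enc (apS i σ) = ap i (enc σ) := by
  cases i <;> simp [apS, ap, enc_mul, enc_pA]

/-- First alternative. -/
def okA2 (b2 : List ℕ → List ℕ) (u v : List ℕ) : Bool :=
  let l := cm (ci u) v
  cm l l == idL && cm eZ (b2 (cjL u l)) == l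

/-- Second alternative. -/
def okB (b2 : List ℕ → List ℕ) (p q : List ℕ) : Bool :=
  TKL.any fun s => cm s s == idL && (cm eZ (b2 (cjL q s)) == s &&
    (let σ := cm (cm (ci p) q) s; cm σ σ == idL && b2 (cjL p σ) == σ))

/-- Third alternative. -/
def okC (b1 b2 : List ℕ → List ℕ) (i : Bool) (w : List ℕ) : Bool :=
  ([false, true].any fun k => TKL.any fun r => cm r r != idL && zp k (b2 (cjL w r)) == r) &&
  [false, true].any fun j => TKL.any fun s =>
    cm s (zp i (b2 w)) == cm (ap i (b1 w)) (zp j (b2 s))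

/-- The check behind `two_fin`. -/
def twoFin : Bool :=
  autPairs.all fun p =>
    let tab := bTab p.1 p.2
    let b1 := bL tab
    let b2 := fun f => b1 (b1 f)
    TKL.all fun τ => !(b1 τ == τ && (b2 (b2 eB) == cjL τ eB && b2 (b2 eE) == cjL τ eE)) ||
      ((TKL.filter fun u => cm (cm (b2 u) τ) u == idL).all fun u =>
       (TKL.filter fun v => cm (cm (cm eZ (b2 v)) τ) v == idL).all fun v =>
        okA2 b2 u v || (okB b2 u v || (okB b2 v u || (okC b1 b2 false u || okC b1 b2 true v))))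

theorem twoFin_eq : twoFin = true := by decide +kernel

/-- The check behind `four_fin`. -/
def fourFin : Bool :=
  autPairs.all fun p =>
    let tab := bTab p.1 p.2
    let b1 := bL tab
    let b2 := fun f => b1 (b1 f)
    TKL.all fun τ => !(cm eA (b1 τ) == τ && (b2 (b2 eB) == cjL τ eB && b2 (b2 eE) == cjL τ eE))

theorem fourFin_eq : fourFin = true := by decide +kernel

theorem four_fin {β : S6 → S6} {x y τ : S6} (hb : BetaData β x y) (hτ : τ * pZ = pZ * τ)
    (hfix : pA * β τ = τ) (h4 : ∀ σ, σ * pZ = pZ * σ → β (β (β (β σ))) = τ * σ * τ⁻¹) :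
    False := by
  have key := fourFin_eq
  simp only [fourFin, List.all_eq_true] at key
  have h := key _ hb.mem_pairs _ (mem_TKL hτ)
  have cB : pB * pZ = pZ * pB := by decide +kernel
  have cE : pE * pZ = pZ * pE := by decide +kernel
  have h1 := congrArg enc hfix
  rw [enc_mul, hb.enc_beta hτ, enc_pA] at h1
  have hB := congrArg enc (h4 pB cB)
  rw [hb.enc_beta₂ (hb.closed₂ cB), hb.enc_beta₂ cB, enc_cjS hτ, enc_pB] at hB
  have hE := congrArg enc (h4 pE cE)
  rw [hb.enc_beta₂ (hb.closed₂ cE), hb.enc_beta₂ cE, enc_cjS hτ, enc_pE] at hE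
  simp [h1, hB, hE] at h

theorem two_fin {β : S6 → S6} {x y τ u v : S6} (hb : BetaData β x y) (hτ : τ * pZ = pZ * τ)
    (hu : u * pZ = pZ * u) (hv : v * pZ = pZ * v) (hfix : β τ = τ)
    (h4 : ∀ σ, σ * pZ = pZ * σ → β (β (β (β σ))) = τ * σ * τ⁻¹)
    (cu : β (β u) * τ * u = 1) (cv : pZ * β (β v) * τ * v = 1) :
    (∃ l, u * l = v ∧ l * pZ = pZ * l ∧ l * l = 1 ∧ pZ * β (β (u * l * u⁻¹)) = l) ∨
    (∃ p q, ((p = u ∧ q = v) ∨ (p = v ∧ q = u)) ∧ ∃ s σ, σ = p⁻¹ * q * s ∧ s * pZ = pZ * s ∧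
      s * s = 1 ∧ pZ * β (β (q * s * q⁻¹)) = s ∧ σ * σ = 1 ∧ β (β (p * σ * p⁻¹)) = σ) ∨
    ∃ i w, ((i = false ∧ w = u) ∨ (i = true ∧ w = v)) ∧
      (∃ k r, r * pZ = pZ * r ∧ r * r ≠ 1 ∧ zpS k (β (β (w * r * w⁻¹))) = r) ∧
      ∃ j s, s * pZ = pZ * s ∧ s * zpS i (β (β w)) = apS i (β w) * zpS j (β (β s)) := by
  have key := twoFin_eq
  simp only [twoFin, List.all_eq_true] at key
  have h := key _ hb.mem_pairs _ (mem_TKL hτ)
  have cB : pB * pZ = pZ * pB := by decide +kernel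
  have cE : pE * pZ = pZ * pE := by decide +kernel
  have h1 := congrArg enc hfix
  rw [hb.enc_beta hτ] at h1
  have hB := congrArg enc (h4 pB cB)
  rw [hb.enc_beta₂ (hb.closed₂ cB), hb.enc_beta₂ cB, enc_cjS hτ, enc_pB] at hB
  have hE := congrArg enc (h4 pE cE)
  rw [hb.enc_beta₂ (hb.closed₂ cE), hb.enc_beta₂ cE, enc_cjS hτ, enc_pE] at hE
  simp only [h1, hB, hE, BEq.rfl, Bool.and_self, Bool.not_true, Bool.false_or, List.all_eq_true,
    List.mem_filter, and_imp, beq_iff_eq] at h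
  have cu' := congrArg enc cu
  rw [enc_mul, enc_mul, hb.enc_beta₂ hu, enc_one] at cu'
  have cv' := congrArg enc cv
  rw [enc_mul, enc_mul, enc_mul, hb.enc_beta₂ hv, enc_pZ, enc_one] at cv'
  have h' := h _ (mem_TKL hu) cu' _ (mem_TKL hv) cv'
  have mulc : ∀ {a b : S6}, a * pZ = pZ * a → b * pZ = pZ * b → a * b * pZ = pZ * (a * b) :=
    fun ha hc => (Commute.mul_left (show Commute _ _ from ha) hc).eq
  have invc : ∀ {a : S6}, a * pZ = pZ * a → a⁻¹ * pZ = pZ * a⁻¹ :=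
    fun ha => ((show Commute _ _ from ha).inv_left).eq
  have cjc : ∀ {a b : S6}, a * pZ = pZ * a → b * pZ = pZ * b → a * b * a⁻¹ * pZ = pZ * (a * b * a⁻¹) :=
    fun ha hc => mulc (mulc ha hc) (invc ha)
  have pB' : ∀ p q : S6, p * pZ = pZ * p → q * pZ = pZ * q →
      okB (fun f => bL (bTab (enc x) (enc y)) (bL (bTab (enc x) (enc y)) f)) (enc p) (enc q) = true →
      ∃ s σ, σ = p⁻¹ * q * s ∧ s * pZ = pZ * s ∧
        s * s = 1 ∧ pZ * β (β (q * s * q⁻¹)) = s ∧ σ * σ = 1 ∧ β (β (p * σ * p⁻¹)) = σ := by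
    intro p q hp hq hok
    simp only [okB, List.any_eq_true, Bool.and_eq_true, beq_iff_eq] at hok
    obtain ⟨f, hf, e1, e2, e3, e4⟩ := hok
    obtain ⟨s, hs, rfl⟩ := of_TKL hf
    have hσ := mulc (mulc (invc hp) hq) hs
    refine ⟨s, _, rfl, hs, sq_iff.mpr e1, ?_, ?_, ?_⟩
    · rw [eq_iff, enc_mul, enc_pZ, hb.enc_beta₂ (cjc hq hs), enc_cjS hq, e2]
    · rw [sq_iff, enc_mul, enc_mul, enc_inv_TK hp]; exact e3
    · rw [eq_iff, hb.enc_beta₂ (cjc hp hσ), enc_cjS hp]
      simp only [enc_mul, enc_inv_TK hp]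
      exact e4
  have pC' : ∀ i w, w * pZ = pZ * w →
      okC (bL (bTab (enc x) (enc y)))
        (fun f => bL (bTab (enc x) (enc y)) (bL (bTab (enc x) (enc y)) f)) i (enc w) = true →
      (∃ k r, r * pZ = pZ * r ∧ r * r ≠ 1 ∧ zpS k (β (β (w * r * w⁻¹))) = r) ∧
      ∃ j s, s * pZ = pZ * s ∧ s * zpS i (β (β w)) = apS i (β w) * zpS j (β (β s)) := by
    intro i w hw hok
    simp only [okC, Bool.and_eq_true, List.any_eq_true, beq_iff_eq, bne_iff_ne] at hok
    obtain ⟨⟨k, -, f, hf, e1, e2⟩, j, -, g, hg, e3⟩ := hok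
    obtain ⟨r, hr, rfl⟩ := of_TKL hf
    obtain ⟨s, hs, rfl⟩ := of_TKL hg
    refine ⟨⟨k, r, hr, fun e => e1 (sq_iff.mp e), ?_⟩, j, s, hs, ?_⟩
    · rw [eq_iff, enc_zpS, hb.enc_beta₂ (cjc hw hr), enc_cjS hw]; exact e2
    · rw [eq_iff, enc_mul, enc_mul, enc_zpS, enc_apS, enc_zpS, hb.enc_beta₂ hw, hb.enc_beta hw,
        hb.enc_beta₂ hs]
      exact e3
  simp only [Bool.or_eq_true] at h'
  rcases h' with hA | hB' | hB' | hC | hC
  · refine Or.inl ⟨u⁻¹ * v, mul_inv_cancel_left u v, mulc (invc hu) hv, ?_, ?_⟩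
    all_goals simp only [okA2, Bool.and_eq_true, beq_iff_eq] at hA
    · rw [sq_iff, enc_mul, enc_inv_TK hu]; exact hA.1
    · rw [eq_iff, enc_mul, enc_pZ, hb.enc_beta₂ (cjc hu (mulc (invc hu) hv)), enc_cjS hu, enc_mul,
        enc_inv_TK hu]
      exact hA.2
  · exact Or.inr (Or.inl ⟨u, v, Or.inl ⟨rfl, rfl⟩, pB' u v hu hv hB'⟩)
  · exact Or.inr (Or.inl ⟨v, u, Or.inr ⟨rfl, rfl⟩, pB' v u hv hu hB'⟩)
  · exact Or.inr (Or.inr ⟨false, u, Or.inl ⟨rfl, rfl⟩, pC' false u hu hC⟩)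
  · exact Or.inr (Or.inr ⟨true, v, Or.inr ⟨rfl, rfl⟩, pC' true v hv hC⟩)

/-- The twist composite at `pZ`. -/
def twAT (FA FT : Bool) (σ : S6) : S6 := twA FA (twT FT σ)

theorem twT_pA {F : Bool} {σ : S6} (h : σ * pZ = pZ * σ) :
    twT F σ * pA = pA * twT F σ ∧ twT F σ * pZ = pZ * twT F σ ∧ σ * pT = pT * σ := by
  have key : TKL.all (fun f => comB f eT && [false, true].all fun F =>
      comB (twL eT (chT F f) f) eA && comB (twL eT (chT F f) f) eZ) = true := by decide +kernel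
  rw [List.all_eq_true] at key
  have h' := key _ (mem_TKL h)
  simp only [Bool.and_eq_true, List.all_cons, List.all_nil, and_true] at h'
  rw [comB_iff, comB_iff, comB_iff, enc_twT, enc_pA, enc_pZ, enc_pT]
  cases F
  · exact ⟨h'.2.1.1, h'.2.1.2, h'.1⟩
  · exact ⟨h'.2.2.1, h'.2.2.2, h'.1⟩

/-- The check behind `card_fibre`. -/
def fibre : Bool := TKL.all fun τ =>
  (([false, true].flatMap fun i => TKL.map fun s => (i, s)).filter fun p =>
    zp p.1 (cm p.2 (twL eA (chA true (twL eT (chT true p.2) p.2)) (twL eT (chT true p.2) p.2))) ==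
      τ).length ≤ 8

theorem fibre_eq : fibre = true := by decide +kernel

theorem card_fibre {τ : S6} (hτ : τ * pZ = pZ * τ) :
    Nat.card {p : Bool × S6 // p.2 * pZ = pZ * p.2 ∧ zpS p.1 (p.2 * twAT true true p.2) = τ} ≤ 8 := by
  classical
  have key := fibre_eq
  simp only [fibre, List.all_eq_true] at key
  have h := key _ (mem_TKL hτ)
  rw [decide_eq_true_eq] at h
  refine le_trans ?_ (le_trans (List.toFinset_card_le _) h)
  rw [← Fintype.card_coe, ← Nat.card_eq_fintype_card]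
  refine Nat.card_le_card_of_injective (fun p => ⟨(p.1.1, enc p.1.2), ?_⟩) fun a b e => ?_
  · rw [List.mem_toFinset, List.mem_filter, List.mem_flatMap]
    refine ⟨⟨p.1.1, by simp, List.mem_map.mpr ⟨_, mem_TKL p.2.1, rfl⟩⟩, ?_⟩
    have e := congrArg enc p.2.2
    rw [enc_zpS, enc_mul, twAT, enc_twA, enc_twT] at e
    rw [beq_iff_eq]; exact e
  · simp only [Subtype.mk.injEq, Prod.mk.injEq] at e
    exact Subtype.ext (Prod.ext e.1 (enc_injective e.2))

end Cfsg.Agent.Lib.InvCentS6
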