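/-
An involution with centraliser `Z₂ × S₆`, all `t ι l` conjugate to `t`: the case where the
element moving `t` to `t ι a` fixes `ι a` (helper74, for S3146).
-/
import Cfsg.Agent.Lib.InvCentS6.DCore
import Cfsg.Agent.Lib.InvCentS6.DTwoFin

set_option autoImplicit false

namespace Cfsg.Agent.Lib.InvCentS6

open Equiv Enc

universe u

theorem covers_of_check (V R P : List S6)
    (h : (V.map enc).all (fun v => (P.map enc).any fun p =>
      stabL (V.map enc) p && (R.map enc).any fun r => cjB p r v) = true) : Cent.Covers V R := by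
  intro v hv
  simp only [List.all_eq_true, List.any_eq_true, List.mem_map, Bool.and_eq_true] at h
  obtain ⟨_, ⟨π, -, rfl⟩, hπ, _, ⟨r, hr, rfl⟩, e⟩ := h _ ⟨v, hv, rfl⟩
  exact ⟨π, (stabS_iff _ _).mpr hπ, r, hr, cjB_iff.mpr e⟩

theorem stabS_TK (V : List S6) (h : TKL.all (stabL (V.map enc)) = true) {σ : S6}
    (hσ : σ * pZ = pZ * σ) : StabS V σ := by
  rw [List.all_eq_true] at h
  exact (stabS_iff _ _).mpr (h _ (mem_TKL hσ))

theorem sq_ne_odd (σ : S6) : σ * σ ≠ pA ∧ σ * σ ≠ pT := by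
  have key : all6.all (fun f => cm f f != eA && cm f f != eT) = true := by decide +kernel
  have h := all_check key σ
  simp only [Bool.and_eq_true, bne_iff_ne] at h
  exact ⟨fun e => h.1 (by rw [← enc_mul, e, enc_pA]), fun e => h.2 (by rw [← enc_mul, e, enc_pT])⟩

theorem twAT_comm {FA FT : Bool} {σ : S6} (h : σ * pZ = pZ * σ) :
    twAT FA FT σ * pZ = pZ * twAT FA FT σ := by
  have h' := twT_pA (F := FT) h
  unfold twAT twA
  split
  · exact (Commute.mul_left (show Commute _ _ from h'.2.1)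
      (show Commute pA pZ from (by decide +kernel : pA * pZ = pZ * pA))).eq
  · exact h'.2.1

theorem twA_fix : ∀ b, twA b pA = pA ∧ twA b 1 = 1 ∧ pA * twA b pT = pZ := by decide +kernel

theorem twT_fix : ∀ b, twT b pA = pA ∧ twT b pB = pB ∧ twT b pC = pC ∧ twT b pT = pT ∧
    twT b 1 = 1 := by decide +kernel

theorem twAT_pZ : ∀ FA FT, twAT FA FT pZ = pZ := by decide +kernel

theorem maps_A : ∀ b, ∀ V ∈ [VA, VN, V1, V2], ∀ v ∈ V,
    v * pA = pA * v ∧ pA * twA b v ∈ V := by decide +kernel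

theorem maps_T : ∀ b, ∀ V ∈ [VT, VN, V1, V2], ∀ v ∈ V,
    v * pT = pT * v ∧ pT * twT b v ∈ V := by decide +kernel

theorem maps_Z : ∀ FA FT, ∀ v ∈ VZ, v * pZ = pZ * v ∧ pZ * twAT FA FT v ∈ VZ := by decide +kernel

theorem cong192 {n W : ℕ} (h : (4 * ((192 : ℕ) : ℤ)) ∣ 1440 * ((n : ℤ) - (W : ℕ))) :
    n % 8 = W % 8 := by omega
theorem cong64 {n W : ℕ} (h : (4 * ((64 : ℕ) : ℤ)) ∣ 1440 * ((n : ℤ) - (W : ℕ))) :
    n % 8 = W % 8 := by omega
theorem cong128 {n W : ℕ} (h : (4 * ((128 : ℕ) : ℤ)) ∣ 1440 * ((n : ℤ) - (W : ℕ))) :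
    n % 16 = W % 16 := by omega
theorem cong384 {n W : ℕ} (h : (4 * ((384 : ℕ) : ℤ)) ∣ 1440 * ((n : ℤ) - (W : ℕ))) :
    n % 16 = W % 16 := by omega
theorem cong768 {n W : ℕ} (h : (4 * ((768 : ℕ) : ℤ)) ∣ 1440 * ((n : ℤ) - (W : ℕ))) :
    n % 32 = W % 32 := by omega
theorem weight_mod {n w : ℕ} (h8 : 8 ∣ n) (h : n % 8 = (20 + w) % 8) : w % 8 = 4 := by omega
theorem no_untwisted {n m : ℕ} (h8 : 8 ∣ n) (hZ : n % 8 = (12 + m) % 8)
    (hN : n % 16 = (12 + 12 + m + 12) % 16) (h3 : n % 16 = (20 + 3 * m) % 16) : False := by omega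
theorem no_mixed {n m x1 y1 x2 y2 : ℕ} (h1 : n % 32 = (20 + 3 * x1 + 3 * m + y1) % 32)
    (h2 : n % 32 = (20 + x2 + 3 * m + 3 * y2) % 32)
    (hne : (3 * x1 + y1) % 32 ≠ (x2 + 3 * y2) % 32) : False := by omega
theorem no_twisted {n m : ℕ} (hm : m ≤ 8) (hZ : n % 8 = (12 + m) % 8) (h8 : 8 ∣ n)
    (hN : n % 16 = (12 + 4 + m + 4) % 16) (h4 : n % 16 = (20 + 3 * 4) % 16) : False := by omega
theorem dvd_eight {n k : ℕ} (h : n * 1440 = 768 * k) : 8 ∣ n := by omega

namespace Cent

variable {G : Type u} [Group G] (F : Cent G) (hD : F.IsD)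
include hD

/-- An element moving `t` to `t ι κ` and fixing `ι κ` maps involutions of `ι C(κ)` into it. -/
theorem img_cent {κ : S6} {g : G} (hgt : cj g F.t = F.t * F.ι κ) (hgκ : cj g (F.ι κ) = F.ι κ)
    {σ : S6} (hc : σ * κ = κ * σ) (h2 : σ * σ = 1) (h1 : σ ≠ 1) :
    ∃ τ, (Inv2 τ ∧ τ * κ = κ * τ) ∧ cj g (F.ι σ) = F.ι τ := by
  have c1 : cj g (F.ι σ) * cj g (F.t * F.ι κ) = cj g (F.t * F.ι κ) * cj g (F.ι σ) :=
    cj_comm_iff.mpr (F.tmul_commute_iff.mpr hc.symm).symm
  have c2 : cj g (F.ι σ) * cj g (F.ι κ) = cj g (F.ι κ) * cj g (F.ι σ) :=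
    cj_comm_iff.mpr (F.commute_iff_ι.mpr hc)
  have c3 : cj g (F.ι σ) * cj g F.t = cj g F.t * cj g (F.ι σ) :=
    cj_comm_iff.mpr (F.comm σ)
  rw [hgκ] at c2
  rw [hgt] at c3
  have ct : cj g (F.ι σ) * F.t = F.t * cj g (F.ι σ) := by
    apply mul_right_cancel (b := F.ι κ)
    rw [mul_assoc, c3, mul_assoc F.t (F.ι κ), ← c2, mul_assoc]
  obtain ⟨τ, hτ, e⟩ := F.exists_ι hD ct (by rw [← cj_mul, ← map_mul, h2, map_one, cj_one])
    (fun e => h1 (F.inj ((cj_inj (e.trans (cj_one g).symm)).trans (map_one F.ι).symm)))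
    (fun h => hD.hA σ ((F.isX_cj g).mp h))
  rw [e] at c2
  exact ⟨τ, ⟨hτ, F.commute_iff_ι.mp c2⟩, e⟩

omit hD in
/-- The elements of `C(κ)` on which `g` acts as `tw`. -/
def eqSub (g : G) (κ : S6) (tw : S6 → S6)
    (hmul : ∀ {σ τ : S6}, σ * κ = κ * σ → τ * κ = κ * τ → tw (σ * τ) = tw σ * tw τ) : Subgroup S6 where
  carrier := {σ | σ * κ = κ * σ ∧ cj g (F.ι σ) = F.ι (tw σ)}
  one_mem' := by
    refine ⟨by rw [one_mul, mul_one], ?_⟩
    have h := hmul (σ := 1) (τ := 1) (by rw [one_mul, mul_one]) (by rw [one_mul, mul_one])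
    rw [one_mul] at h
    have h1 : tw 1 = 1 := mul_left_cancel (h.symm.trans (mul_one _).symm)
    rw [h1, map_one, cj_one]
  mul_mem' := fun {σ τ} hσ hτ =>
    ⟨(Commute.mul_left (show Commute _ _ from hσ.1) hτ.1).eq, by
      rw [map_mul, cj_mul, hσ.2, hτ.2, ← map_mul, hmul hσ.1 hτ.1]⟩
  inv_mem' := fun {σ} hσ => by
    have hi : σ⁻¹ * κ = κ * σ⁻¹ := ((show Commute _ _ from hσ.1).inv_left).eq
    refine ⟨hi, ?_⟩
    have h := hmul hσ.1 hi
    have h1 := hmul (σ := 1) (τ := 1) (by rw [one_mul, mul_one]) (by rw [one_mul, mul_one])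
    rw [one_mul] at h1
    have h1' : tw 1 = 1 := mul_left_cancel (h1.symm.trans (mul_one _).symm)
    rw [mul_inv_cancel, h1'] at h
    rw [← inv_eq_of_mul_eq_one_right h.symm, map_inv, map_inv, ← hσ.2]
    simp only [cj]; group

variable [Finite G]

theorem exists_gA {g : G} (hgt : cj g F.t = F.t * F.ι pA) (hga : cj g (F.ι pA) = F.ι pA) :
    ∃ (b : Bool) (g' : G), F.Exact pA (twA b) g' ∧ g' * g' = 1 := by
  obtain ⟨x1, i1, e1⟩ := F.img_cent hD hgt hga (σ := s1) (by decide +kernel) (by decide +kernel)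
    (by decide +kernel)
  obtain ⟨x2, i2, e2⟩ := F.img_cent hD hgt hga (σ := s2) (by decide +kernel) (by decide +kernel)
    (by decide +kernel)
  obtain ⟨x3, i3, e3⟩ := F.img_cent hD hgt hga (σ := s3) (by decide +kernel) (by decide +kernel)
    (by decide +kernel)
  have mulE : ∀ {a b x y : S6}, cj g (F.ι a) = F.ι x → cj g (F.ι b) = F.ι y →
      cj g (F.ι (a * b)) = F.ι (x * y) := fun ha hb => by
    rw [map_mul, cj_mul, ha, hb, map_mul]
  have ne : ∀ {a b : S6} {x y : S6}, a ≠ b → cj g (F.ι a) = F.ι x → cj g (F.ι b) = F.ι y → x ≠ y :=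
    fun h ha hb e => h (F.inj (cj_inj (by rw [ha, hb, e])))
  have rel : ∀ {a b x y : S6}, cj g (F.ι a) = F.ι x → cj g (F.ι b) = F.ι y → a = b → x = y :=
    fun ha hb e => F.inj (ha.symm.trans (by rw [e, hb]))
  obtain ⟨c, hc, hcc⟩ := classify_cA i1 i2 i3
    (rel (mulE e1 (mulE e2 e1)) (mulE e2 (mulE e1 e2)) (by decide +kernel))
    (ne (by decide +kernel) e1 e2)
    (rel (mulE e2 (mulE e3 e2)) (mulE e3 (mulE e2 e3)) (by decide +kernel))
    (ne (by decide +kernel) e2 e3)
    (rel (mulE e1 e3) (mulE e3 e1) (by decide +kernel))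
    (ne (by decide +kernel) e3 e1)
  have hinv : c⁻¹ * pA * c⁻¹⁻¹ = pA := mul_inv_eq_iff_eq_mul.mpr
    ((show Commute c pA from hc).inv_left).eq
  have back : ∀ {s x : S6}, c * s * c⁻¹ = x → c⁻¹ * x * c⁻¹⁻¹ = s := by
    rintro s x rfl; group
  obtain ⟨b, hb⟩ : ∃ b : Bool, c⁻¹ * x1 * c⁻¹⁻¹ = twA b s1 ∧ c⁻¹ * x2 * c⁻¹⁻¹ = twA b s2 ∧
      c⁻¹ * x3 * c⁻¹⁻¹ = twA b s3 := by
    rcases hcc with ⟨h1, h2, h3⟩ | ⟨h1, h2, h3⟩
    · refine ⟨false, ?_, ?_, ?_⟩
      · rw [back h1]; decide +kernel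
      · rw [back h2]; decide +kernel
      · rw [back h3]; decide +kernel
    · refine ⟨true, ?_, ?_, ?_⟩
      · rw [back h1]; decide +kernel
      · rw [back h2]; decide +kernel
      · rw [back h3]; decide +kernel
  set g0 := F.ι c⁻¹ * g with hg0
  have ev : ∀ {s x : S6}, cj g (F.ι s) = F.ι x → cj g0 (F.ι s) = F.ι (c⁻¹ * x * c⁻¹⁻¹) := by
    intro s x e; rw [hg0, ← cj_cj, e, F.cj_ι]
  have hAA : twA b pA = pA := (twA_fix b).1
  have hex : F.Exact pA (twA b) g0 := by
    refine ⟨by rw [hg0, ← cj_cj, hgt, F.cj_ι_tι, hinv], fun σ hσ => ?_⟩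
    refine (closure_cA (H := F.eqSub g0 pA (twA b) (twA_mul b)) ?_ ?_ ?_ ?_ hσ).2
    · exact ⟨rfl, by rw [ev hga, hinv, hAA]⟩
    · exact ⟨by decide +kernel, by rw [ev e1, hb.1]⟩
    · exact ⟨by decide +kernel, by rw [ev e2, hb.2.1]⟩
    · exact ⟨by decide +kernel, by rw [ev e3, hb.2.2]⟩
  obtain ⟨g', h1, h2⟩ := F.exists_invol inv2_pA (twA_fix b).2.1 hAA
    (fun _ h => twA_comm h) (fun _ h => twA_twA h)
    (fun d hd h => cent_cA hd (h s1 (by decide +kernel)) (h s2 (by decide +kernel))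
      (h s3 (by decide +kernel))) hex
  exact ⟨b, g', h1, h2⟩

theorem exists_gT {g : G} (hgt : cj g F.t = F.t * F.ι pT) (hgT : cj g (F.ι pT) = F.ι pT) :
    ∃ (b : Bool) (g' : G), F.Exact pT (twT b) g' ∧ g' * g' = 1 := by
  obtain ⟨xa, ia, ea⟩ := F.img_cent hD hgt hgT (σ := pA) (by decide +kernel) inv2_pA.1 inv2_pA.2
  obtain ⟨xb, ib, eb⟩ := F.img_cent hD hgt hgT (σ := pB) (by decide +kernel) inv2_pB.1 inv2_pB.2
  obtain ⟨xc, ic, ec⟩ := F.img_cent hD hgt hgT (σ := pC) (by decide +kernel) inv2_pC.1 inv2_pC.2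
  obtain ⟨x1, i1, e1⟩ := F.img_cent hD hgt hgT (σ := pE) (by decide +kernel) inv2_pE.1 inv2_pE.2
  obtain ⟨x2, i2, e2⟩ := F.img_cent hD hgt hgT (σ := pE2) (by decide +kernel) inv2_pE2.1 inv2_pE2.2
  have mulE : ∀ {a b x y : S6}, cj g (F.ι a) = F.ι x → cj g (F.ι b) = F.ι y →
      cj g (F.ι (a * b)) = F.ι (x * y) := fun ha hb => by
    rw [map_mul, cj_mul, ha, hb, map_mul]
  have ne : ∀ {a b : S6} {x y : S6}, a ≠ b → cj g (F.ι a) = F.ι x → cj g (F.ι b) = F.ι y → x ≠ y :=
    fun h ha hb e => h (F.inj (cj_inj (by rw [ha, hb, e])))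
  have rel : ∀ {a b x y : S6}, cj g (F.ι a) = F.ι x → cj g (F.ι b) = F.ι y → a = b → x = y :=
    fun ha hb e => F.inj (ha.symm.trans (by rw [e, hb]))
  obtain ⟨c, hc, ca, cb, ccc, hcc⟩ := classify_cT ia ib ic i1 i2
    (rel (mulE ea eb) (mulE eb ea) (by decide +kernel)) (ne (by decide +kernel) eb ea)
    (rel (mulE (mulE ea eb) ec) hgT (by decide +kernel))
    (ne (by decide +kernel) ec ea) (ne (by decide +kernel) ec eb)
    (rel (mulE e1 ea) (mulE ea e1) (by decide +kernel))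
    (rel (mulE e1 eb) (mulE ec e1) (by decide +kernel))
    (rel (mulE e2 ea) (mulE eb e2) (by decide +kernel))
    (rel (mulE e2 ec) (mulE ec e2) (by decide +kernel))
    (rel (mulE (mulE e1 e2) (mulE (mulE e1 e2) (mulE e1 e2)))
      (show cj g (F.ι 1) = F.ι 1 by rw [map_one, cj_one]) (by decide +kernel))
  have hinv : c⁻¹ * pT * c⁻¹⁻¹ = pT := mul_inv_eq_iff_eq_mul.mpr
    ((show Commute c pT from hc).inv_left).eq
  have back : ∀ {s x : S6}, c * s * c⁻¹ = x → c⁻¹ * x * c⁻¹⁻¹ = s := by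
    rintro s x rfl; group
  obtain ⟨b, hb⟩ : ∃ b : Bool, c⁻¹ * x1 * c⁻¹⁻¹ = twT b pE ∧ c⁻¹ * x2 * c⁻¹⁻¹ = twT b pE2 := by
    rcases hcc with ⟨h1, h2⟩ | ⟨h1, h2⟩
    · refine ⟨false, ?_, ?_⟩
      · rw [back h1]; decide +kernel
      · rw [back h2]; decide +kernel
    · refine ⟨true, ?_, ?_⟩
      · rw [back h1]; decide +kernel
      · rw [back h2]; decide +kernel
  set g0 := F.ι c⁻¹ * g with hg0
  have ev : ∀ {s x : S6}, cj g (F.ι s) = F.ι x → cj g0 (F.ι s) = F.ι (c⁻¹ * x * c⁻¹⁻¹) := by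
    intro s x e; rw [hg0, ← cj_cj, e, F.cj_ι]
  have hfix := twT_fix b
  have hex : F.Exact pT (twT b) g0 := by
    refine ⟨by rw [hg0, ← cj_cj, hgt, F.cj_ι_tι, hinv], fun σ hσ => ?_⟩
    refine (closure_cT (H := F.eqSub g0 pT (twT b) (twT_mul b)) ?_ ?_ ?_ ?_ ?_ hσ).2
    · exact ⟨by decide +kernel, by rw [ev ea, back ca, hfix.1]⟩
    · exact ⟨by decide +kernel, by rw [ev eb, back cb, hfix.2.1]⟩
    · exact ⟨by decide +kernel, by rw [ev ec, back ccc, hfix.2.2.1]⟩
    · exact ⟨by decide +kernel, by rw [ev e1, hb.1]⟩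
    · exact ⟨by decide +kernel, by rw [ev e2, hb.2]⟩
  obtain ⟨g', h1, h2⟩ := F.exists_invol inv2_pT hfix.2.2.2.2 hfix.2.2.2.1
    (fun _ h => twT_comm h) (fun _ h => twT_twT h)
    (fun d _ h => cent_cT (h pA (by decide +kernel)) (h pB (by decide +kernel))
      (h pC (by decide +kernel)) (h pE (by decide +kernel)) (h pE2 (by decide +kernel))) hex
  exact ⟨b, g', h1, h2⟩

omit hD in
/-- The conjugates of `t` moving `t` to `t ι z`. -/
noncomputable def mz : ℕ := Nat.card {x : G // F.IsX x ∧ cj x F.t = F.t * F.ι pZ}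

omit hD in
theorem cent_of_move {g x : G} (hgt : cj g F.t = F.t * F.ι pZ) (hgz : cj g (F.ι pZ) = F.ι pZ)
    (hX : F.IsX x) (hx : cj x F.t = F.t * F.ι pZ) :
    ∃ σ, σ * pZ = pZ * σ ∧ (g⁻¹ * x = F.ι σ ∨ g⁻¹ * x = F.t * F.ι σ) := by
  have hxz := F.fix_of_move inv2_pZ.1 hX hx
  have hct : cj (g⁻¹ * x) F.t = F.t := by rw [← cj_cj, hx, ← hgt, cj_inv_cj]
  obtain ⟨σ, hσ, hσa⟩ := F.cj_fix_t hct
  refine ⟨σ, mul_inv_eq_iff_eq_mul.mp (F.inj ?_), hσ⟩
  have h := (hσa pZ).1
  rw [← cj_cj, hxz, cj_symm hgz] at h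
  exact h.symm

omit hD in
theorem wcard_full {V : List S6} {g : G} (hgt : cj g F.t = F.t * F.ι pZ)
    (hgz : cj g (F.ι pZ) = F.ι pZ) (hgV : g ∈ F.stabV V)
    (hTK : TKL.all (stabL (V.map enc)) = true) : F.wcard V pZ = F.mz := by
  refine Nat.card_congr (Equiv.subtypeEquivRight fun x => ?_)
  refine ⟨fun h => ⟨h.1, h.2.2⟩, fun h => ⟨h.1, ?_, h.2⟩⟩
  obtain ⟨σ, hσ, e⟩ := F.cent_of_move hgt hgz h.1 h.2
  have := (F.stabV V).mul_mem hgV ((F.mem_stabV_cases e).mpr (stabS_TK V hTK hσ))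
  rwa [mul_inv_cancel_left] at this

omit hD in
theorem mz_le {g : G} (hg : F.Exact pZ (twAT true true) g) : F.mz ≤ 8 := by
  classical
  have hgz : cj g (F.ι pZ) = F.ι pZ := by
    rw [hg.2 pZ rfl, show twAT true true pZ = pZ by decide +kernel]
  let X' := {x : G // F.IsX x ∧ cj x F.t = F.t * F.ι pZ}
  have hp : ∀ x : X', ∃ p : Bool × S6, p.2 * pZ = pZ * p.2 ∧
      g⁻¹ * x.1 = (if p.1 then F.t * F.ι p.2 else F.ι p.2) ∧
      g⁻¹ * g⁻¹ = F.ι (zpS p.1 (p.2 * twAT true true p.2)) := by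
    rintro ⟨x, hX, hx⟩
    obtain ⟨σ, hσ, e⟩ := F.cent_of_move hg.1 hgz hX hx
    have hsq : g⁻¹ * g⁻¹ = g⁻¹ * x * cj g (g⁻¹ * x) := by
      calc g⁻¹ * g⁻¹ = g⁻¹ * (x * x) * g⁻¹ := by rw [F.isX_sq hX]; group
        _ = _ := by simp only [cj]; group
    rcases e with e | e
    · refine ⟨(false, σ), hσ, by simpa using e, ?_⟩
      rw [hsq, e, hg.2 σ hσ, ← map_mul]; rfl
    · refine ⟨(true, σ), hσ, by simpa using e, ?_⟩
      rw [hsq, e, cj_mul, hg.1, hg.2 σ hσ, mul_assoc F.t (F.ι pZ), ← map_mul, F.tmul_tmul]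
      show _ = F.ι (pZ * (σ * twAT true true σ))
      rw [← mul_assoc, ← mul_assoc, hσ]
  by_cases hne : Nonempty X'
  · obtain ⟨x0⟩ := hne
    obtain ⟨p0, hp0, -, hτ⟩ := hp x0
    have hτc : zpS p0.1 (p0.2 * twAT true true p0.2) * pZ =
        pZ * zpS p0.1 (p0.2 * twAT true true p0.2) := by
      have h1 := (Commute.mul_left (show Commute _ _ from hp0) (twAT_comm (FA := true) (FT := true) hp0)).eq
      cases p0.1
      · exact h1
      · exact (Commute.mul_left (Commute.refl pZ) h1).eq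
    refine le_trans (Nat.card_le_card_of_injective (fun x : X' => (⟨(hp x).choose,
      (hp x).choose_spec.1, F.inj ((hp x).choose_spec.2.2.symm.trans hτ)⟩ :
      {p : Bool × S6 // p.2 * pZ = pZ * p.2 ∧
        zpS p.1 (p.2 * twAT true true p.2) = zpS p0.1 (p0.2 * twAT true true p0.2)})) ?_)
      (card_fibre hτc)
    intro a b e
    apply Subtype.ext
    apply mul_left_cancel (a := g⁻¹)
    rw [(hp a).choose_spec.2.1, (hp b).choose_spec.2.1]
    have e' : (hp a).choose = (hp b).choose := congrArg Subtype.val e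
    rw [e']
  · have : IsEmpty X' := not_nonempty_iff.mp hne
    show Nat.card X' ≤ 8
    simp

attribute [local irreducible] cntW cnt0

theorem case_one (hG : ¬ ∃ H : Subgroup G, H.index = 2) {gA gT : G} {FA FT : Bool}
    (hA : F.Exact pA (twA FA) gA) (hA2 : gA * gA = 1) (hT : F.Exact pT (twT FT) gT)
    (hT2 : gT * gT = 1) : False := by
  classical
  -- the product
  have hzt : cj (gA * gT) F.t = F.t * F.ι pZ := by
    rw [← cj_cj, hT.1, cj_mul, hA.1, hA.2 pT (by decide +kernel), mul_assoc, ← map_mul,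
      (twA_fix FA).2.2]
  have hZ : F.Exact pZ (twAT FA FT) (gA * gT) := by
    refine ⟨hzt, fun σ hσ => ?_⟩
    obtain ⟨h1, -, h3⟩ := twT_pA (F := FT) hσ
    rw [← cj_cj, hT.2 σ h3, hA.2 _ h1, twAT]
  have hzz : cj (gA * gT) (F.ι pZ) = F.ι pZ := by
    rw [hZ.2 pZ rfl, twAT_pZ FA FT]
  set gz := gA * gT with hgz
  -- membership
  have aA : gA ∈ F.stabV VA := F.exact_mem_stabV hA (maps_A FA _ (by simp))
  have aT : gT ∈ F.stabV VT := F.exact_mem_stabV hT (maps_T FT _ (by simp))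
  have zZ : gz ∈ F.stabV VZ := F.exact_mem_stabV hZ (maps_Z FA FT)
  have aN : gA ∈ F.stabV VN := F.exact_mem_stabV hA (maps_A FA _ (by simp))
  have tN : gT ∈ F.stabV VN := F.exact_mem_stabV hT (maps_T FT _ (by simp))
  have a1 : gA ∈ F.stabV V1 := F.exact_mem_stabV hA (maps_A FA _ (by simp))
  have t1 : gT ∈ F.stabV V1 := F.exact_mem_stabV hT (maps_T FT _ (by simp))
  have a2 : gA ∈ F.stabV V2 := F.exact_mem_stabV hA (maps_A FA _ (by simp))
  have t2 : gT ∈ F.stabV V2 := F.exact_mem_stabV hT (maps_T FT _ (by simp))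
  have z1 : gz ∈ F.stabV V1 := (F.stabV V1).mul_mem a1 t1
  have z2 : gz ∈ F.stabV V2 := (F.stabV V2).mul_mem a2 t2
  have zN : gz ∈ F.stabV VN := (F.stabV VN).mul_mem aN tN
  have one : ∀ V, ∃ g ∈ F.stabV V, cj g F.t = F.t * F.ι 1 :=
    fun V => ⟨1, (F.stabV V).one_mem, by rw [one_cj, map_one, mul_one]⟩
  -- transversals
  have trA : ∀ v ∈ VA, ∃ g ∈ F.stabV VA, cj g F.t = F.t * F.ι v := by
    intro v hv
    simp only [VA, List.mem_cons, List.not_mem_nil, or_false] at hv
    rcases hv with rfl | rfl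
    · exact one _
    · exact ⟨gA, aA, hA.1⟩
  have trT : ∀ v ∈ VT, ∃ g ∈ F.stabV VT, cj g F.t = F.t * F.ι v := by
    intro v hv
    simp only [VT, List.mem_cons, List.not_mem_nil, or_false] at hv
    rcases hv with rfl | rfl
    · exact one _
    · exact ⟨gT, aT, hT.1⟩
  have trZ : ∀ v ∈ VZ, ∃ g ∈ F.stabV VZ, cj g F.t = F.t * F.ι v := by
    intro v hv
    simp only [VZ, List.mem_cons, List.not_mem_nil, or_false] at hv
    rcases hv with rfl | rfl
    · exact one _
    · exact ⟨gz, zZ, hzt⟩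
  have trN : ∀ v ∈ VN, ∃ g ∈ F.stabV VN, cj g F.t = F.t * F.ι v := by
    intro v hv
    simp only [VN, List.mem_cons, List.not_mem_nil, or_false] at hv
    rcases hv with rfl | rfl | rfl | rfl
    · exact one _
    · exact ⟨gA, aN, hA.1⟩
    · exact ⟨gz, zN, hzt⟩
    · exact ⟨gT, tN, hT.1⟩
  have tr1 : ∀ v ∈ V1, ∃ g ∈ F.stabV V1, cj g F.t = F.t * F.ι v := by
    refine fun v hv => F.exists_to (covers_of_check V1 [1, pA, pT, pZ] [1, pP, pP * pP]
      (by decide +kernel)) ?_ hv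
    intro r hr
    simp only [List.mem_cons, List.not_mem_nil, or_false] at hr
    rcases hr with rfl | rfl | rfl | rfl
    · exact one _
    · exact ⟨gA, a1, hA.1⟩
    · exact ⟨gT, t1, hT.1⟩
    · exact ⟨gz, z1, hzt⟩
  have tr2 : ∀ v ∈ V2, ∃ g ∈ F.stabV V2, cj g F.t = F.t * F.ι v := by
    refine fun v hv => F.exists_to (covers_of_check V2 [1, pA, pT, pZ] [1, pY3, pY3 * pY3]
      (by decide +kernel)) ?_ hv
    intro r hr
    simp only [List.mem_cons, List.not_mem_nil, or_false] at hr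
    rcases hr with rfl | rfl | rfl | rfl
    · exact one _
    · exact ⟨gA, a2, hA.1⟩
    · exact ⟨gT, t2, hT.1⟩
    · exact ⟨gz, z2, hzt⟩
  -- `8 ∣ n`
  set n := Nat.card {u : G // F.IsX u} with hn
  have h8 : 8 ∣ n := by
    have h := Subgroup.card_subgroup_dvd_card (F.stabV V1)
    rw [F.card_stabV (by decide +kernel) (by decide +kernel) tr1, card_stabS, ← F.card_G, ← hn,
      show V1.length * (2 * (all6.filter fun f => stabL (V1.map enc) f).length) = 768 by
        decide +kernel] at h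
    obtain ⟨k, hk⟩ := h
    exact dvd_eight hk
  -- the weights
  obtain ⟨bA, hbA⟩ : ∃ b : Bool, b = true ↔ ¬ F.IsX gA := ⟨decide (¬ F.IsX gA), decide_eq_true_iff⟩
  obtain ⟨bT, hbT⟩ : ∃ b : Bool, b = true ↔ ¬ F.IsX gT := ⟨decide (¬ F.IsX gT), decide_eq_true_iff⟩
  have wA : ∀ {V}, gA ∈ F.stabV V → F.wcard V pA = cntW eA (chA FA) bA (V.map enc) := by
    intro V hV
    rw [F.wcard_exact hD inv2_pA (fun σ => (sq_ne_odd σ).1) (twA_eq FA ▸ hA) hA2 hV bA hbA,
      card_cntW, enc_pA]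
  have wT : ∀ {V}, gT ∈ F.stabV V → F.wcard V pT = cntW eT (chT FT) bT (V.map enc) := by
    intro V hV
    rw [F.wcard_exact hD inv2_pT (fun σ => (sq_ne_odd σ).2) (twT_eq FT ▸ hT) hT2 hV bT hbT,
      card_cntW, enc_pT]
  have w1 : ∀ V, F.wcard V 1 = cnt0 (V.map enc) := fun V => by
    rw [F.wcard_one hD, card_cnt0]
  have sA := F.sign_stabV hG (by decide +kernel) (by decide +kernel) trA
  rw [← hn, card_stabS] at sA
  have eA' : (VA.map (F.wcard VA)).sum = 20 + cntW eA (chA FA) bA (VA.map enc) := by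
    simp only [← wA aA]
    simp only [VA, List.map_cons, List.map_nil, List.sum_cons, List.sum_nil, add_zero]
    rw [w1, show cnt0 ([1, pA].map enc) = 20 by decide +kernel]
  rw [eA', show VA.length * (2 * (all6.filter fun f => stabL (VA.map enc) f).length) = 192 by
    decide +kernel] at sA
  have fA : bA = FA := by
    have : cntW eA (chA FA) bA (VA.map enc) % 8 = 4 := weight_mod h8 (cong192 sA)
    revert this; clear * -; revert bA FA; decide +kernel
  have sT := F.sign_stabV hG (by decide +kernel) (by decide +kernel) trT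
  rw [← hn, card_stabS] at sT
  have eT' : (VT.map (F.wcard VT)).sum = 20 + cntW eT (chT FT) bT (VT.map enc) := by
    simp only [← wT aT]
    simp only [VT, List.map_cons, List.map_nil, List.sum_cons, List.sum_nil, add_zero]
    rw [w1, show cnt0 ([1, pT].map enc) = 20 by decide +kernel]
  rw [eT', show VT.length * (2 * (all6.filter fun f => stabL (VT.map enc) f).length) = 192 by
    decide +kernel] at sT
  have fT : bT = FT := by
    have : cntW eT (chT FT) bT (VT.map enc) % 8 = 4 := weight_mod h8 (cong192 sT)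
    revert this; clear * -; revert bT FT; decide +kernel
  subst fA fT
  have wz : ∀ {V}, gz ∈ F.stabV V → TKL.all (stabL (V.map enc)) = true → F.wcard V pZ = F.mz :=
    fun hV hK => F.wcard_full hzt hzz hV hK
  have cj' : ∀ {V : List S6} (π v w : S6), stabL (V.map enc) (enc π) = true → π * v * π⁻¹ = w →
      F.wcard V w = F.wcard V v := fun π v w hπ e => by
    rw [← e, F.wcard_conj ((stabS_iff _ _).mpr hπ)]
  -- the four congruences
  have sZ := F.sign_stabV hG (by decide +kernel) (by decide +kernel) trZ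
  rw [← hn, card_stabS] at sZ
  have eZ' : (VZ.map (F.wcard VZ)).sum = 12 + F.mz := by
    rw [← wz zZ (by decide +kernel)]
    simp only [VZ, List.map_cons, List.map_nil, List.sum_cons, List.sum_nil, add_zero]
    rw [w1, show cnt0 ([1, pZ].map enc) = 12 by decide +kernel]
  rw [eZ', show VZ.length * (2 * (all6.filter fun f => stabL (VZ.map enc) f).length) = 64 by
    decide +kernel] at sZ
  have sN := F.sign_stabV hG (by decide +kernel) (by decide +kernel) trN
  rw [← hn, card_stabS] at sN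
  have eN' : (VN.map (F.wcard VN)).sum = 12 + cntW eA (chA bA) bA (VN.map enc) + F.mz +
      cntW eT (chT bT) bT (VN.map enc) := by
    rw [← wA aN, ← wT tN, ← wz zN (by decide +kernel)]
    simp only [VN, List.map_cons, List.map_nil, List.sum_cons, List.sum_nil]
    rw [w1, show cnt0 ([1, pA, pZ, pT].map enc) = 12 by decide +kernel]
    ring
  rw [eN', show VN.length * (2 * (all6.filter fun f => stabL (VN.map enc) f).length) = 128 by
    decide +kernel] at sN
  have s1' := F.sign_stabV hG (by decide +kernel) (by decide +kernel) tr1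
  rw [← hn, card_stabS] at s1'
  have e1' : (V1.map (F.wcard V1)).sum = 20 + 3 * cntW eA (chA bA) bA (V1.map enc) + 3 * F.mz +
      cntW eT (chT bT) bT (V1.map enc) := by
    rw [← wA a1, ← wT t1, ← wz z1 (by decide +kernel)]
    have b1 := cj' (V := V1) pP pA pB (by decide +kernel) (by decide +kernel)
    have b2 := cj' (V := V1) (pP * pP) pA pC (by decide +kernel) (by decide +kernel)
    have b3 := cj' (V := V1) (pP * pP) pZ (pA * pB) (by decide +kernel) (by decide +kernel)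
    have b4 := cj' (V := V1) pP pZ (pA * pC) (by decide +kernel) (by decide +kernel)
    show ([1, pA, pB, pC, pA * pB, pA * pC, pZ, pT].map (F.wcard V1)).sum = _
    simp only [List.map_cons, List.map_nil, List.sum_cons, List.sum_nil]
    rw [b1, b2, b3, b4, w1, show cnt0 (V1.map enc) = 20 by decide +kernel]
    ring
  rw [e1', show V1.length * (2 * (all6.filter fun f => stabL (V1.map enc) f).length) = 768 by
    decide +kernel] at s1'
  have s2' := F.sign_stabV hG (by decide +kernel) (by decide +kernel) tr2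
  rw [← hn, card_stabS] at s2'
  have e2' : (V2.map (F.wcard V2)).sum = 20 + cntW eA (chA bA) bA (V2.map enc) + 3 * F.mz +
      3 * cntW eT (chT bT) bT (V2.map enc) := by
    rw [← wA a2, ← wT t2, ← wz z2 (by decide +kernel)]
    have b1 := cj' (V := V2) (pY3 * pY3) pZ pE (by decide +kernel) (by decide +kernel)
    have b2 := cj' (V := V2) pY3 pZ (pE * pZ) (by decide +kernel) (by decide +kernel)
    have b3 := cj' (V := V2) (pY3 * pY3) pT (pA * pE) (by decide +kernel) (by decide +kernel)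
    have b4 := cj' (V := V2) pY3 pT (pA * pE * pZ) (by decide +kernel) (by decide +kernel)
    show ([1, pA, pZ, pT, pE, pE * pZ, pA * pE, pA * pE * pZ].map (F.wcard V2)).sum = _
    simp only [List.map_cons, List.map_nil, List.sum_cons, List.sum_nil]
    rw [b1, b2, b3, b4, w1, show cnt0 (V2.map enc) = 20 by decide +kernel]
    ring
  rw [e2', show V2.length * (2 * (all6.filter fun f => stabL (V2.map enc) f).length) = 768 by
    decide +kernel] at s2'
  cases bA <;> cases bT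
  · -- untwisted
    have z3 : gz ∈ F.stabV V3 := F.exact_mem_stabV hZ (by decide +kernel)
    have tr3 : ∀ v ∈ V3, ∃ g ∈ F.stabV V3, cj g F.t = F.t * F.ι v := by
      refine fun v hv => F.exists_to (covers_of_check V3 [1, pZ] [1, pP, pP * pP]
        (by decide +kernel)) ?_ hv
      intro r hr
      simp only [List.mem_cons, List.not_mem_nil, or_false] at hr
      rcases hr with rfl | rfl
      · exact one _
      · exact ⟨gz, z3, hzt⟩
    have s3' := F.sign_stabV hG (by decide +kernel) (by decide +kernel) tr3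
    rw [← hn, card_stabS] at s3'
    have e3' : (V3.map (F.wcard V3)).sum = 20 + 3 * F.mz := by
      rw [← wz z3 (by decide +kernel)]
      have b3 := cj' (V := V3) (pP * pP) pZ (pA * pB) (by decide +kernel) (by decide +kernel)
      have b4 := cj' (V := V3) pP pZ (pA * pC) (by decide +kernel) (by decide +kernel)
      show ([1, pA * pB, pA * pC, pZ].map (F.wcard V3)).sum = _
      simp only [List.map_cons, List.map_nil, List.sum_cons, List.sum_nil]
      rw [b3, b4, w1, show cnt0 (V3.map enc) = 20 by decide +kernel]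
      ring
    rw [e3', show V3.length * (2 * (all6.filter fun f => stabL (V3.map enc) f).length) = 384 by
      decide +kernel] at s3'
    rw [show cntW eA (chA false) false (VN.map enc) = 12 by decide +kernel,
      show cntW eT (chT false) false (VN.map enc) = 12 by decide +kernel] at sN
    exact no_untwisted h8 (cong64 sZ) (cong128 sN) (cong384 s3')
  · rw [show cntW eA (chA false) false (V1.map enc) = 12 by decide +kernel,
      show cntW eT (chT true) true (V1.map enc) = 12 by decide +kernel] at s1'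
    rw [show cntW eA (chA false) false (V2.map enc) = 20 by decide +kernel,
      show cntW eT (chT true) true (V2.map enc) = 4 by decide +kernel] at s2'
    exact no_mixed (cong768 s1') (cong768 s2') (by decide)
  · rw [show cntW eA (chA true) true (V1.map enc) = 4 by decide +kernel,
      show cntW eT (chT false) false (V1.map enc) = 20 by decide +kernel] at s1'
    rw [show cntW eA (chA true) true (V2.map enc) = 12 by decide +kernel,
      show cntW eT (chT false) false (V2.map enc) = 12 by decide +kernel] at s2'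
    exact no_mixed (cong768 s1') (cong768 s2') (by decide)
  · -- both twisted
    have hle := F.mz_le hZ
    have a4 : gA ∈ F.stabV V4 := F.exact_mem_stabV hA (by decide +kernel)
    have tr4 : ∀ v ∈ V4, ∃ g ∈ F.stabV V4, cj g F.t = F.t * F.ι v := by
      refine fun v hv => F.exists_to (covers_of_check V4 [1, pA] [1, pP, pP * pP]
        (by decide +kernel)) ?_ hv
      intro r hr
      simp only [List.mem_cons, List.not_mem_nil, or_false] at hr
      rcases hr with rfl | rfl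
      · exact one _
      · exact ⟨gA, a4, hA.1⟩
    have s4' := F.sign_stabV hG (by decide +kernel) (by decide +kernel) tr4
    rw [← hn, card_stabS] at s4'
    have e4' : (V4.map (F.wcard V4)).sum = 20 + 3 * cntW eA (chA true) true (V4.map enc) := by
      rw [← wA a4]
      have b1 := cj' (V := V4) pP pA pB (by decide +kernel) (by decide +kernel)
      have b2 := cj' (V := V4) (pP * pP) pA pC (by decide +kernel) (by decide +kernel)
      show ([1, pA, pB, pC].map (F.wcard V4)).sum = _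
      simp only [List.map_cons, List.map_nil, List.sum_cons, List.sum_nil]
      rw [b1, b2, w1, show cnt0 (V4.map enc) = 20 by decide +kernel]
      ring
    rw [e4', show V4.length * (2 * (all6.filter fun f => stabL (V4.map enc) f).length) = 384 by
      decide +kernel, show cntW eA (chA true) true (V4.map enc) = 4 by decide +kernel] at s4'
    rw [show cntW eA (chA true) true (VN.map enc) = 4 by decide +kernel,
      show cntW eT (chT true) true (VN.map enc) = 4 by decide +kernel] at sN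
    exact no_twisted hle (cong64 sZ) h8 (cong128 sN) (cong384 s4')

end Cent

end Cfsg.Agent.Lib.InvCentS6
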