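/-
An involution with centraliser `Z₂ × S₆`, all `t ι l` conjugate to `t`: the case where the
element moving `t` to `t ι a` does not fix `ι a` (helper74, for S3146).
-/
import Cfsg.Agent.Lib.InvCentS6.DOne

set_option autoImplicit false

namespace Cfsg.Agent.Lib.InvCentS6

open Equiv Enc

universe u

theorem stabS_VN {σ : S6} (h : StabS VN σ) : σ * pZ = pZ * σ := by
  have key : all6.all (fun f => !stabL (VN.map enc) f || comB f eZ) = true := by decide +kernel
  have h' := all_check key σ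
  rw [stabS_iff] at h
  rw [comB_iff, enc_pZ]
  simpa [h] using h'

theorem zA_eq : pZ * pA = pT := by decide +kernel
theorem aT_eq : pA * pT = pZ := by decide +kernel
theorem tZ_eq : pT * pZ = pA := by decide +kernel

theorem four_mod {n m : ℕ} (hn : 4 ∣ n) (h : n % 8 = (12 + m) % 8) : 4 ∣ m := by omega
theorem k_eq {m : ℕ} (h : 4 ∣ m) : 45 * (m / 4) * 128 = m * 1440 := by omega
theorem eight_of_even {n m q : ℕ} (h : n % 8 = (12 + m) % 8) (hm : 4 ∣ m)
    (hq : 45 * (m / 4) = q + q) : n % 8 = 4 ∧ 8 ∣ m := by omega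
theorem congH0 {n W : ℕ} (h : (4 * ((64 : ℕ) : ℤ)) ∣ ((1440 : ℕ) : ℤ) * ((n : ℤ) - (W : ℕ))) :
    n % 8 = W % 8 := by omega
theorem no_zero {n : ℕ} (h4 : n % 8 = 4) (h : n % 8 = 0 % 8) : False := by omega
theorem no_all {n m : ℕ} (h4 : n % 8 = 4) (h8 : 8 ∣ m) (h : n % 8 = m % 8) : False := by omega

namespace Cent

variable {G : Type u} [Group G] (F : Cent G)

/-- The element `t^i ι σ`. -/
def el (i : Bool) (σ : S6) : G := if i then F.t * F.ι σ else F.ι σ

theorem el_false (σ : S6) : F.el false σ = F.ι σ := rfl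
theorem el_true (σ : S6) : F.el true σ = F.t * F.ι σ := rfl

theorem el_mul (i j : Bool) (σ ρ : S6) : F.el i σ * F.el j ρ = F.el (i ^^ j) (σ * ρ) := by
  cases i <;> cases j
  · exact (map_mul _ _ _).symm
  · show F.ι σ * (F.t * F.ι ρ) = F.t * F.ι (σ * ρ)
    rw [← mul_assoc, F.comm, mul_assoc, map_mul]
  · show F.t * F.ι σ * F.ι ρ = F.t * F.ι (σ * ρ)
    rw [mul_assoc, map_mul]
  · exact F.tmul_tmul σ ρ

theorem el_cases (i : Bool) (σ : S6) : F.el i σ = F.ι σ ∨ F.el i σ = F.t * F.ι σ := by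
  cases i
  · exact Or.inl rfl
  · exact Or.inr rfl

theorem cj_el (i j : Bool) (σ ρ : S6) : cj (F.el i σ) (F.el j ρ) = F.el j (σ * ρ * σ⁻¹) := by
  have h : ∀ x, cj (F.el i σ) (F.ι x) = F.ι (σ * x * σ⁻¹) := fun x => by
    cases i
    · exact F.cj_ι σ x
    · exact F.cj_tι_ι σ x
  have ht : cj (F.el i σ) F.t = F.t := by
    cases i
    · exact F.cj_ι_t σ
    · show cj (F.t * F.ι σ) F.t = F.t
      rw [← cj_cj, F.cj_ι_t, cj_of_comm rfl]
  cases j
  · exact h ρ
  · show cj _ (F.t * F.ι ρ) = F.t * _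
    rw [cj_mul, ht, h]

variable [Finite G]

/-- In a `2`-subgroup of `C(t)` all non-trivial squares are equal. -/
theorem squares_two {K : Subgroup G} (hK : K ≤ Subgroup.centralizer ({F.t} : Set G))
    (hcard : Nat.card K ∣ 2 ^ 7) {p q : G} (hp : p ∈ K) (hq : q ∈ K) (hp2 : p * p ≠ 1)
    (hq2 : q * q ≠ 1) : p * p = q * q := by
  haveI : Fact (Nat.Prime 2) := ⟨Nat.prime_two⟩
  set C := Subgroup.centralizer ({F.t} : Set G) with hC
  obtain ⟨m, -, hm⟩ := (Nat.dvd_prime_pow Nat.prime_two).mp hcard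
  have hp' : IsPGroup 2 (K.subgroupOf C) := IsPGroup.of_card (n := m) (by
    rw [Nat.card_congr (Subgroup.subgroupOfEquivOfLe hK).toEquiv, hm])
  obtain ⟨P, hP⟩ := hp'.exists_le_sylow
  have hfac : (Nat.card C).factorization 2 = 5 := by
    have hC0 : Nat.card C ≠ 0 := Nat.card_pos.ne'
    have h1 : 2 ^ 5 ∣ Nat.card C := F.card_T ▸ Subgroup.card_dvd_of_le F.T_le
    have h2 := (Nat.prime_two.pow_dvd_iff_le_factorization hC0).mp h1
    by_contra hne
    exact F.C_full ((Nat.prime_two.pow_dvd_iff_le_factorization hC0).mpr (by omega))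
  let P1 : Sylow 2 C := Sylow.ofCard (F.T.subgroupOf C) (by
    rw [Nat.card_congr (Subgroup.subgroupOfEquivOfLe F.T_le).toEquiv, F.card_T, hfac])
  obtain ⟨c, hc⟩ := MulAction.exists_smul_eq C P P1
  have hT : ∀ x ∈ K, cj (c : G) x ∈ F.T := by
    intro x hx
    have h3 : c * ⟨x, hK hx⟩ * c⁻¹ ∈ ((c • P : Sylow 2 C) : Subgroup C) := by
      rw [Sylow.coe_subgroup_smul]
      exact ⟨⟨x, hK hx⟩, hP hx, rfl⟩
    rw [hc] at h3
    exact h3
  have key : ∀ x ∈ K, x * x ≠ 1 → cj (c : G) (x * x) = F.ι pZ := by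
    intro x hx hx2
    obtain ⟨l, ⟨ha, hz⟩, hl⟩ := F.mem_T.mp (hT x hx)
    have hll : cj (c : G) (x * x) = F.ι (l * l) := by
      rw [cj_mul]
      rcases hl with e | e <;> rw [e]
      · rw [map_mul]
      · rw [F.tmul_tmul]
    rcases sq_tK ha hz with e | e
    · rw [e, map_one, ← cj_one (c : G)] at hll
      exact absurd (cj_inj hll) hx2
    · rw [hll, e]
  exact cj_inj ((key p hp hp2).trans (key q hq hq2).symm)

section CaseTwo

variable (hD : F.IsD) {n : G}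
include hD

theorem exists_beta (hN : ∀ x, x ∈ F.T ↔ n * x * n⁻¹ ∈ F.T) (hnt : cj n F.t = F.t * F.ι pA)
    (hna : cj n (F.ι pA) = F.ι pT) (hnz : cj n (F.ι pZ) = F.ι pZ) :
    ∃ (β : S6 → S6) (x y : S6), BetaData β x y ∧
      ∀ σ, σ * pZ = pZ * σ → cj n (F.ι σ) = F.ι (β σ) := by
  have gen : ∀ g : S6, Inv2 g → g * pZ = pZ * g →
      ∃ x, (Inv2 x ∧ x * pZ = pZ * x) ∧ cj n (F.ι g) = F.ι x := by
    intro g hg hgz
    have hga := comm_pA_of_pZ hgz
    obtain ⟨l, ⟨hla, hlz⟩, e | e⟩ := F.mem_T.mp ((hN _).mp (F.ι_mem_T hga hgz))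
    · refine ⟨l, ⟨⟨F.inj ?_, fun h => hg.2 (F.inj (cj_inj (g := n) ?_))⟩, hlz⟩, e⟩
      · rw [map_mul, ← show cj n (F.ι g) = F.ι l from e, ← cj_mul, ← map_mul, hg.1, map_one, cj_one]
      · rw [show cj n (F.ι g) = F.ι l from e, h, map_one, cj_one]
    · exfalso
      refine hD.hA g ((F.isX_cj n).mp ?_)
      rw [show cj n (F.ι g) = F.t * F.ι l from e]
      refine hD.hB l (F.inj ?_)
      rw [← F.tmul_tmul, ← show cj n (F.ι g) = F.t * F.ι l from e, ← cj_mul, ← map_mul, hg.1,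
        map_one, cj_one]
  obtain ⟨x, hx, ex⟩ := gen pB inv2_pB (by decide +kernel)
  obtain ⟨y, hy, ey⟩ := gen pE inv2_pE (by decide +kernel)
  have hite : ∀ (b : Bool) {a a' : S6}, cj n (F.ι a) = F.ι a' →
      cj n (F.ι (if b then a else 1)) = F.ι (if b then a' else 1) := by
    intro b a a' h
    cases b
    · show cj n (F.ι 1) = F.ι 1
      rw [map_one, cj_one]
    · exact h
  have himg : ∀ q, cj n (F.ι (gw pA pB pE q)) = F.ι (gw pT x y q) := by
    intro q
    simp only [gw, map_mul, cj_mul]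
    rw [hite q.1 hna, hite q.2.1 ex, hite q.2.2.1 ey, hite q.2.2.2 hnz]
  let β : S6 → S6 := fun σ => Function.invFun F.ι (cj n (F.ι σ))
  have hβq : ∀ q, β (gw pA pB pE q) = gw pT x y q := fun q => by
    show Function.invFun F.ι (cj n (F.ι (gw pA pB pE q))) = _
    rw [himg q]; exact Function.leftInverse_invFun F.inj _
  have hspec : ∀ σ, σ * pZ = pZ * σ → cj n (F.ι σ) = F.ι (β σ) := by
    intro σ hσ
    obtain ⟨q, rfl⟩ := exists_gw hσ
    rw [hβq, himg]
  refine ⟨β, x, y, ⟨hx, hy, F.inj ?_, hβq, ?_⟩, hspec⟩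
  · rw [map_mul, map_mul, map_mul, ← ex, ← ey, ← hnz, ← cj_mul, ← cj_mul, ← cj_mul, ← map_mul,
      ← map_mul, ← map_mul, show pE * (pB * pE) = pB * pZ by decide +kernel]
  · intro σ τ hσ hτ h
    exact F.inj (cj_inj (g := n) (by rw [hspec σ hσ, hspec τ hτ, h]))

/-- The translations along the orbit. -/
def vN : ZMod 4 → S6 := ![1, pA, pZ, pT]

theorem case_two (hG : ¬ ∃ H : Subgroup G, H.index = 2) (h4n : 4 ∣ Nat.card {u : G // F.IsX u})
    (hN : ∀ x, x ∈ F.T ↔ n * x * n⁻¹ ∈ F.T) (hnt : cj n F.t = F.t * F.ι pA)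
    (hna : cj n (F.ι pA) = F.ι pT) (hnz : cj n (F.ι pZ) = F.ι pZ) : False := by
  classical
  obtain ⟨β, x₀, y₀, hb, hβ⟩ := F.exists_beta hD hN hnt hna hnz
  have cmul : ∀ {a b : S6}, a * pZ = pZ * a → b * pZ = pZ * b → a * b * pZ = pZ * (a * b) :=
    fun ha hc => (Commute.mul_left (show Commute _ _ from ha) hc).eq
  have cinv : ∀ {a : S6}, a * pZ = pZ * a → a⁻¹ * pZ = pZ * a⁻¹ :=
    fun ha => ((show Commute _ _ from ha).inv_left).eq
  have ccj : ∀ {a b : S6}, a * pZ = pZ * a → b * pZ = pZ * b →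
      a * b * a⁻¹ * pZ = pZ * (a * b * a⁻¹) := fun ha hc => cmul (cmul ha hc) (cinv ha)
  have hnT : cj n (F.ι pT) = F.ι pA := by
    rw [show pT = pA * pZ from rfl, map_mul, cj_mul, hna, hnz, ← map_mul, tZ_eq]
  set n2 := n * n with hn2
  have h2t : cj n2 F.t = F.t * F.ι pZ := by
    rw [hn2, ← cj_cj, hnt, cj_mul, hnt, hna, mul_assoc, ← map_mul, aT_eq]
  have h2ι : ∀ σ, σ * pZ = pZ * σ → cj n2 (F.ι σ) = F.ι (β (β σ)) := fun σ hσ => by
    rw [hn2, ← cj_cj, hβ σ hσ, hβ _ (hb.closed hσ)]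
  have h2a : cj n2 (F.ι pA) = F.ι pA := by rw [hn2, ← cj_cj, hna, hnT]
  have h2z : cj n2 (F.ι pZ) = F.ι pZ := by rw [hn2, ← cj_cj, hnz, hnz]
  -- the fourth power
  have h4t : cj (n2 * n2) F.t = F.t := by
    rw [← cj_cj, h2t, cj_mul, h2t, h2z, mul_assoc, ← map_mul, inv2_pZ.1, map_one, mul_one]
  obtain ⟨τ, hτn, hτa⟩ := F.cj_fix_t h4t
  have hτz : τ * pZ = pZ * τ := by
    have h := (hτa pZ).1
    rw [← cj_cj, h2z, h2z] at h
    exact mul_inv_eq_iff_eq_mul.mp (F.inj h).symm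
  have hb4 : ∀ σ, σ * pZ = pZ * σ → β (β (β (β σ))) = τ * σ * τ⁻¹ := fun σ hσ => by
    apply F.inj
    rw [← (hτa σ).1, ← cj_cj, h2ι σ hσ, h2ι _ (hb.closed₂ hσ)]
  have hfix4 : cj n (n2 * n2) = n2 * n2 := by rw [hn2, cj]; group
  have hn4 : n2 * n2 = F.ι τ := by
    rcases hτn with e | e
    · exact e
    exfalso
    rw [e, cj_mul, hnt, hβ τ hτz, mul_assoc, ← map_mul] at hfix4
    exact four_fin hb hτz (F.tmul_inj hfix4) hb4
  have hτfix : β τ = τ := by
    rw [hn4, hβ τ hτz] at hfix4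
    exact F.inj hfix4
  -- the four translations
  let P : ZMod 4 → G := fun j => F.t * F.ι (vN j)
  have hP0 : P 0 = F.t := by show F.t * F.ι 1 = F.t; rw [map_one, mul_one]
  have hPinj : Function.Injective P := fun a b h => by
    have h' : vN a = vN b := F.tmul_inj h
    revert a b
    have key : ∀ a b, vN a = vN b → a = b := by decide +kernel
    exact fun a b _ h' => key a b h'
  have hnP : ∀ j, cj n (P j) = P (j + 1) := by
    intro j
    fin_cases j
    · show cj n (F.t * F.ι 1) = F.t * F.ι pA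
      rw [map_one, mul_one, hnt]
    · show cj n (F.t * F.ι pA) = F.t * F.ι pZ
      rw [cj_mul, hnt, hna, mul_assoc, ← map_mul, aT_eq]
    · show cj n (F.t * F.ι pZ) = F.t * F.ι pT
      rw [cj_mul, hnt, hnz, mul_assoc, ← map_mul]; rfl
    · show cj n (F.t * F.ι pT) = F.t * F.ι 1
      rw [cj_mul, hnt, hnT, mul_assoc, ← map_mul, inv2_pA.1]
  have hvmem : ∀ j, vN j ∈ VN := by decide +kernel
  have hvsurj : ∀ v ∈ VN, ∃ j, vN j = v := by decide +kernel
  have hnV : n ∈ F.stabV VN := fun v hv => by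
    obtain ⟨j, rfl⟩ := hvsurj v hv
    exact ⟨_, hvmem (j + 1), hnP j⟩
  have hn2V : n2 ∈ F.stabV VN := (F.stabV VN).mul_mem hnV hnV
  have hn3t : cj (n2 * n) F.t = F.t * F.ι pT := by
    rw [← cj_cj, hnt, cj_mul, h2t, h2a, mul_assoc, ← map_mul, zA_eq]
  have hrep : ∀ k : ZMod 4, ∃ r ∈ F.stabV VN, ∀ j, cj r (P j) = P (j + k) := by
    intro k
    fin_cases k
    · exact ⟨1, (F.stabV VN).one_mem, fun j => by rw [one_cj]; exact congrArg P (add_zero j).symm⟩
    · exact ⟨n, hnV, hnP⟩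
    · refine ⟨n2, hn2V, fun j => ?_⟩
      rw [hn2, ← cj_cj, hnP, hnP, add_assoc]; rfl
    · refine ⟨n2 * n, (F.stabV VN).mul_mem hn2V hnV, fun j => ?_⟩
      rw [hn2, ← cj_cj, ← cj_cj, hnP, hnP, hnP, add_assoc, add_assoc]; rfl
  have hTKN : TKL.all (stabL (VN.map enc)) = true := by decide +kernel
  have elV : ∀ i σ, σ * pZ = pZ * σ → F.el i σ ∈ F.stabV VN := fun i σ hσ =>
    (F.mem_stabV_cases (F.el_cases i σ)).mpr (stabS_TK VN hTKN hσ)
  have elP : ∀ i σ, σ * pZ = pZ * σ → ∀ j, cj (F.el i σ) (P j) = P j := fun i σ hσ j => by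
    show cj _ (F.el true (vN j)) = F.el true (vN j)
    rw [F.cj_el]
    congr 1
    have ha := comm_pA_of_pZ hσ
    have hT : σ * pT = pT * σ := (Commute.mul_right (show Commute _ _ from ha) hσ).eq
    fin_cases j
    · show σ * 1 * σ⁻¹ = 1
      group
    · exact mul_inv_eq_iff_eq_mul.mpr ha
    · exact mul_inv_eq_iff_eq_mul.mpr hσ
    · exact mul_inv_eq_iff_eq_mul.mpr hT
  have hdec : ∀ g ∈ F.stabV VN, ∃ k : ZMod 4, ∀ j, cj g (P j) = P (j + k) := by
    intro g hg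
    obtain ⟨w, hw, e⟩ := hg 1 (by decide +kernel)
    rw [map_one, mul_one] at e
    obtain ⟨k, rfl⟩ := hvsurj w hw
    obtain ⟨r, hr, hrP⟩ := hrep k
    have hrt : cj r F.t = cj g F.t := by
      rw [e]
      have := hrP 0
      rwa [hP0, zero_add] at this
    have hct : cj (r⁻¹ * g) F.t = F.t := by rw [← cj_cj, ← hrt, cj_inv_cj]
    obtain ⟨c, hc, -⟩ := F.cj_fix_t hct
    have hcz : c * pZ = pZ * c :=
      stabS_VN ((F.mem_stabV_cases hc).mp ((F.stabV VN).mul_mem ((F.stabV VN).inv_mem hr) hg))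
    obtain ⟨i, hi⟩ : ∃ i, r⁻¹ * g = F.el i c := by
      rcases hc with e' | e'
      · exact ⟨false, e'⟩
      · exact ⟨true, e'⟩
    refine ⟨k, fun j => ?_⟩
    rw [show g = r * (r⁻¹ * g) by group, ← cj_cj, hi, elP i c hcz, hrP]
  -- a conjugate of `t` in the stabiliser moves by an even amount
  have hXk : ∀ x, F.IsX x → ∀ k : ZMod 4, (∀ j, cj x (P j) = P (j + k)) → k = 0 ∨ k = 2 := by
    intro x hX k hk
    have hxt : cj x F.t = P k := by have := hk 0; rwa [hP0, zero_add] at this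
    have hmul : ∀ j, cj x (F.ι (vN j)) = F.ι (vN k)⁻¹ * F.ι (vN (j + k)) := by
      intro j
      have h := hk j
      rw [show P j = F.t * F.ι (vN j) from rfl, cj_mul, hxt] at h
      rw [show P k = F.t * F.ι (vN k) from rfl, show P (j + k) = F.t * F.ι (vN (j + k)) from rfl,
        mul_assoc] at h
      rw [← mul_left_cancel h, ← mul_assoc, ← map_mul, inv_mul_cancel, map_one, one_mul]
    have hk4 : ∀ c : ZMod 4, c = 0 ∨ c = 1 ∨ c = 2 ∨ c = 3 := by decide
    rcases hk4 k with rfl | rfl | rfl | rfl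
    · exact Or.inl rfl
    · exfalso
      have h1 := F.fix_of_move inv2_pA.1 hX hxt
      have h2 := hmul 1
      rw [show vN 1 = pA from rfl, h1, show vN (1 + 1) = pZ from rfl, ← map_mul] at h2
      exact absurd (F.inj h2) (by decide +kernel)
    · exact Or.inr rfl
    · exfalso
      have h1 := F.fix_of_move inv2_pT.1 hX hxt
      have h2 := hmul 3
      rw [show vN 3 = pT from rfl, h1, show vN (3 + 3) = pZ from rfl, ← map_mul] at h2
      exact absurd (F.inj h2) (by decide +kernel)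
  -- stabilisers
  have one : ∀ V, ∃ g ∈ F.stabV V, cj g F.t = F.t * F.ι 1 :=
    fun V => ⟨1, (F.stabV V).one_mem, by rw [one_cj, map_one, mul_one]⟩
  have hzZ : n2 ∈ F.stabV VZ := by
    intro v hv
    simp only [VZ, List.mem_cons, List.not_mem_nil, or_false] at hv
    rcases hv with rfl | rfl
    · exact ⟨pZ, by simp [VZ], by rw [map_one, mul_one, h2t]⟩
    · exact ⟨1, by simp [VZ], by
        rw [cj_mul, h2t, h2z, mul_assoc, ← map_mul, inv2_pZ.1]⟩
  have trZ : ∀ v ∈ VZ, ∃ g ∈ F.stabV VZ, cj g F.t = F.t * F.ι v := by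
    intro v hv
    simp only [VZ, List.mem_cons, List.not_mem_nil, or_false] at hv
    rcases hv with rfl | rfl
    · exact one _
    · exact ⟨n2, hzZ, h2t⟩
  have trN : ∀ v ∈ VN, ∃ g ∈ F.stabV VN, cj g F.t = F.t * F.ι v := by
    intro v hv
    simp only [VN, List.mem_cons, List.not_mem_nil, or_false] at hv
    rcases hv with rfl | rfl | rfl | rfl
    · exact one _
    · exact ⟨n, hnV, hnt⟩
    · exact ⟨n2, hn2V, h2t⟩
    · exact ⟨n2 * n, (F.stabV VN).mul_mem hn2V hnV, hn3t⟩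
  set N := Nat.card {u : G // F.IsX u} with hNdef
  have sZ := F.sign_stabV hG (by decide +kernel) (by decide +kernel) trZ
  rw [← hNdef, card_stabS] at sZ
  have eZ' : (VZ.map (F.wcard VZ)).sum = 12 + F.mz := by
    rw [← F.wcard_full h2t h2z hzZ (by decide +kernel)]
    simp only [VZ, List.map_cons, List.map_nil, List.sum_cons, List.sum_nil, add_zero]
    rw [F.wcard_one hD, card_cnt0, show cnt0 ([1, pZ].map enc) = 12 by decide +kernel]
  rw [eZ', show VZ.length * (2 * (all6.filter fun f => stabL (VZ.map enc) f).length) = 64 by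
    decide +kernel] at sZ
  have cZ := cong64 sZ
  have h4m := four_mod h4n cZ
  have hcardN : Nat.card (F.stabV VN) = 128 := by
    rw [F.card_stabV (by decide +kernel) (by decide +kernel) trN, card_stabS]
    decide +kernel
  -- transfer to `ℤ/4`
  choose kf hkf using fun g : F.stabV VN => hdec g.1 g.2
  have uniq : ∀ (g : F.stabV VN) (k : ZMod 4), (∀ j, cj g.1 (P j) = P (j + k)) → kf g = k := by
    intro g k hk
    have h := (hkf g 0).symm.trans (hk 0)
    simpa using hPinj h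
  let ρ : F.stabV VN →* Multiplicative (ZMod 4) :=
    MonoidHom.mk' (fun g => Multiplicative.ofAdd (kf g)) fun g h => by
      rw [← ofAdd_add]
      congr 1
      refine uniq _ _ fun j => ?_
      rw [Subgroup.coe_mul, ← cj_cj, hkf h j, hkf g, add_assoc, add_comm (kf h)]
  have hρ2 : ∀ u, (IsConj F.t u ∧ ∃ h : u ∈ F.stabV VN, ρ ⟨u, h⟩ = Multiplicative.ofAdd 2) ↔
      (F.IsX u ∧ cj u F.t = F.t * F.ι pZ) := by
    intro u
    constructor
    · rintro ⟨hX, h, e⟩
      have e' : kf ⟨u, h⟩ = 2 := Multiplicative.ofAdd.injective e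
      have := hkf ⟨u, h⟩ 0
      rw [hP0, zero_add, e'] at this
      exact ⟨hX, this⟩
    · rintro ⟨hX, hu⟩
      obtain ⟨σ, hσ, e⟩ := F.cent_of_move h2t h2z hX hu
      have hmem : u ∈ F.stabV VN := by
        have := (F.stabV VN).mul_mem hn2V ((F.mem_stabV_cases e).mpr (stabS_TK VN hTKN hσ))
        rwa [mul_inv_cancel_left] at this
      refine ⟨hX, hmem, congrArg Multiplicative.ofAdd ?_⟩
      have := hkf ⟨u, hmem⟩ 0
      rw [hP0, zero_add] at this
      exact hPinj (this.symm.trans hu)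
  have hc2 : (Multiplicative.ofAdd (2 : ZMod 4)) ≠ 1 := by decide
  have hk := Tools.transfer_even hG F.t_sq (F.stabV VN) ρ hc2 (fun x hx hX => by
      rcases hXk x hX _ (hkf ⟨x, hx⟩) with e | e
      · exact Or.inl (show Multiplicative.ofAdd (kf ⟨x, hx⟩) = 1 by rw [e]; rfl)
      · exact Or.inr (show Multiplicative.ofAdd (kf ⟨x, hx⟩) = _ by rw [e]))
    (45 * (F.mz / 4)) (by
      rw [hcardN, F.card_C, Nat.card_congr (Equiv.subtypeEquivRight hρ2)]
      exact k_eq h4m)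
  obtain ⟨q, hq⟩ : Even (45 * (F.mz / 4)) := by
    rcases Nat.even_or_odd (45 * (F.mz / 4)) with h | ⟨q, hq⟩
    · exact h
    · exfalso
      rw [hq, pow_succ, pow_mul, show Multiplicative.ofAdd (2 : ZMod 4) ^ 2 = 1 by decide,
        one_pow, one_mul] at hk
      exact hc2 hk
  obtain ⟨hN4, hm8⟩ := eight_of_even cZ h4m hq
  -- the subgroup of index two
  let A : Subgroup G := (Subgroup.centralizer ({pZ} : Set S6)).map F.ι
  have memA : ∀ {g : G}, g ∈ A ↔ ∃ σ, σ * pZ = pZ * σ ∧ g = F.ι σ := by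
    intro g
    constructor
    · rintro ⟨σ, hσ, rfl⟩; exact ⟨σ, Subgroup.mem_centralizer_singleton_iff.mp hσ, rfl⟩
    · rintro ⟨σ, hσ, rfl⟩; exact ⟨σ, Subgroup.mem_centralizer_singleton_iff.mpr hσ, rfl⟩
  have hninv : n⁻¹ = F.ι τ⁻¹ * (n2 * n) := by
    rw [map_inv, ← hn4, hn2]; group
  have hnA : Subgroup.zpowers n ≤ Subgroup.normalizer (A : Set G) := by
    rw [Subgroup.zpowers_le, Subgroup.mem_normalizer_iff]
    intro g
    constructor
    · intro hg
      obtain ⟨σ, hσ, rfl⟩ := memA.mp hg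
      exact memA.mpr ⟨_, hb.closed hσ, hβ σ hσ⟩
    · intro hg
      obtain ⟨σ, hσ, e⟩ := memA.mp hg
      have : g = cj n⁻¹ (F.ι σ) := by rw [← e]; exact (cj_inv_cj _ _).symm
      rw [this, hninv, ← cj_cj, ← cj_cj, hβ σ hσ, h2ι _ (hb.closed hσ), F.cj_ι]
      exact memA.mpr ⟨_, ccj (cinv hτz) (hb.closed₂ (hb.closed hσ)), rfl⟩
  set H0 : Subgroup G := Subgroup.zpowers n ⊔ A with hH0
  have memH0 : ∀ g ∈ H0, ∃ (r : Fin 4) (σ : S6), σ * pZ = pZ * σ ∧ g = n ^ (r : ℕ) * F.ι σ := by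
    intro g hg
    rw [← SetLike.mem_coe, hH0, Subgroup.coe_mul_of_left_le_normalizer_right _ _ hnA,
      Set.mem_mul] at hg
    obtain ⟨a, ha, b, hb', rfl⟩ := hg
    obtain ⟨k, rfl⟩ := Subgroup.mem_zpowers_iff.mp ha
    obtain ⟨σ, hσ, rfl⟩ := memA.mp hb'
    have hmod : 0 ≤ k % 4 ∧ k % 4 < 4 :=
      ⟨Int.emod_nonneg _ (by norm_num), Int.emod_lt_of_pos _ (by norm_num)⟩
    refine ⟨⟨(k % 4).toNat, by omega⟩, τ ^ (k / 4) * σ,
      cmul ((show Commute τ pZ from hτz).zpow_left _).eq hσ, ?_⟩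
    have h4 : n ^ (4 : ℤ) = F.ι τ := by
      rw [← hn4, hn2, zpow_ofNat]; simp [pow_succ, mul_assoc]
    show n ^ k * F.ι σ = n ^ (k % 4).toNat * F.ι (τ ^ (k / 4) * σ)
    rw [map_mul, map_zpow, ← h4, ← zpow_natCast, Int.toNat_of_nonneg hmod.1, ← zpow_mul,
      ← mul_assoc, ← zpow_add, show k % 4 + 4 * (k / 4) = k by omega]
  have hH0mem : ∀ (r : ℕ) (σ : S6), σ * pZ = pZ * σ → n ^ r * F.ι σ ∈ H0 := fun r σ hσ =>
    H0.mul_mem (Subgroup.mem_sup_left (Subgroup.npow_mem_zpowers n r))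
      (Subgroup.mem_sup_right (memA.mpr ⟨σ, hσ, rfl⟩))
  have hpow : ∀ r : ℕ, ∀ j, cj (n ^ r) (P j) = P (j + r) := by
    intro r
    induction r with
    | zero => intro j; rw [pow_zero, one_cj, Nat.cast_zero, add_zero]
    | succ r ih =>
      intro j
      rw [pow_succ, ← cj_cj, hnP, ih]
      push_cast
      rw [add_assoc, add_comm (1 : ZMod 4)]
  have hH0P : ∀ (r : ℕ) (σ : S6), σ * pZ = pZ * σ → ∀ j, cj (n ^ r * F.ι σ) (P j) = P (j + r) :=
    fun r σ hσ j => by rw [← cj_cj, ← F.el_false, elP false σ hσ j, hpow]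
  have hH0card : Nat.card H0 = 64 := by
    have e : Nat.card (Fin 4 × {σ : S6 // σ * pZ = pZ * σ}) = 64 := by
      rw [Nat.card_prod, card_cent_pZ]; simp
    rw [← e]
    refine (Nat.card_congr (Equiv.ofBijective (fun p : Fin 4 × {σ : S6 // σ * pZ = pZ * σ} =>
      (⟨n ^ (p.1 : ℕ) * F.ι p.2.1, hH0mem _ _ p.2.2⟩ : H0)) ⟨?_, ?_⟩)).symm
    · rintro ⟨r, a⟩ ⟨r', a'⟩ h
      have h' : n ^ (r : ℕ) * F.ι a.1 = n ^ (r' : ℕ) * F.ι a'.1 := congrArg Subtype.val h
      have hr : ((r : ℕ) : ZMod 4) = (r' : ℕ) := by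
        have h1 := hH0P r a.1 a.2 0
        rw [h', hH0P r' a'.1 a'.2 0] at h1
        simpa using (hPinj h1).symm
      have hrr : r = r' := by
        revert hr; revert r r'
        have key : ∀ r r' : Fin 4, ((r : ℕ) : ZMod 4) = (r' : ℕ) → r = r' := by decide
        exact fun r r' _ _ hr => key r r' hr
      subst hrr
      exact Prod.ext rfl (Subtype.ext (F.inj (mul_left_cancel h')))
    · rintro ⟨g, hg⟩
      obtain ⟨r, σ, hσ, rfl⟩ := memH0 g hg
      exact ⟨(r, ⟨σ, hσ⟩), rfl⟩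
  have hXH0 : ∀ g ∈ H0, F.IsX g →
      ∃ σ, σ * pZ = pZ * σ ∧ g = n2 * F.ι σ := by
    intro g hg hX
    obtain ⟨r, σ, hσ, rfl⟩ := memH0 g hg
    refine ⟨σ, hσ, ?_⟩
    rcases hXk _ hX _ (hH0P r σ hσ) with e | e
    · exfalso
      have : r = 0 := by
        revert e
        have key : ∀ r : Fin 4, ((r : ℕ) : ZMod 4) = 0 → r = 0 := by decide
        exact key r
      subst this
      exact hD.hA σ (by simpa using hX)
    · have : r = 2 := by
        revert e
        have key : ∀ r : Fin 4, ((r : ℕ) : ZMod 4) = 2 → r = 2 := by decide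
        exact key r
      subst this
      show n ^ 2 * F.ι σ = n2 * F.ι σ
      rw [sq, hn2]
  have sH := Tools.parity_sub hG F.t_sq H0
  rw [hH0card, F.card_C] at sH
  have cH := congH0 sH
  rw [show Nat.card {u : G // IsConj F.t u} = N from rfl] at cH
  -- two conjugates of `t`
  obtain ⟨u, hu, hXu⟩ : ∃ u, u * pZ = pZ * u ∧ F.IsX (n2 * F.ι u) := by
    by_contra hne
    have : IsEmpty {u : G // IsConj F.t u ∧ u ∈ H0} := ⟨fun g => hne (by
      obtain ⟨σ, hσ, e⟩ := hXH0 _ g.2.2 g.2.1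
      exact ⟨σ, hσ, e ▸ g.2.1⟩)⟩
    rw [Nat.card_of_isEmpty (α := {u : G // IsConj F.t u ∧ u ∈ H0})] at cH
    exact no_zero hN4 cH
  obtain ⟨v, hv, hXv⟩ : ∃ v, v * pZ = pZ * v ∧ F.IsX (n2 * (F.t * F.ι v)) := by
    by_contra hne
    have hiff : ∀ g, (IsConj F.t g ∧ g ∈ H0) ↔ (F.IsX g ∧ cj g F.t = F.t * F.ι pZ) := by
      intro g
      constructor
      · rintro ⟨hX, hg⟩
        obtain ⟨σ, hσ, rfl⟩ := hXH0 g hg hX
        exact ⟨hX, by rw [← cj_cj, F.cj_ι_t, h2t]⟩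
      · rintro ⟨hX, hg⟩
        obtain ⟨σ, hσ, e | e⟩ := F.cent_of_move h2t h2z hX hg
        · refine ⟨hX, ?_⟩
          rw [show g = n2 * F.ι σ by rw [← e, mul_inv_cancel_left], hn2, ← sq]
          exact hH0mem 2 σ hσ
        · exact absurd ⟨σ, hσ, by rw [← e, mul_inv_cancel_left]; exact hX⟩ hne
    rw [Nat.card_congr (Equiv.subtypeEquivRight hiff)] at cH
    exact no_all hN4 hm8 cH
  have h2el : ∀ i σ, σ * pZ = pZ * σ → cj n2 (F.el i σ) = F.el i (zpS i (β (β σ))) := by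
    intro i σ hσ
    cases i
    · exact h2ι σ hσ
    · show cj n2 (F.t * F.ι σ) = F.t * F.ι (pZ * β (β σ))
      rw [cj_mul, h2t, h2ι σ hσ, mul_assoc, ← map_mul]
  have h1el : ∀ i σ, σ * pZ = pZ * σ → cj n (F.el i σ) = F.el i (apS i (β σ)) := by
    intro i σ hσ
    cases i
    · exact hβ σ hσ
    · show cj n (F.t * F.ι σ) = F.t * F.ι (pA * β σ)
      rw [cj_mul, hnt, hβ σ hσ, mul_assoc, ← map_mul]
  have sq_el : ∀ i σ, σ * pZ = pZ * σ → F.IsX (n2 * F.el i σ) →
      zpS i (β (β σ)) * τ * σ = 1 := by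
    intro i σ hσ hX
    apply F.inj
    have h := F.isX_sq hX
    rw [show n2 * F.el i σ * (n2 * F.el i σ) = cj n2 (F.el i σ) * (n2 * n2) * F.el i σ by
      simp only [cj]; group, h2el i σ hσ, hn4, ← F.el_false τ, F.el_mul, F.el_mul] at h
    simpa [el] using h
  rcases two_fin hb hτz hu hv hτfix hb4 (sq_el false u hu hXu) (sq_el true v hv hXv) with
    ⟨l, hl, hlz, hl2, hlc⟩ | ⟨p, q', hpq, s, σ, hσ, hsz, hs2, hsc, hσ2, hσc⟩ |
    ⟨i, w, hiw, ⟨k, r, hrz, hr2, hrc⟩, j, s, hsz, hsc⟩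
  · -- the two conjugates differ by a commuting conjugate
    have hc : cj (n2 * F.ι u) (F.el true l) = F.el true l := by
      rw [← cj_cj, ← F.el_false u, F.cj_el, h2el _ _ (ccj hu hlz)]
      exact congrArg (F.el true) hlc
    have h1 := (F.mulX hD hXu (u := F.t * F.ι l) (by rw [F.tmul_tmul, hl2, map_one])
      (cj_eq_iff.mp hc)).mp (by
        rw [mul_assoc, ← mul_assoc (F.ι u), F.comm, mul_assoc F.t, ← map_mul, hl]; exact hXv)
    exact h1 (hD.hB l hl2)
  · obtain ⟨ip, iq, hp, hq', hpz, hqz, hone⟩ : ∃ ip iq, F.IsX (n2 * F.el ip p) ∧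
        F.IsX (n2 * F.el iq q') ∧ p * pZ = pZ * p ∧ q' * pZ = pZ * q' ∧ (ip ^^ iq) = true := by
      rcases hpq with ⟨rfl, rfl⟩ | ⟨rfl, rfl⟩
      · exact ⟨false, true, hXu, hXv, hu, hv, rfl⟩
      · exact ⟨true, false, hXv, hXu, hv, hu, rfl⟩
    have hσz : σ * pZ = pZ * σ := hσ ▸ cmul (cmul (cinv hpz) hqz) hsz
    have hcq : cj (n2 * F.el iq q') (F.el true s) = F.el true s := by
      rw [← cj_cj, F.cj_el, h2el _ _ (ccj hqz hsz)]
      exact congrArg (F.el true) hsc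
    have hno : ¬ F.IsX (n2 * F.el iq q' * F.el true s) := fun h =>
      (F.mulX hD hq' (by rw [el_true, F.tmul_tmul, hs2, map_one]) (cj_eq_iff.mp hcq)).mp h
        (hD.hB s hs2)
    have hcp : cj (n2 * F.el ip p) (F.el false σ) = F.el false σ := by
      rw [← cj_cj, F.cj_el, h2el _ _ (ccj hpz hσz)]
      exact congrArg (F.el false) hσc
    have hyes := (F.mulX hD hp (by rw [el_false, ← map_mul, hσ2, map_one])
      (cj_eq_iff.mp hcp)).mpr (hD.hA σ)
    apply hno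
    rw [mul_assoc, F.el_mul] at hyes ⊢
    rw [show (iq ^^ true) = (ip ^^ false) by revert hone; cases ip <;> cases iq <;> simp,
      show q' * s = p * σ by rw [hσ]; group]
    exact hyes
  · obtain ⟨hX, hwz⟩ : F.IsX (n2 * F.el i w) ∧ w * pZ = pZ * w := by
      rcases hiw with ⟨rfl, rfl⟩ | ⟨rfl, rfl⟩
      · exact ⟨hXu, hu⟩
      · exact ⟨hXv, hv⟩
    set x := n2 * F.el i w with hx
    set h := n * F.el j s with hh
    set q' := F.el k r with hq'
    have hqx : cj x q' = q' := by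
      rw [hx, hq', ← cj_cj, F.cj_el, h2el _ _ (ccj hwz hrz), hrc]
    have hhx : h * x = x * h := by
      have key : F.el j s * cj n2 (F.el i w) = cj n (F.el i w) * cj n2 (F.el j s) := by
        rw [h2el i w hwz, h1el i w hwz, h2el j s hsz, F.el_mul, F.el_mul, hsc, Bool.xor_comm]
      calc h * x = n * (F.el j s * cj n2 (F.el i w)) * n2 := by
            simp only [hh, hx, cj]; group
        _ = n * (cj n (F.el i w) * cj n2 (F.el j s)) * n2 := by rw [key]
        _ = x * h := by simp only [hh, hx, hn2, cj]; group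
    have hht : cj h F.t = F.t * F.ι pA := by
      rw [hh, ← cj_cj, show cj (F.el j s) F.t = F.t by
        have := elP j s hsz 0
        rwa [hP0] at this, hnt]
    have hhh : cj (h * h) F.t = F.t * F.ι pZ := by
      rw [← cj_cj, hht, cj_mul, hht, hh, ← cj_cj]
      rw [show cj (F.el j s) (F.ι pA) = F.ι pA by
        rw [← F.el_false, F.cj_el, mul_inv_eq_iff_eq_mul.mpr (comm_pA_of_pZ hsz)]]
      rw [hna, mul_assoc, ← map_mul, aT_eq]
    have hqq : q' * q' = F.ι (r * r) := by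
      rw [hq', F.el_mul, Bool.xor_self]; rfl
    have hqt : cj (q' * q') F.t = F.t := by rw [hqq, F.cj_ι_t]
    have hne : F.t * F.ι pZ ≠ F.t := fun e => inv2_pZ.2 (F.inj
      ((mul_left_cancel (e.trans (mul_one _).symm)).trans (map_one F.ι).symm))
    obtain ⟨g, hg⟩ := F.exists_cj hX
    let K : Subgroup G := F.stabV VN ⊓ Subgroup.centralizer ({x} : Set G)
    let K' : Subgroup G := K.map (MulAut.conj g⁻¹).toMonoidHom
    have hKC : K' ≤ Subgroup.centralizer ({F.t} : Set G) := by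
      rintro _ ⟨y, hy, rfl⟩
      rw [Subgroup.mem_centralizer_singleton_iff]
      show cj g⁻¹ y * F.t = F.t * cj g⁻¹ y
      rw [← cj_symm hg, cj_comm_iff]
      exact Subgroup.mem_centralizer_singleton_iff.mp hy.2
    have hK'card : Nat.card K' ∣ 2 ^ 7 := by
      rw [← Nat.card_congr (K.equivMapOfInjective _ (MulAut.conj g⁻¹).injective).toEquiv,
        show (2 : ℕ) ^ 7 = 128 from rfl, ← hcardN]
      exact Subgroup.card_dvd_of_le inf_le_left
    have hmemh : h ∈ K := ⟨(F.stabV VN).mul_mem hnV (elV j s hsz),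
      Subgroup.mem_centralizer_singleton_iff.mpr hhx⟩
    have hmemq : q' ∈ K := ⟨elV k r hrz,
      Subgroup.mem_centralizer_singleton_iff.mpr (cj_eq_iff.mp hqx).symm⟩
    have hne1 : h * h ≠ 1 := fun e => hne (by rw [← hhh, e, one_cj])
    have hne2 : q' * q' ≠ 1 := fun e => hr2 (F.inj (by rw [← hqq, e, map_one]))
    have heq := F.squares_two hKC hK'card (p := cj g⁻¹ h) (q := cj g⁻¹ q') ⟨h, hmemh, rfl⟩
      ⟨q', hmemq, rfl⟩ (fun e => hne1 (cj_inj (g := g⁻¹) (by rw [cj_mul, e, cj_one])))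
      (fun e => hne2 (cj_inj (g := g⁻¹) (by rw [cj_mul, e, cj_one])))
    rw [← cj_mul, ← cj_mul] at heq
    exact hne (by rw [← hhh, cj_inj heq, hqt])

end CaseTwo

end Cent

end Cfsg.Agent.Lib.InvCentS6
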