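/-
An involution with centraliser `Z₂ × S₆` forces a subgroup of index two (helper74, for S3146).
-/
import Cfsg.Agent.Lib.InvCentS6.DTwo

set_option autoImplicit false

namespace Cfsg.Agent.Lib.InvCentS6

open Equiv Enc

universe u

namespace Cent

variable {G : Type u} [Group G] (F : Cent G)

theorem isD_of (hA2 : ¬ F.IsX (F.ι pA)) (hA4 : ¬ F.IsX (F.ι pZ)) (hA6 : ¬ F.IsX (F.ι pT))
    (hB2 : F.IsX (F.t * F.ι pA)) (hB4 : F.IsX (F.t * F.ι pZ)) (hB6 : F.IsX (F.t * F.ι pT)) :
    F.IsD where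
  hA l h := by
    have hl := F.A_inv2 h
    rcases mv_of_inv2 hl with e | e | e
    · exact hA2 ((F.A_class hl inv2_pA (by rw [e, mv_pA])).mp h)
    · exact hA4 ((F.A_class hl inv2_pZ (by rw [e, mv_pZ])).mp h)
    · exact hA6 ((F.A_class hl inv2_pT (by rw [e, mv_pT])).mp h)
  hB l h := by
    by_cases h1 : l = 1
    · rw [h1, map_one, mul_one]; exact F.isX_t
    have hl : Inv2 l := ⟨h, h1⟩
    rcases mv_of_inv2 hl with e | e | e
    · exact (F.B_class hl inv2_pA (by rw [e, mv_pA])).mpr hB2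
    · exact (F.B_class hl inv2_pZ (by rw [e, mv_pZ])).mpr hB4
    · exact (F.B_class hl inv2_pT (by rw [e, mv_pT])).mpr hB6

/-- All `t ι l` conjugate to `t` and no `ι l`: impossible. -/
theorem no_D [Finite G] (hD : F.IsD) (hG : ¬ ∃ H : Subgroup G, H.index = 2) : False := by
  have hev := F.not_odd hG
  obtain ⟨-, -, -, h4⟩ := F.even_case hG hev
  have h4n : 4 ∣ Nat.card {u : G // F.IsX u} := h4.mpr fun h =>
    hD.hA pA (h.mpr (hD.hB pA inv2_pA.1))
  have htc : ∀ x ∈ F.T, F.t * x = x * F.t :=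
    fun x hx => (Subgroup.mem_centralizer_singleton_iff.mp (F.T_le hx)).symm
  have getn : ∀ v, (v = 1 ∨ v = pA ∨ v = pZ ∨ v = pT) → v * v = 1 →
      ∃ n : G, cj n F.t = F.t * F.ι v ∧ (∀ x, x ∈ F.T ↔ n * x * n⁻¹ ∈ F.T) ∧
        cj n (F.ι pZ) = F.ι pZ ∧
        (cj n (F.ι pA) = F.ι pA ∨ cj n (F.ι pA) = F.ι pT) := by
    intro v hv hv2
    obtain ⟨n, hn, hT⟩ := InvCentS7.Tools.exists_normalizing F.card_T F.C_full F.T_le
      (hD.hB v hv2) (fun x hx => Subgroup.mem_centralizer_singleton_iff.mpr (by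
        rw [← mul_assoc x, ← htc x hx, mul_assoc, ← F.ι_central_T hv hx, ← mul_assoc]))
    have hz : cj n (F.ι pZ) = F.ι pZ := F.z_fixed (fun x hx => (hT x).mp hx)
    refine ⟨n, hn, hT, hz, ?_⟩
    have ha : F.ι pA ∈ F.T := F.ι_mem_T rfl (by decide +kernel)
    have hc : ∀ x ∈ F.T, cj n (F.ι pA) * x = x * cj n (F.ι pA) := by
      intro x hx
      have hy : cj n⁻¹ x ∈ F.T := (hT _).mpr (by
        show cj n (cj n⁻¹ x) ∈ F.T
        rw [cj_cj_inv]; exact hx)
      have h := cj_comm_iff (g := n).mpr (F.ι_central_T (Or.inr (Or.inl rfl)) hy)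
      rwa [cj_cj_inv] at h
    have hnX : ¬ F.IsX (cj n (F.ι pA)) := fun h => hD.hA pA ((F.isX_cj n).mp h)
    obtain ⟨l, hl, e | e⟩ := F.central_T ((hT _).mp ha) hc
    · rw [show n * F.ι pA * n⁻¹ = cj n (F.ι pA) from rfl] at e
      rcases hl with rfl | rfl | rfl | rfl
      · rw [map_one, ← cj_one n] at e
        exact absurd (F.inj ((cj_inj e).trans (map_one F.ι).symm)) inv2_pA.2
      · exact Or.inl e
      · exact absurd (F.inj (cj_inj (e.trans hz.symm))) (by decide +kernel)
      · exact Or.inr e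
    · rw [show n * F.ι pA * n⁻¹ = cj n (F.ι pA) from rfl] at e
      exact absurd (e ▸ hD.hB l (by rcases hl with rfl | rfl | rfl | rfl <;> decide +kernel)) hnX
  obtain ⟨nA, hAt, hAT, hAz, hAa⟩ := getn pA (Or.inr (Or.inl rfl)) inv2_pA.1
  rcases hAa with hAa | hAa
  · obtain ⟨nT, hTt, hTT, hTz, hTa⟩ := getn pT (Or.inr (Or.inr (Or.inr rfl))) inv2_pT.1
    have hTa' : cj nT (F.ι pA) = F.ι pA := by
      refine hTa.resolve_right fun h => ?_
      have ht : cj (nT * nA) F.t = F.t := by
        rw [← cj_cj, hAt, cj_mul, hTt, h, mul_assoc, ← map_mul, inv2_pT.1, map_one, mul_one]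
      obtain ⟨c, -, hc⟩ := F.cj_fix_t ht
      have h1 := (hc pA).1
      rw [← cj_cj, hAa, h] at h1
      have h2 := congrArg mv (F.inj h1)
      rw [mv_pT, mv_conj, mv_pA] at h2
      omega
    have hTT' : cj nT (F.ι pT) = F.ι pT := by
      rw [show pT = pA * pZ from rfl, map_mul, cj_mul, hTa', hTz]
    obtain ⟨bA, gA, hgA, hgA2⟩ := F.exists_gA hD hAt hAa
    obtain ⟨bT, gT, hgT, hgT2⟩ := F.exists_gT hD hTt hTT'
    exact F.case_one hD hG hgA hgA2 hgT hgT2
  · exact F.case_two hD hG h4n hAT hAt hAa hAz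

include F in
/-- A finite group with a `Cent` setting has a subgroup of index two. -/
theorem exists_index_two [Finite G] : ∃ H : Subgroup G, H.index = 2 := by
  by_contra hG
  have hev := F.not_odd hG
  obtain ⟨h4, hA, hB, -⟩ := F.even_case hG hev
  have hz := F.not_IsX_z hG hev
  by_cases h2 : F.IsX (F.ι pA) <;> by_cases h2' : F.IsX (F.t * F.ι pA)
  · exact F.no_six hG h2 h2'
  · have eA : F.twist.ι pA = F.t * F.ι pA := F.twist_odd inv2_pA (by rw [mv_pA]; decide)
    have eT : F.twist.ι pT = F.t * F.ι pT := F.twist_odd inv2_pT (by rw [mv_pT]; decide)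
    have eZ : F.twist.ι pZ = F.ι pZ := F.twist_even inv2_pZ mv_pZ
    refine F.twist.no_D ?_ hG
    refine F.twist.isD_of ?_ ?_ ?_ ?_ ?_ ?_
    · rw [eA]; exact h2'
    · rw [eZ]; exact hz
    · rw [eT]; exact fun h => h2' (hB.mpr h)
    · show F.IsX (F.t * F.twist.ι pA)
      rw [eA, ← mul_assoc, F.t_sq, one_mul]; exact h2
    · show F.IsX (F.t * F.twist.ι pZ)
      rw [eZ]; exact h4
    · show F.IsX (F.t * F.twist.ι pT)
      rw [eT, ← mul_assoc, F.t_sq, one_mul]; exact hA.mp h2
  · exact F.no_D (F.isD_of h2 hz (fun h => h2 (hA.mpr h)) h2' h4 (hB.mp h2')) hG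
  · exact F.no_m0 hG h2 h2'

end Cent

/-- The centraliser of an involution being `Z₂ × S₆` gives a `Cent` setting. -/
theorem exists_cent {G : Type u} [Group G] (t : G) (ht : orderOf t = 2)
    (e : ↥(Subgroup.centralizer ({t} : Set G)) ≃* Multiplicative (ZMod 2) × S6) :
    Nonempty (Cent G) := by
  have ht2 : t * t = 1 := by rw [← sq, ← ht]; exact pow_orderOf_eq_one t
  have ht1 : t ≠ 1 := fun h => by rw [h, orderOf_one] at ht; omega
  set t' : Subgroup.centralizer ({t} : Set G) :=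
    ⟨t, Subgroup.mem_centralizer_singleton_iff.mpr rfl⟩
  have ht' : ∀ x, t' * x = x * t' := fun x =>
    Subtype.ext (Subgroup.mem_centralizer_singleton_iff.mp x.2).symm
  have hz : ∀ σ : S6, (e t').2 * σ = σ * (e t').2 := by
    intro σ
    have := congrArg e (ht' (e.symm (1, σ)))
    rw [map_mul, map_mul, MulEquiv.apply_symm_apply] at this
    exact congrArg Prod.snd this
  have h1 : (e t').2 = 1 := center_trivial hz
  have h0 : (e t').1 ≠ 1 := by
    intro h
    apply ht1
    have : e t' = e 1 := by rw [map_one]; exact Prod.ext h h1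
    exact congrArg Subtype.val (e.injective this)
  have htwo : ∀ i : Multiplicative (ZMod 2), i = 1 ∨ i = (e t').1 := by
    intro i
    revert h0
    generalize (e t').1 = j
    revert i j
    decide
  refine ⟨{
    t := t
    ι := (Subgroup.subtype _).comp (e.symm.toMonoidHom.comp (MonoidHom.inr _ _))
    t_sq := ht2
    t_ne := ht1
    inj := fun l m h => ?_
    comm := fun l => Subgroup.mem_centralizer_singleton_iff.mp (e.symm (1, l)).2
    split := fun g hg => ?_
    t_not := fun l h => ?_ }⟩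
  · have := e.symm.injective (Subtype.ext h : e.symm (1, l) = e.symm (1, m))
    exact congrArg Prod.snd this
  · set g' : Subgroup.centralizer ({t} : Set G) :=
      ⟨g, Subgroup.mem_centralizer_singleton_iff.mpr hg⟩
    refine ⟨(e g').2, ?_⟩
    rcases htwo (e g').1 with h | h
    · left
      show g = ((e.symm (1, (e g').2) : Subgroup.centralizer ({t} : Set G)) : G)
      rw [← h, Prod.mk.eta, MulEquiv.symm_apply_apply]
    · right
      show g = (t' : G) * ((e.symm (1, (e g').2) : Subgroup.centralizer ({t} : Set G)) : G)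
      rw [← Subgroup.coe_mul]
      show (g' : G) = _
      refine congrArg Subtype.val ?_
      apply e.injective
      rw [map_mul, MulEquiv.apply_symm_apply]
      exact Prod.ext (by rw [Prod.fst_mul, mul_one]; exact h) (by rw [Prod.snd_mul, h1, one_mul])
  · have : e.symm (1, l) = t' := Subtype.ext h
    apply h0
    rw [← this, MulEquiv.apply_symm_apply]

end Cfsg.Agent.Lib.InvCentS6
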